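import Cfsg.Agent.H1.LieGrp
import Cfsg.Agent.H1.ThompsonFPF

/-! Higman's theorem on fixed-point-free automorphisms of prime order. -/

set_option autoImplicit false

namespace Cfsg.Agent.H1.Lie

open Subgroup

universe u

variable {G : Type u} [Group G] [Finite G]

theorem bound_higman (p : ℕ) [Fact p.Prime] :
    Bound.{u} p (∑ i ∈ Finset.range (2 ^ (p - 1) - 1), (p - 1) ^ i) := fun _ _ _ => higman

theorem bound_three : Bound.{u} 3 2 := fun _ _ _ => higman_three

theorem mem_of_fpf {α : MulAut G} (hf : ∀ g, α g = g → g = 1) {N : Subgroup G}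
    (hN : ∀ x ∈ N, α x ∈ N) {x : G} (hx : x⁻¹ * α x ∈ N) : x ∈ N := by
  have h1 : Function.Injective fun x => x⁻¹ * α x := fun x y (h : _ = _) => by
    refine mul_inv_eq_one.mp (hf _ ?_)
    rw [map_mul, map_inv, eq_mul_of_inv_mul_eq h]; group
  obtain ⟨y, hy⟩ := Finite.surjective_of_injective (f := fun y : N =>
    (⟨(y : G)⁻¹ * α y, mul_mem (inv_mem y.2) (hN _ y.2)⟩ : N))
    (fun a b h => Subtype.ext (h1 (congrArg Subtype.val h))) ⟨_, hx⟩
  exact h1 (congrArg Subtype.val hy) ▸ y.2

theorem nil_coprime_of_fpf {p : ℕ} (hp : p.Prime) {α : MulAut G} (h1 : α ^ p = 1)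
    (hf : ∀ g, α g = g → g = 1) : Group.IsNilpotent G ∧ p.Coprime (Nat.card G) := by
  by_cases h : α = 1
  · haveI : Subsingleton G := ⟨fun a b => by rw [hf a (by simp [h]), hf b (by simp [h])]⟩
    exact ⟨inferInstance, by simp [Nat.card_of_subsingleton (1 : G)]⟩
  haveI := Fact.mk hp
  let L := G ⋊[MonoidHom.id (MulAut G)] MulAut G
  haveI : Finite L := Finite.of_equiv _ SemidirectProduct.equivProd.symm
  have h2 : orderOf (SemidirectProduct.inr α : L) = p := by
    rw [orderOf_injective _ SemidirectProduct.inr_injective, orderOf_eq_prime h1 h]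
  have h3 : (SemidirectProduct.inr α : L) ∈ normalizer ((SemidirectProduct.inl : G →* L).range : Set L) := by
    rw [SemidirectProduct.range_inl_eq_ker_rightHom, Subgroup.normalizer_eq_top]; trivial
  have h4 : (SemidirectProduct.inl : G →* L).range ⊓ centralizer {SemidirectProduct.inr α} = ⊥ := by
    refine eq_bot_iff.mpr ?_
    rintro _ ⟨⟨x, rfl⟩, hx⟩
    have := congrArg SemidirectProduct.left (hx _ rfl)
    rw [hf x (by simpa [L] using this), map_one]; exact one_mem _
  have e := (MonoidHom.ofInjective (f := (SemidirectProduct.inl : G →* L)) SemidirectProduct.inl_injective)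
  haveI := isNilpotent_of_fpf h3 (h2 ▸ hp) h4
  refine ⟨Group.nilpotent_of_mulEquiv e.symm, ?_⟩
  have := coprime_card_zpowers_of_fpf h3 (h2 ▸ hp) h4
  rwa [Nat.card_zpowers, h2, ← Nat.card_congr e.toEquiv] at this

theorem lcs_eq_bot_of_fpf {p c : ℕ} [hp : Fact p.Prime] (hc : Bound.{u} p c) {α : MulAut G}
    (h1 : α ^ p = 1) (hf : ∀ g, α g = g → g = 1) : lcs G c = ⊥ := by
  obtain ⟨h2, h3⟩ := nil_coprime_of_fpf hp.out h1 hf
  obtain ⟨n, hn⟩ := Subgroup.nilpotent_iff_lowerCentralSeries.mp h2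
  have h4 : ∀ d, lcs G c ≤ lcs G (c + d) := fun d => by
    induction d with
    | zero => exact le_rfl
    | succ d ih =>
      intro x hx
      have := pow_mem_lcs hc α h1 1 (fun i x _ hx => (pow_one x).symm ▸ mem_of_fpf hf
        (characteristic_iff_le_comap.mp inferInstance α) hx) (Nat.le_add_right c d) (ih hx)
      obtain ⟨m, hm⟩ := exists_pow_eq_self_of_coprime (x := x) (n := 1 * p ^ c)
        (by simpa using (h3.pow_left c).coprime_dvd_right (orderOf_dvd_natCard x))
      exact hm ▸ pow_mem this m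
  exact eq_bot_iff.mpr ((h4 n).trans ((lcs_anti (by omega)).trans hn.le))

end Cfsg.Agent.H1.Lie
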