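import Cfsg.Agent.H1.ThompsonFPF
import Cfsg.Agent.BG.S01b

/-! Kegel's theorem on splitting automorphisms of prime order. -/

set_option autoImplicit false

namespace Cfsg.Agent.H1

open Subgroup Cfsg.Agent.H20 Cfsg.Agent.H21 Cfsg.Agent.BG

universe u

theorem pow_card_eq_one_of_norm {A V : Type*} [Group A] [CommGroup V] (φ : A →* MulAut V)
    {K : Subgroup A} [Finite K] {y : A} (hy : y ∈ N⟦K⟧) {r : ℕ} (hr : r.Prime)
    (hKy : ∀ k ∈ K, (k * y) ^ r = 1) (h1 : ∀ v, (∀ k ∈ K, φ k v = v) → v = 1)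
    (h2 : ∀ k ∈ K, ∀ v, ∏ j ∈ Finset.range r, φ ((k * y) ^ j) v = 1) (v : V) : v ^ ♯K = 1 := by
  have := Fintype.ofFinite K
  have hmem : ∀ (j : ℕ) (k : K), (k * y) ^ j * (y ^ j)⁻¹ ∈ K := by
    intro j k
    induction j with
    | zero => simp
    | succ j ih =>
      convert mul_mem k.2 ((mem_normalizer_iff.mp hy _).mp ih) using 1
      rw [pow_succ', pow_succ]
      group
  have h3 : ∏ j ∈ Finset.range r, ∏ k : K, φ ((k * y) ^ j) v = 1 := by
    rw [Finset.prod_comm]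
    exact Finset.prod_eq_one fun k _ => h2 k k.2 v
  obtain ⟨s, rfl⟩ := Nat.exists_eq_succ_of_ne_zero hr.ne_zero
  rw [Finset.prod_range_succ', Finset.prod_eq_one, one_mul] at h3
  · simpa only [pow_zero, map_one, MulAut.one_apply, Finset.prod_const, Finset.card_univ,
      Fintype.card_eq_nat_card] using h3
  intro j hj
  have hcop : (j + 1).Coprime (s + 1) :=
    (Nat.coprime_of_lt_prime j.succ_ne_zero (Nat.succ_lt_succ (Finset.mem_range.mp hj)) hr).symm
  obtain ⟨m, -, hm⟩ := Nat.exists_mul_mod_eq_one_of_coprime hcop hr.one_lt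
  have hinj : Function.Injective fun k : K => (⟨_, hmem (j + 1) k⟩ : K) := by
    intro k l hkl
    have h4 : (k * y) ^ (j + 1) = (l * y) ^ (j + 1) := mul_right_cancel (congrArg Subtype.val hkl)
    have h5 : ∀ k : K, ((k * y) ^ (j + 1)) ^ m = k * y := fun k => by
      rw [← pow_mul, pow_eq_pow_mod _ (hKy k k.2), hm, pow_one]
    exact Subtype.ext (mul_right_cancel ((h5 k).symm.trans (h4 ▸ h5 l)))
  rw [← h1 _ fun k hk => apply_prod_apply φ K (φ (y ^ (j + 1)) v) hk]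
  exact Fintype.prod_bijective _ (Finite.injective_iff_bijective.mp hinj) _ _ fun k => by
    rw [← MulAut.mul_apply, ← map_mul, inv_mul_cancel_right]

theorem split_cent {G : Type*} [Group G] [Finite G] {V R : Subgroup G} {y : G} {p : ℕ} (hp : p.Prime)
    (hV : IsMulCommutative V) (hRV : R ≤ N⟦V⟧) (hcop : (♯V).Coprime (♯R)) (hyV : y ∈ N⟦V⟧)
    (hyR : y ∈ N⟦R⟧) (h : ∀ v ∈ V, ∀ x ∈ R, (v * (x * y)) ^ p = 1) : R ≤ C⟦V⟧ := by
  have hWV : ⁅V, R⁆ ≤ V := commg_le_left hRV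
  have h0 := coprime_comm_commg_inf_cent hV hRV hcop
  rw [← commg_eq_bot']
  set W := ⁅V, R⁆
  have hA : R ⊔ zpowers y ≤ N⟦W⟧ := sup_le (le_normalizer_commutator hRV le_normalizer)
    (le_normalizer_commutator (zpowers_le.mpr hyV) (zpowers_le.mpr hyR))
  haveI := comm_of_le hWV hV
  letI : CommGroup W := { (inferInstance : Group W) with mul_comm := fun a b => mul_comm' a b }
  refine eq_bot_iff.mpr fun w hw => ?_
  have h1 := pow_card_eq_one_of_norm (conjHom hA) (K := R.subgroupOf _)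
    (y := ⟨y, mem_sup_right (mem_zpowers y)⟩) (by rwa [H9.normalizer_subgroupOf le_sup_left]) hp
    (fun k hk => Subtype.ext (by simpa using h 1 V.one_mem k hk)) (fun v hv => Subtype.ext (by
      rw [Subgroup.coe_one, ← mem_bot, ← h0]
      exact ⟨v.2, fun q hq => ((conjHom_eq_self_iff hA ⟨q, mem_sup_left hq⟩ v).mp (hv _ hq)).symm⟩))
    (fun k hk v => by
      have h2 := h v (hWV v.2) k hk
      have h3 := h 1 V.one_mem k hk
      generalize hg : k * ⟨y, mem_sup_right (mem_zpowers y)⟩ = g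
      rw [show (k : G) * y = g by rw [← hg]; rfl] at h2 h3
      have h4 : ∀ n, ((∏ j ∈ Finset.range n, conjHom hA (g ^ j) v : W) : G) * g ^ n = (v * g) ^ n :=
        fun n => by
          induction n with
          | zero => simp
          | succ n ih => 
            rw [Finset.prod_range_succ, pow_succ (v * g : G), ← ih]
            simp [pow_succ, mul_assoc, -map_pow, coe_conjHom]
      have h5 := h4 p
      rw [one_mul] at h3
      rw [h2, h3, mul_one] at h5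
      exact Subtype.ext h5) ⟨w, hw⟩
  rw [card_subgroupOf_of_le le_sup_left] at h1
  exact congrArg Subtype.val ((powCoprime (coprime_of_le_left hcop hWV)).injective
    (h1.trans (one_pow _).symm))

theorem kegel_aux {p : ℕ} (hp : p.Prime) (n : ℕ) : ∀ {G : Type u} [Group G] [Finite G]
    {K : Subgroup G} {y : G}, ♯K = n → y ∈ N⟦K⟧ → (∀ k ∈ K, (k * y) ^ p = 1) →
    Group.IsNilpotent K := by
  induction n using Nat.strong_induction_on with
  | _ n ih =>
  intro G _ _ K y hn hy h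
  have fr : ∀ {q : ℕ} [Fact q.Prime] {Q : Subgroup G}, SylowOf q Q K →
      ∃ z ∈ N⟦Q⟧, z ∈ K ⊔ zpowers y ∧ z ∈ N⟦K⟧ ∧ ∀ k ∈ K, (k * z) ^ p = 1 := fun hQ => by
    obtain ⟨a, ha, z, hz, rfl⟩ := Hall.frattini_mem hQ hy
    refine ⟨z, hz, ?_, by simpa using mul_mem (inv_mem (le_norm_self K ha)) hy, fun k hk => ?_⟩
    · simpa using mul_mem (inv_mem (mem_sup_left ha)) (mem_sup_right (mem_zpowers (a * z)))
    · simpa using h _ (mul_mem hk (inv_mem ha))
  have hKM : K ⊴ K ⊔ zpowers y := NormalIn.sup_left (zpowers_le.mpr hy)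
  by_cases hK : K = ⊥
  · exact hK ▸ inferInstance
  suffices h1 : ∃ N, N ⊴ K ⊔ zpowers y ∧ N ≤ K ∧ N ≠ ⊥ ∧ Group.IsSolvable N by
    obtain ⟨N, h1, h2, h3, h4⟩ := h1
    obtain ⟨q, V, hq, hV, hVN, hVn, hel⟩ := exists_elem_normalIn h1 h4 h3
    haveI := Fact.mk hq
    have hVK := hVN.trans h2
    obtain ⟨P, hP⟩ := exists_sylowOf (p := q) K
    have h5 : K ≤ P ⊔ C⟦V⟧ := le_of_forall_sylow fun r hr _ => by
      haveI := Fact.mk hr
      rcases eq_or_ne q r with rfl | hqr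
      · exact ⟨P, hP, le_sup_left⟩
      obtain ⟨Q, hQ⟩ := exists_sylowOf (p := r) K
      obtain ⟨z, z1, z2, -, z4⟩ := fr hQ
      exact ⟨Q, hQ, le_sup_of_le_right (split_cent hp hel.1 ((Hall.le hQ).trans
        (le_sup_left.trans hVn.2)) (coprime_of_isPGroup_ne (isPGroup_of_elem hel) (Hall.isPGroup hQ)
        hqr) (hVn.2 z2) z1 fun v hv x hx => mul_assoc v x z ▸ z4 _ (mul_mem (hVK hv) (Hall.le hQ hx)))⟩
    have h6 := inf_cent_ne_bot_of_pgroup (isPGroup_of_elem hel) (Hall.isPGroup hP)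
      ((Hall.le hP).trans (le_sup_left.trans hVn.2)) hV.1
    have h7 : V ⊓ C⟦P⟧ ≤ centerOf K := le_centerOf (inf_le_left.trans hVK) (cent_symm (h5.trans
      (sup_le (cent_symm inf_le_right) (cent_anti inf_le_left))))
    have h8 : y ∈ N⟦centerOf K⟧ := norm_le_norm_centerOf K hy
    refine nilpotent_of_quo_center le_rfl (ih _ (hn ▸ card_quo_lt (centerOf_normalIn K)
      fun e => h6 (eq_bot_iff.mpr (e ▸ h7))) rfl (cos_mem_norm hy) fun k hk => ?_)
    obtain ⟨k, h10, h9, rfl⟩ := mem_quo.mp hk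
    rw [← cos_mul h9 h8, ← cos_pow (mul_mem h9 h8), h k h10, cos_one]
  by_cases h2 : IsPGroup 2 K
  · exact ⟨K, hKM, le_rfl, hK, sol_of_pgroup h2⟩
  obtain ⟨q, hq, hd, hq2⟩ : ∃ q, q.Prime ∧ q ∣ ♯K ∧ q ≠ 2 := by
    by_contra! hc
    exact h2 (IsPi.isPGroup hc)
  haveI := Fact.mk hq
  obtain ⟨Q, hQ⟩ := exists_sylowOf (p := q) K
  obtain ⟨z, z1, -, z3, z4⟩ := fr hQ
  set Z := centerThompsonOf q Q with hZ
  have hZne : Z ≠ ⊥ := H9.centerThompsonOf_ne_bot dvd_rfl (Hall.isPGroup hQ) (Hall.sylow_ne_bot hQ hd)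
  have hZP : Z ≤ Q := H9.centerThompsonOf_le q Q
  have hNZ : N⟦Q⟧ ≤ N⟦Z⟧ := (H9.normalizer_le_normalizer_thompsonOf q Q).trans
    (H9.normalizer_thompsonOf_le_normalizer_center q Q)
  by_cases hKZ : K ≤ N⟦Z⟧
  · refine ⟨piCoreOf {q} K, piCoreOf_normalIn_of _ hKM, piCoreOf_le _ _, fun e => hZne ?_,
      sol_of_pgroup (isPGroup_piCoreOf q K)⟩
    exact eq_bot_iff.mpr (e ▸ le_pCoreOf ⟨hZP.trans (Hall.le hQ), hKZ⟩ ((Hall.isPGroup hQ).to_le hZP))
  have h3 := ih _ (hn ▸ card_lt_of_lt (lt_of_le_of_ne inf_le_right fun h => hKZ (h ▸ inf_le_left)))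
    (K := N⟦Z⟧ ⊓ K) rfl (zpowers_le.mp (le_normalizer_inf (le_normalizer_normalizer
      (zpowers_le.mpr (hNZ z1))) (zpowers_le.mpr z3))) fun k hk => z4 k hk.2
  obtain ⟨S, hS⟩ := Hall.exists_sylow hQ
  have h4 : HasNormalPComplement q K := by
    refine H9.npc_of_centerThompsonOf hq2 dvd_rfl S ?_
    have h5 : centerThompsonOf q (S : Subgroup K) = Z.subgroupOf K := by
      rw [hZ, ← hS, ← H9.map_centerThompsonOf (subtype_injective K), subgroupOf,
        comap_map_eq_self_of_injective (subtype_injective K)]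
    rw [h5, H9.normalizer_subgroupOf (hZP.trans (Hall.le hQ)), ← inf_subgroupOf_right,
      H3.hasNormalPComplement_subgroupOf_iff inf_le_right]
    exact H3.hasNormalPComplement_of_isNilpotent
  have h5 := hasNormalPComplement_iff.mp h4
  by_cases h6 : piCoreOf {q}ᶜ K = ⊥
  · refine ⟨K, hKM, le_rfl, hK, sol_of_pgroup (p := q) (IsPi.isPGroup ?_)⟩
    simpa using (Hall.eq_bot_iff h5).mp h6
  · have h7 := piCoreOf_normalIn_of {q}ᶜ hKM
    refine ⟨_, h7, piCoreOf_le _ _, h6, sol_of_nil (ih _ (hn ▸ card_lt_of_lt (lt_of_le_of_ne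
      (piCoreOf_le _ _) fun e => ?_)) rfl (h7.2 (mem_sup_right (mem_zpowers y)))
        fun k hk => h k (piCoreOf_le _ _ hk))⟩
    exact (e ▸ isPi_piCoreOf {q}ᶜ K).not_dvd hq rfl hd

/-- Kegel's theorem. -/
theorem kegel {G : Type*} [Group G] [Finite G] {p : ℕ} (hp : p.Prime) {K : Subgroup G} {y : G}
    (hy : y ∈ N⟦K⟧) (h : ∀ k ∈ K, (k * y) ^ p = 1) : Group.IsNilpotent K :=
  kegel_aux hp _ rfl hy h

end Cfsg.Agent.H1
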