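import Cfsg.Agent.H1.Semireg
import Cfsg.Agent.H1.Cores
import Cfsg.Agent.H2.Basic
import Cfsg.Agent.H4.Burnside

/-! Bases of solvable linear groups and regular colourings of solvable permutation groups, I:
definitions, restriction, independence, many regular orbits. -/

set_option autoImplicit false
set_option linter.style.haveILetI false
set_option linter.unusedSectionVars false

namespace Cfsg.Agent.H1.Bs

open Subgroup Function
open scoped Pointwise commutatorElement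

universe u

section defs
variable {G V Ω : Type u} [Group G] [CommGroup V] {ι κ : Type}

def Irr (φ : G →* MulAut V) : Prop :=
  ∀ W : Subgroup V, (∀ g, ∀ w ∈ W, φ g w ∈ W) → W = ⊥ ∨ W = ⊤

def RegL (φ : G →* MulAut V) (x : ι → V) : Prop := ∀ g, (∀ j, φ g (x j) = x j) → ∀ v, φ g v = v

def RegP (ψ : G →* Equiv.Perm Ω) (c : Ω → κ) : Prop :=
  ∀ g, (∀ ω, c (ψ g ω) = c ω) → ∀ ω, ψ g ω = ω

theorem ap_mul (φ : G →* MulAut V) (g h : G) (v : V) : φ (g * h) v = φ g (φ h v) := by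
  rw [map_mul]; rfl

theorem ap_inv (φ : G →* MulAut V) (g : G) (v : V) : φ g⁻¹ (φ g v) = v := by
  rw [← ap_mul, inv_mul_cancel, map_one]; rfl

theorem ap_inv' (φ : G →* MulAut V) (g : G) (v : V) : φ g (φ g⁻¹ v) = v := by
  rw [← ap_mul, mul_inv_cancel, map_one]; rfl

theorem ap_one (φ : G →* MulAut V) (v : V) : φ 1 v = v := by rw [map_one]; rfl

theorem pm_mul (ψ : G →* Equiv.Perm Ω) (g h : G) (v : Ω) : ψ (g * h) v = ψ g (ψ h v) := by
  rw [map_mul]; rfl

theorem pm_inv (ψ : G →* Equiv.Perm Ω) (g : G) (v : Ω) : ψ g⁻¹ (ψ g v) = v := by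
  rw [← pm_mul, inv_mul_cancel, map_one]; rfl

theorem pm_inv' (ψ : G →* Equiv.Perm Ω) (g : G) (v : Ω) : ψ g (ψ g⁻¹ v) = v := by
  rw [← pm_mul, mul_inv_cancel, map_one]; rfl

theorem pm_one (ψ : G →* Equiv.Perm Ω) (v : Ω) : ψ 1 v = v := by rw [map_one]; rfl

/-- restriction of a permutation action to an invariant subset -/
def resP (ψ : G →* Equiv.Perm Ω) (K : Subgroup G) (Δ : Set Ω)
    (h : ∀ g ∈ K, ∀ ω ∈ Δ, ψ g ω ∈ Δ) : K →* Equiv.Perm Δ where
  toFun k := ⟨fun ω => ⟨ψ k ω, h k k.2 ω ω.2⟩, fun ω => ⟨ψ (k⁻¹ : K) ω, h _ (k⁻¹).2 ω ω.2⟩,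
    fun ω => Subtype.ext (pm_inv ψ k ω), fun ω => Subtype.ext (pm_inv' ψ k ω)⟩
  map_one' := by ext ω; exact pm_one ψ ω
  map_mul' a b := by ext ω; exact pm_mul ψ a b ω

/-- restriction of a linear action to an invariant subgroup -/
def resL (φ : G →* MulAut V) (K : Subgroup G) (W : Subgroup V)
    (h : ∀ g ∈ K, ∀ w ∈ W, φ g w ∈ W) : K →* MulAut W where
  toFun k := ⟨⟨fun ω => ⟨φ k ω, h k k.2 ω ω.2⟩, fun ω => ⟨φ (k⁻¹ : K) ω, h _ (k⁻¹).2 ω ω.2⟩,
    fun ω => Subtype.ext (ap_inv φ k ω), fun ω => Subtype.ext (ap_inv' φ k ω)⟩,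
    fun a b => Subtype.ext (map_mul (φ k) (a : V) b)⟩
  map_one' := by ext ω; exact ap_one φ ω
  map_mul' a b := by ext ω; exact ap_mul φ a b ω

theorem resL_ap (φ : G →* MulAut V) (K : Subgroup G) (W : Subgroup V)
    (h : ∀ g ∈ K, ∀ w ∈ W, φ g w ∈ W) (k : K) (w : W) : (resL φ K W h k w : V) = φ k w := rfl

/-- action on the subgroups of `V` -/
def subP (φ : G →* MulAut V) : G →* Equiv.Perm (Subgroup V) :=
  (MulAction.toPermHom (MulAut V) (Subgroup V)).comp φ

theorem mem_subP {φ : G →* MulAut V} {g : G} {W : Subgroup V} {v : V} :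
    v ∈ subP φ g W ↔ φ g⁻¹ v ∈ W := by
  change v ∈ φ g • W ↔ _
  rw [mem_pointwise_smul_iff_inv_smul_mem, map_inv]; rfl

theorem ap_mem_subP {φ : G →* MulAut V} (g : G) {W : Subgroup V} {v : V} (h : v ∈ W) :
    φ g v ∈ subP φ g W := by rw [mem_subP, ap_inv]; exact h

/-- action on the subsets of `Ω` -/
def setP (ψ : G →* Equiv.Perm Ω) : G →* Equiv.Perm (Set Ω) :=
  (MulAction.toPermHom (Equiv.Perm Ω) (Set Ω)).comp ψ

theorem mem_setP {ψ : G →* Equiv.Perm Ω} {g : G} {W : Set Ω} {v : Ω} :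
    v ∈ setP ψ g W ↔ ψ g⁻¹ v ∈ W := by
  change v ∈ ψ g • W ↔ _
  rw [Set.mem_smul_set_iff_inv_smul_mem, map_inv]; rfl

/-- stabilizer of a point -/
def stab (ψ : G →* Equiv.Perm Ω) (ω : Ω) : Subgroup G where
  carrier := {g | ψ g ω = ω}
  one_mem' := pm_one ψ ω
  mul_mem' {a b} ha hb := by
    change ψ (a * b) ω = ω
    rw [pm_mul, hb, ha]
  inv_mem' {a} ha := by
    change ψ a⁻¹ ω = ω
    conv_lhs => rw [← ha]
    exact pm_inv ψ a ω

theorem mem_stab {ψ : G →* Equiv.Perm Ω} {ω : Ω} {g : G} : g ∈ stab ψ ω ↔ ψ g ω = ω := Iff.rfl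

/-- independence of a separated family of subgroups -/
def Sep (φ : G →* MulAut V) (Λ : Finset (Subgroup V)) : Prop :=
  ∀ W ∈ Λ, ∀ W' ∈ Λ, W ≠ W' → ∀ w' ∈ W', w' ≠ 1 →
    ∃ b : G, (∀ W'' ∈ Λ, ∀ w ∈ W'', φ b w ∈ W'') ∧ (∀ w ∈ W, φ b w = w) ∧ φ b w' ≠ w'

theorem Sep.indep {φ : G →* MulAut V} {Λ : Finset (Subgroup V)} (h : Sep φ Λ) (w : Subgroup V → V)
    (hw : ∀ W ∈ Λ, w W ∈ W) (hp : ∏ W ∈ Λ, w W = 1) : ∀ W ∈ Λ, w W = 1 := by
  classical
  generalize hn : (Λ.filter fun W => w W ≠ 1).card = n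
  induction n using Nat.strong_induction_on generalizing w with
  | _ n ih =>
  intro W' hW'
  by_contra hne
  by_cases hex : ∃ W ∈ Λ, W ≠ W' ∧ w W ≠ 1
  · obtain ⟨W, hW, hWW, h1⟩ := hex
    obtain ⟨b, hb1, hb2, hb3⟩ := h W hW W' hW' hWW _ (hw W' hW') hne
    refine hb3 (div_eq_one.1 (ih _ ?_ (fun X => φ b (w X) / w X)
      (fun X hX => X.div_mem (hb1 X hX _ (hw X hX)) (hw X hX)) ?_ rfl W' hW'))
    · rw [← hn]
      refine Finset.card_lt_card ⟨fun X hX => ?_, fun hs => ?_⟩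
      · rw [Finset.mem_filter] at hX ⊢
        refine ⟨hX.1, fun h0 => hX.2 ?_⟩
        rw [h0, map_one, div_one]
      · have := (Finset.mem_filter.1 (hs (Finset.mem_filter.2 ⟨hW, h1⟩))).2
        exact this (by rw [hb2 _ (hw W hW), div_self'])
    · rw [Finset.prod_div_distrib, ← map_prod, hp, map_one, div_one]
  · push Not at hex
    rw [Finset.prod_eq_single_of_mem W' hW' hex] at hp
    exact hne hp

theorem Sep.perm {φ : G →* MulAut V} {Λ : Finset (Subgroup V)} (h : Sep φ Λ) (w : Subgroup V → V)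
    (hw : ∀ W ∈ Λ, w W ∈ W) {g : G} (hg : ∀ W ∈ Λ, subP φ g W ∈ Λ)
    (hp : φ g (∏ W ∈ Λ, w W) = ∏ W ∈ Λ, w W) : ∀ W ∈ Λ, φ g (w W) = w (subP φ g W) := by
  have hbij : ∏ W ∈ Λ, w (subP φ g W) = ∏ W ∈ Λ, w W :=
    Finset.prod_bij (fun W _ => subP φ g W) hg (fun _ _ _ _ h => (subP φ g).injective h)
      (fun X hX => by
        obtain ⟨Y, hY, e⟩ := Finset.surj_on_of_inj_on_of_card_le (fun W _ => subP φ g W) hg
          (fun _ _ _ _ h => (subP φ g).injective h) le_rfl X hX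
        exact ⟨Y, hY, e.symm⟩) fun _ _ => rfl
  intro W hW
  have := h.indep (fun X => w X / φ g⁻¹ (w (subP φ g X)))
    (fun X hX => X.div_mem (hw X hX) (mem_subP.1 (hw _ (hg X hX)))) (by
      rw [Finset.prod_div_distrib, ← map_prod, hbij, div_eq_one]
      conv_rhs => rw [← hp]
      rw [ap_inv]) W hW
  rw [div_eq_one.1 this, ap_inv']

/-- points can be separated by a colouring -/
theorem exists_col_fix {m : ℕ} (p : Fin m → Ω) : ∃ c : Ω → Fin (m + 1), ∀ i ω, c ω = c (p i) → ω = p i := by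
  classical
  refine ⟨fun ω => if h : ∃ i, p i = ω then h.choose.succ else 0, fun i ω h => ?_⟩
  have h1 : ∃ j, p j = p i := ⟨i, rfl⟩
  simp only [dif_pos h1] at h
  by_cases h2 : ∃ j, p j = ω
  · rw [dif_pos h2] at h
    rw [← h2.choose_spec, Fin.succ_injective _ h, h1.choose_spec]
  · rw [dif_neg h2] at h
    exact absurd h.symm (Fin.succ_ne_zero _)

end defs

section perfect
variable {G P X : Type*} [Group G] [Group P]

theorem eq_top_of_index_le [Finite P] (hP : commutator P = ⊤) {H : Subgroup P} (h : H.index ≤ 4) : H = ⊤ := by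
  have hs : Group.IsSolvable (Equiv.Perm (P ⧸ H)) := by
    have hc : Nat.card (Equiv.Perm (P ⧸ H)) ∣ 2 ^ 3 * 3 ^ 1 := by
      rw [Nat.card_perm]
      exact Nat.factorial_dvd_factorial (n := 4) h
    obtain ⟨a, b, ha, hb, e⟩ := (Nat.dvd_mul).1 hc
    obtain ⟨i, -, rfl⟩ := (Nat.dvd_prime_pow Nat.prime_two).1 ha
    obtain ⟨j, -, rfl⟩ := (Nat.dvd_prime_pow Nat.prime_three).1 hb
    exact H4.burnside_pq Nat.prime_two Nat.prime_three e.symm
  let f := MulAction.toPermHom P (P ⧸ H)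
  have h1 : ∀ n, (⊤ : Subgroup P).map f ≤ derivedSeries _ n := by
    intro n
    induction n with
    | zero => exact le_top
    | succ n ih =>
      rw [← hP, _root_.commutator_def, map_commutator, derivedSeries_succ]
      exact commutator_mono ih ih
  obtain ⟨n, hn⟩ := hs
  refine eq_top_iff.2 fun p _ => ?_
  have h2 : f p = 1 := by
    have := h1 n (mem_map_of_mem f (mem_top p))
    rwa [hn, mem_bot] at this
  have h3 : ((p * 1 : P) : P ⧸ H) = (1 : P) := congrArg (fun e : Equiv.Perm (P ⧸ H) => e (1 : P)) h2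
  rw [QuotientGroup.eq] at h3
  simpa using h3

theorem perfect_orbits [Finite P] (hP : commutator P = ⊤) (hG : Group.IsSolvable G)
    (a : G →* Equiv.Perm X) (r : P →* Equiv.Perm X) (hc : ∀ g p x, a g (r p x) = r p (a g x)) (x : X) :
    (∃ d : Fin 5 → P, ∀ g s t, a g (r (d s) x) = r (d t) x → s = t) ∨ ∀ p, r p x = x := by
  have am : ∀ g h v, a (g * h) v = a g (a h v) := fun g h v => by rw [map_mul]; rfl
  have rm : ∀ g h v, r (g * h) v = r g (r h v) := fun g h v => by rw [map_mul]; rfl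
  have hinv : ∀ g p, r p x = a g x → r p⁻¹ x = a g⁻¹ x := fun g p h => by
    apply (a g).injective
    rw [hc, ← h, ← rm, ← am, inv_mul_cancel, mul_inv_cancel, map_one, map_one]
  have hmul : ∀ g p g' p', r p x = a g x → r p' x = a g' x → r (p * p') x = a (g' * g) x :=
    fun g p g' p' h h' => by rw [rm, h', ← hc, h, am]
  let H : Subgroup G → Subgroup P := fun D =>
    { carrier := {p | ∃ g ∈ D, r p x = a g x}
      one_mem' := ⟨1, D.one_mem, by rw [map_one, map_one]⟩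
      mul_mem' := fun ⟨g, hg, h⟩ ⟨g', hg', h'⟩ => ⟨_, D.mul_mem hg' hg, hmul _ _ _ _ h h'⟩
      inv_mem' := fun ⟨g, hg, h⟩ => ⟨_, D.inv_mem hg, hinv _ _ h⟩ }
  by_cases hi : (H ⊤).index ≤ 4
  · right
    have h1 : ∀ n, H (derivedSeries G n) = ⊤ := by
      intro n
      induction n with
      | zero => exact eq_top_of_index_le hP hi
      | succ n ih =>
        rw [eq_top_iff, ← hP, _root_.commutator_def, commutator_le]
        intro p _ q _
        obtain ⟨g, hg, h⟩ : p ∈ H (derivedSeries G n) := ih ▸ mem_top p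
        obtain ⟨g', hg', h'⟩ : q ∈ H (derivedSeries G n) := ih ▸ mem_top q
        refine ⟨⁅g'⁻¹, g⁻¹⁆, commutator_mem_commutator (inv_mem hg') (inv_mem hg), ?_⟩
        rw [commutatorElement_def,
          hmul _ _ _ _ (hmul _ _ _ _ (hmul _ _ _ _ h h') (hinv _ _ h)) (hinv _ _ h')]
        simp only [commutatorElement_def, inv_inv, mul_assoc]
    obtain ⟨n, hn⟩ := hG
    intro p
    obtain ⟨g, hg, h⟩ : p ∈ H (derivedSeries G n) := h1 n ▸ mem_top p
    rw [hn, mem_bot] at hg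
    rw [h, hg, map_one]; rfl
  · left
    have := Fintype.ofFinite (P ⧸ H ⊤)
    obtain ⟨e⟩ : Nonempty (Fin 5 ↪ P ⧸ H ⊤) := by
      apply Function.Embedding.nonempty_of_card_le
      rw [Fintype.card_fin, ← Nat.card_eq_fintype_card]
      change 5 ≤ (H ⊤).index
      omega
    refine ⟨fun s => (e s).out, fun g s t h => e.injective ?_⟩
    rw [← (e s).out_eq, ← (e t).out_eq, QuotientGroup.eq]
    refine ⟨g, mem_top _, ?_⟩
    rw [rm, ← h, hc, ← rm, inv_mul_cancel, map_one]; rfl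

end perfect

end Cfsg.Agent.H1.Bs
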