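import Cfsg.Agent.H1.Base1

/-! Bases of solvable linear groups, II: the simultaneous induction. -/

set_option autoImplicit false
set_option linter.style.haveILetI false
set_option linter.unusedSectionVars false

namespace Cfsg.Agent.H1.Bs

open Subgroup Function
open scoped Pointwise commutatorElement IsMulCommutative

universe u

def PP (Cl : (G : Type u) → [Group G] → Prop) (κ : Type) (n : ℕ) : Prop :=
  ∀ (G Ω : Type u) [Group G] [Finite G] [Finite Ω] (ψ : G →* Equiv.Perm Ω), Cl G → Nat.card Ω < n →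
    ∃ c : Ω → κ, RegP ψ c

def LL (Cl : (G : Type u) → [Group G] → Prop) (ι : Type) (n : ℕ) : Prop :=
  ∀ (G V : Type u) [Group G] [Finite G] [CommGroup V] [Finite V] (φ : G →* MulAut V), Cl G →
    Nat.card V < n → Irr φ → ∃ x : ι → V, RegL φ x

/-- A class of solvable groups with the data needed to run the induction. -/
structure Fam (ι κ : Type) where
  Cl : (G : Type u) → [Group G] → Prop
  inj : ∀ {G H : Type u} [Group G] [Group H] [Finite H] (f : G →* H), Injective f → Cl H → Cl G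
  surj : ∀ {G H : Type u} [Group G] [Group H] [Finite G] (f : G →* H), Surjective f → Cl G → Cl H
  sol : ∀ {G : Type u} [Group G] [Finite G], Cl G → Group.IsSolvable G
  multL : ∀ {G V : Type u} [Group G] [Finite G] [CommGroup V] [Finite V] [Nontrivial V]
    (φ : G →* MulAut V), Cl G → ∀ x : ι → V, RegL φ x → ∃ d : κ → ι → V, (∀ s, RegL φ (d s)) ∧
      ∀ g s t, (∀ j, φ g (d s j) = d t j) → s = t
  multP : ∀ {G Ω : Type u} [Group G] [Finite G] [Finite Ω] [Nonempty Ω] (ψ : G →* Equiv.Perm Ω),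
    Cl G → ∀ c : Ω → κ, RegP ψ c → ∃ d : κ → Ω → κ, (∀ s, RegP ψ (d s)) ∧
      ∀ g s t, (∀ ω, d s (ψ g ω) = d t ω) → s = t
  reg : ∀ {G Ω : Type u} [Group G] [Finite G] (ψ : G →* Equiv.Perm Ω) (U : Subgroup G) [U.Normal]
    [IsMulCommutative U] (ω₀ : Ω) (x : ι → G), Cl G → (∀ j, x j ∈ U) → (∀ ω, ∃ u ∈ U, ψ u ω₀ = ω) →
    (∀ u ∈ U, ψ u ω₀ = ω₀ → u = 1) →
    (∀ h, ψ h ω₀ = ω₀ → (∀ j, h * x j * h⁻¹ = x j) → ∀ ω, ψ h ω = ω) → ∃ c : Ω → κ, RegP ψ c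
  prim : ∀ {G V : Type u} [Group G] [Finite G] [CommGroup V] [Finite V] [Nontrivial V]
    (φ : G →* MulAut V), Cl G → Injective φ → Irr φ →
    (∀ N : Subgroup G, N.Normal → IsMulCommutative N → IsCyclic N) → PP Cl κ (Nat.card V) →
    ∃ x : ι → V, RegL φ x

variable {G V Ω : Type u} [Group G] [Finite G] [CommGroup V] [Finite V] [Finite Ω] {ι κ : Type}

theorem PP.mono {Cl : (G : Type u) → [Group G] → Prop} {m n : ℕ} (h : PP Cl κ n) (hmn : m ≤ n) :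
    PP Cl κ m := fun G Ω _ _ _ ψ hG hc => h G Ω ψ hG (hc.trans_le hmn)

theorem PP.set [Nonempty κ] {Cl : (G : Type u) → [Group G] → Prop} {n : ℕ} (h : PP Cl κ n)
    (ψ : G →* Equiv.Perm Ω) (K : Subgroup G) (hK : Cl K) (Δ : Set Ω)
    (hΔ : ∀ g ∈ K, ∀ ω ∈ Δ, ψ g ω ∈ Δ) (hc : Nat.card Δ < n) :
    ∃ c : Ω → κ, ∀ g ∈ K, (∀ ω ∈ Δ, c (ψ g ω) = c ω) → ∀ ω ∈ Δ, ψ g ω = ω := by
  classical
  obtain ⟨c, hc⟩ := h K Δ (resP ψ K Δ hΔ) hK hc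
  refine ⟨fun ω => if h : ω ∈ Δ then c ⟨ω, h⟩ else Classical.arbitrary κ, fun g hg h1 ω hω => ?_⟩
  refine congrArg Subtype.val (hc ⟨g, hg⟩ (fun ω => ?_) ⟨ω, hω⟩)
  have := h1 ω ω.2
  beta_reduce at this
  rwa [dif_pos (hΔ g hg ω ω.2), dif_pos ω.2] at this

theorem Fam.multiP [Nonempty κ] (F : Fam.{u} ι κ) {n : ℕ} (h : PP F.Cl κ n)
    (ψ : G →* Equiv.Perm Ω) (hG : F.Cl G) (K : Subgroup G) (Δ : Set Ω) (hne : Δ.Nonempty)
    (hΔ : ∀ g ∈ K, ∀ ω ∈ Δ, ψ g ω ∈ Δ) (hc : Nat.card Δ < n) :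
    ∃ d : κ → Ω → κ, ∀ g ∈ K, ∀ s t, (∀ ω ∈ Δ, d s (ψ g ω) = d t ω) → s = t ∧ ∀ ω ∈ Δ, ψ g ω = ω := by
  classical
  have hK := F.inj K.subtype K.subtype_injective hG
  obtain ⟨c, hc⟩ := h K Δ (resP ψ K Δ hΔ) hK hc
  have := hne.to_subtype
  obtain ⟨d, h1, h2⟩ := F.multP _ hK c hc
  refine ⟨fun s ω => if h : ω ∈ Δ then d s ⟨ω, h⟩ else Classical.arbitrary κ, fun g hg s t h3 => ?_⟩
  have h4 : ∀ ω : Δ, d s (resP ψ K Δ hΔ ⟨g, hg⟩ ω) = d t ω := fun ω => by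
    have := h3 ω ω.2
    beta_reduce at this
    rwa [dif_pos (hΔ g hg ω ω.2), dif_pos ω.2] at this
  obtain rfl := h2 _ s t h4
  exact ⟨rfl, fun ω hω => congrArg Subtype.val (h1 s _ h4 ⟨ω, hω⟩)⟩

theorem irr_resL (φ : G →* MulAut V) (K : Subgroup G) (W : Subgroup V)
    (hW : ∀ g ∈ K, ∀ w ∈ W, φ g w ∈ W)
    (hmin : ∀ X ≤ W, (∀ g ∈ K, ∀ w ∈ X, φ g w ∈ X) → X ≠ ⊥ → X = W) : Irr (resL φ K W hW) := by
  intro X hX
  by_cases h0 : X = ⊥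
  · exact Or.inl h0
  right
  have := hmin (X.map W.subtype) (map_subtype_le X) (by
    rintro g hg _ ⟨w, hw, rfl⟩
    exact ⟨_, hX ⟨g, hg⟩ w hw, rfl⟩) (by rwa [Ne, map_eq_bot_iff_of_injective _ W.subtype_injective])
  refine eq_top_iff.2 fun w _ => ?_
  obtain ⟨w', h1, h2⟩ : (w : V) ∈ X.map W.subtype := this.symm ▸ w.2
  exact Subtype.ext h2 ▸ h1

theorem exists_minInv (φ : G →* MulAut V) (K : Subgroup G) (W : Subgroup V) (h0 : W ≠ ⊥)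
    (hW : ∀ g ∈ K, ∀ w ∈ W, φ g w ∈ W) : ∃ W' ≤ W, W' ≠ ⊥ ∧ (∀ g ∈ K, ∀ w ∈ W', φ g w ∈ W') ∧
      ∀ X ≤ W', (∀ g ∈ K, ∀ w ∈ X, φ g w ∈ X) → X ≠ ⊥ → X = W' := by
  obtain ⟨M, hM, hmin⟩ := (wellFounded_lt (α := Subgroup V)).has_min
    {X : Subgroup V | X ≤ W ∧ X ≠ ⊥ ∧ ∀ g ∈ K, ∀ w ∈ X, φ g w ∈ X} ⟨W, le_rfl, h0, hW⟩
  refine ⟨M, hM.1, hM.2.1, hM.2.2, fun X h1 h2 h3 => ?_⟩
  by_contra hc
  exact hmin X ⟨h1.trans hM.1, h3, h2⟩ (lt_of_le_of_ne h1 hc)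

theorem Fam.setL (F : Fam.{u} ι κ) {n : ℕ} (h : LL F.Cl ι n) (φ : G →* MulAut V) (hG : F.Cl G)
    (K : Subgroup G) (W : Subgroup V) (h0 : W ≠ ⊥) (hW : ∀ g ∈ K, ∀ w ∈ W, φ g w ∈ W)
    (hmin : ∀ X ≤ W, (∀ g ∈ K, ∀ w ∈ X, φ g w ∈ X) → X ≠ ⊥ → X = W) (hc : Nat.card W < n) :
    ∃ d : κ → ι → V, (∀ s j, d s j ∈ W) ∧ ∀ g ∈ K, ∀ s t, (∀ j, φ g (d s j) = d t j) →
      s = t ∧ ∀ w ∈ W, φ g w = w := by
  have hK := F.inj K.subtype K.subtype_injective hG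
  obtain ⟨x, hx⟩ := h K W _ hK hc (irr_resL φ K W hW hmin)
  have := (nontrivial_iff_ne_bot W).2 h0
  obtain ⟨d, h1, h2⟩ := F.multL _ hK x hx
  refine ⟨fun s j => d s j, fun s j => (d s j).2, fun g hg s t h3 => ?_⟩
  have h4 : ∀ j, resL φ K W hW ⟨g, hg⟩ (d s j) = d t j := fun j => Subtype.ext (h3 j)
  obtain rfl := h2 _ s t h4
  exact ⟨rfl, fun w hw => congrArg Subtype.val (h1 s _ h4 ⟨w, hw⟩)⟩

theorem exists_rep {Ω : Type u} (ψ : G →* Equiv.Perm Ω) :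
    ∃ (R : Ω → Ω) (a : Ω → G), (∀ ω, ψ (a ω) (R ω) = ω) ∧ ∀ g ω, R (ψ g ω) = R ω := by
  let R : Ω → Ω := fun ω => @Classical.epsilon _ ⟨ω⟩ fun ω' => ∃ g, ψ g ω' = ω
  have h1 : ∀ ω, ∃ g, ψ g (R ω) = ω := fun ω =>
    @Classical.epsilon_spec_aux _ ⟨ω⟩ (fun ω' => ∃ g, ψ g ω' = ω) ⟨ω, 1, pm_one ψ ω⟩
  choose a ha using h1
  refine ⟨R, a, ha, fun g ω => ?_⟩
  have : (fun ω' => ∃ g', ψ g' ω' = ψ g ω) = fun ω' => ∃ g', ψ g' ω' = ω := by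
    funext ω'
    exact propext ⟨fun ⟨g', h⟩ => ⟨g⁻¹ * g', by rw [pm_mul, h, pm_inv]⟩,
      fun ⟨g', h⟩ => ⟨g * g', by rw [pm_mul, h]⟩⟩
  simp only [R, this]

theorem pm_inv_eq {Ω : Type u} (ψ : G →* Equiv.Perm Ω) {g : G} {a b : Ω} (h : ψ g a = b) : ψ g⁻¹ b = a := by
  rw [← h, pm_inv]

theorem Fam.perm_trans (F : Fam.{u} ι κ) {n : ℕ} (hL : LL F.Cl ι n) (ψ : G →* Equiv.Perm Ω)
    (hG : F.Cl G) (hψ : Injective ψ) (hc : Nat.card Ω < n) {U : Subgroup G} (hU : H2.IsMinNormal U)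
    [IsMulCommutative U] (ω₀ : Ω) (htr : ∀ ω, ∃ u ∈ U, ψ u ω₀ = ω) : ∃ c : Ω → κ, RegP ψ c := by
  have := hU.normal
  have hreg : ∀ u ∈ U, ψ u ω₀ = ω₀ → u = 1 := fun u hu h => hψ (by
    rw [map_one]
    ext ω
    obtain ⟨v, hv, rfl⟩ := htr ω
    have : u * v = v * u := congrArg Subtype.val (mul_comm (⟨u, hu⟩ : U) ⟨v, hv⟩)
    rw [← pm_mul, this, pm_mul, h]; rfl)
  let φ : stab ψ ω₀ →* MulAut U := MulAut.conjNormal.comp (stab ψ ω₀).subtype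
  have hφ : ∀ h (u : U), (φ h u : G) = h * u * (h : G)⁻¹ := fun _ _ => rfl
  have hcard : Nat.card U = Nat.card Ω := by
    refine Nat.card_eq_of_bijective (fun u : U => ψ u ω₀) ⟨fun u v h => ?_, fun ω => ?_⟩
    · have := hreg _ (U.mul_mem (U.inv_mem v.2) u.2) (by rw [pm_mul, show ψ u ω₀ = ψ v ω₀ from h, pm_inv])
      exact Subtype.ext (inv_mul_eq_one.1 this).symm
    · obtain ⟨u, hu, h⟩ := htr ω
      exact ⟨⟨u, hu⟩, h⟩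
  obtain ⟨x, hx⟩ := hL (stab ψ ω₀) U φ (F.inj _ (subtype_injective _) hG) (hcard ▸ hc) (by
    intro X hX
    have hn : (X.map U.subtype).Normal := ⟨by
      rintro _ ⟨w, hw, rfl⟩ g
      obtain ⟨u, hu, h⟩ := htr (ψ g ω₀)
      have h1 : u⁻¹ * g ∈ stab ψ ω₀ := by rw [mem_stab, pm_mul, ← h, pm_inv]
      refine ⟨_, hX ⟨_, h1⟩ w hw, ?_⟩
      have := congrArg Subtype.val (mul_comm (⟨u, hu⟩ : U) (φ ⟨_, h1⟩ w))
      simp only [coe_mul, hφ] at this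
      change u⁻¹ * g * w * (u⁻¹ * g)⁻¹ = g * w * g⁻¹
      exact mul_right_cancel (b := u) (by rw [← this]; group)⟩
    rcases hU.min _ hn (map_subtype_le X) with h | h
    · exact Or.inl ((map_eq_bot_iff_of_injective _ U.subtype_injective).1 h)
    · refine Or.inr (eq_top_iff.2 fun w _ => ?_)
      obtain ⟨w', h1, h2⟩ : (w : G) ∈ X.map U.subtype := h.symm ▸ w.2
      exact Subtype.ext h2 ▸ h1)
  refine F.reg ψ U ω₀ (fun j => x j) hG (fun j => (x j).2) htr hreg fun h h1 h2 ω => ?_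
  obtain ⟨u, hu, rfl⟩ := htr ω
  have : h * u * h⁻¹ = u := congrArg Subtype.val (hx ⟨h, h1⟩ (fun j => Subtype.ext (h2 j)) ⟨u, hu⟩)
  rw [← pm_mul, mul_inv_eq_iff_eq_mul.1 this, pm_mul, h1]

theorem Fam.perm_intrans [Nonempty κ] (F : Fam.{u} ι κ) (ψ : G →* Equiv.Perm Ω) (hP : PP F.Cl κ (Nat.card Ω))
    (hG : F.Cl G) (hψ : Injective ψ) {U : Subgroup G} [hU : U.Normal] (h0 : U ≠ ⊥)
    (htr : ∀ ω₀, ¬ ∀ ω, ∃ u ∈ U, ψ u ω₀ = ω) : ∃ c : Ω → κ, RegP ψ c := by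
  classical
  let orb : Ω → Set Ω := fun ω => {ω' | ∃ u ∈ U, ψ u ω = ω'}
  have horb : ∀ g ω, setP ψ g (orb ω) = orb (ψ g ω) := fun g ω => by
    ext ω'
    rw [mem_setP]
    exact ⟨fun ⟨u, hu, h⟩ => ⟨_, hU.conj_mem u hu g, by rw [pm_mul, pm_inv, pm_mul, h, pm_inv']⟩,
      fun ⟨u, hu, h⟩ => ⟨_, hU.conj_mem' u hu g, by rw [pm_mul, pm_mul, h]⟩⟩
  have hmem : ∀ ω ω', ω' ∈ orb ω → orb ω' = orb ω := by
    rintro ω _ ⟨u, hu, rfl⟩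
    ext ω'
    exact ⟨fun ⟨v, hv, h⟩ => ⟨_, U.mul_mem hv hu, by rw [pm_mul, h]⟩,
      fun ⟨v, hv, h⟩ => ⟨_, U.mul_mem hv (U.inv_mem hu), by rw [pm_mul, pm_inv, h]⟩⟩
  have hself : ∀ ω, ω ∈ orb ω := fun ω => ⟨1, U.one_mem, pm_one ψ ω⟩
  obtain ⟨c, hc⟩ := hP.set (setP ψ) ⊤ (F.inj _ (subtype_injective _) hG) (Set.range orb)
    (by rintro g - _ ⟨ω, rfl⟩; exact ⟨_, (horb g ω).symm⟩) (by
      have := Fintype.ofFinite Ω
      have := Fintype.ofFinite (Set.range orb)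
      rw [Nat.card_eq_fintype_card, Nat.card_eq_fintype_card]
      refine Fintype.card_lt_of_surjective_not_injective _ Set.rangeFactorization_surjective
        fun hi => h0 (eq_bot_iff.2 fun u hu => hψ ?_)
      rw [map_one]
      ext ω
      exact hi (Subtype.ext (hmem ω _ ⟨u, hu, rfl⟩)))
  have hd : ∀ D : Set Ω, ∃ d : κ → Ω → κ, D ∈ Set.range orb → ∀ g ∈ stab (setP ψ) D, ∀ s t,
      (∀ ω ∈ D, d s (ψ g ω) = d t ω) → s = t ∧ ∀ ω ∈ D, ψ g ω = ω := fun D => by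
    by_cases hD : D ∈ Set.range orb
    · obtain ⟨ω, rfl⟩ := hD
      obtain ⟨d, hd⟩ := F.multiP hP ψ hG (stab (setP ψ) (orb ω)) (orb ω) ⟨ω, hself ω⟩
        (fun g hg ω' h => by rw [← mem_stab.1 hg, mem_setP, pm_inv]; exact h) (by
          rw [Nat.card_coe_set_eq, ← Set.ncard_univ]
          exact Set.ncard_lt_ncard ⟨Set.subset_univ _, fun h => htr ω fun ω' => h (Set.mem_univ ω')⟩)
      exact ⟨d, fun _ => hd⟩
    · exact ⟨fun s _ => s, fun h => absurd h hD⟩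
  choose d hd using hd
  obtain ⟨R, a, ha, hR⟩ := exists_rep (setP ψ)
  refine ⟨fun ω => d (R (orb ω)) (c (orb ω)) (ψ (a (orb ω))⁻¹ ω), fun g hg => ?_⟩
  have key : ∀ ω, c (setP ψ g (orb ω)) = c (orb ω) ∧
      ∀ ω' ∈ R (orb ω), ψ ((a (setP ψ g (orb ω)))⁻¹ * g * a (orb ω)) ω' = ω' := fun ω => by
    have hRD : R (orb ω) = orb (ψ (a (orb ω))⁻¹ ω) := by rw [← horb, pm_inv_eq _ (ha _)]
    refine hd (R (orb ω)) ⟨_, hRD.symm⟩ _ ?_ _ _ fun ω' h => ?_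
    · rw [mem_stab, pm_mul, pm_mul, ha, pm_inv_eq _ (ha _), hR]
    · have h1 : orb (ψ (a (orb ω)) ω') = orb ω := hmem _ _ (by
        rw [← ha (orb ω), mem_setP, ha, pm_inv]; exact h)
      have := hg (ψ (a (orb ω)) ω')
      simp only [← horb g, hR, h1, pm_inv] at this
      rw [pm_mul, pm_mul]
      exact this
  intro ω
  have h1 := hc g (mem_top g) (by rintro _ ⟨ω, rfl⟩; exact (key ω).1) _ ⟨ω, rfl⟩
  have h2 := (key ω).2 (ψ (a (orb ω))⁻¹ ω) (by rw [← mem_setP, ha]; exact hself ω)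
  rw [h1, pm_mul, pm_mul, pm_inv'] at h2
  exact (ψ _).injective h2

theorem Fam.perm_step [Nonempty κ] (F : Fam.{u} ι κ) {n : ℕ} (hL : LL F.Cl ι (n + 1)) (hP : PP F.Cl κ n) :
    PP F.Cl κ (n + 1) := by
  intro G Ω _ _ _ ψ hG hc
  suffices ∃ c : Ω → κ, RegP ψ.range.subtype c by
    obtain ⟨c, h⟩ := this
    exact ⟨c, fun g hg => h ⟨ψ g, g, rfl⟩ hg⟩
  have hG' := F.surj _ ψ.rangeRestrict_surjective hG
  rcases subsingleton_or_nontrivial ψ.range with h | h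
  · exact ⟨fun _ => Classical.arbitrary κ, fun g _ ω => by rw [Subsingleton.elim g 1, pm_one]⟩
  have := F.sol hG'
  obtain ⟨U, hU, _, -⟩ := H2.exists_isMinNormal_of_isSolvable (G := ψ.range)
  by_cases htr : ∃ ω₀, ∀ ω, ∃ u ∈ U, ψ.range.subtype u ω₀ = ω
  · obtain ⟨ω₀, h⟩ := htr
    exact F.perm_trans hL _ hG' (subtype_injective _) hc hU ω₀ h
  · have := hU.normal
    exact F.perm_intrans _ (hP.mono (by omega)) hG' (subtype_injective _) hU.ne_bot (not_exists.1 htr)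

end Cfsg.Agent.H1.Bs
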