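import Cfsg.Agent.H1.Base2

/-! Bases of solvable linear groups, III: vectors with maximal stabilizer, the imprimitive case,
the induction. -/

set_option autoImplicit false
set_option linter.style.haveILetI false
set_option linter.unusedSectionVars false

namespace Cfsg.Agent.H1.Bs

open Subgroup Function
open scoped Pointwise commutatorElement IsMulCommutative

universe u

variable {G V Ω : Type u} [Group G] [Finite G] [CommGroup V] [Finite V] {ι κ : Type}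

def Cs (φ : G →* MulAut V) (E : Subgroup G) (w : V) : Subgroup G where
  carrier := {e | e ∈ E ∧ φ e w = w}
  one_mem' := ⟨E.one_mem, ap_one φ w⟩
  mul_mem' ha hb := ⟨E.mul_mem ha.1 hb.1, by rw [ap_mul, hb.2, ha.2]⟩
  inv_mem' {a} ha := ⟨E.inv_mem ha.1, by
    conv_lhs => rw [← ha.2]
    exact ap_inv φ a w⟩

def fx (φ : G →* MulAut V) (B : Subgroup G) : Subgroup V where
  carrier := {v | ∀ b ∈ B, φ b v = v}
  one_mem' b _ := map_one _
  mul_mem' ha hb b h := by rw [map_mul, ha b h, hb b h]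
  inv_mem' ha b h := by rw [map_inv, ha b h]

def Mx (φ : G →* MulAut V) (E : Subgroup G) (x : V) : Prop :=
  x ≠ 1 ∧ ∀ w, w ≠ 1 → Nat.card (Cs φ E w) ≤ Nat.card (Cs φ E x)

/-- the component of `x` -/
def Wx (φ : G →* MulAut V) (E : Subgroup G) (x : V) : Subgroup V := fx φ (Cs φ E x)

variable {φ : G →* MulAut V} {E : Subgroup G} {x x' w : V}

theorem mem_Cs {e : G} : e ∈ Cs φ E w ↔ e ∈ E ∧ φ e w = w := Iff.rfl

theorem mem_Wx : w ∈ Wx φ E x ↔ ∀ b ∈ E, φ b x = x → φ b w = w :=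
  ⟨fun h b h1 h2 => h b ⟨h1, h2⟩, fun h b hb => h b hb.1 hb.2⟩

theorem self_mem_Wx : x ∈ Wx φ E x := fun _ hb => hb.2

theorem exists_mx [Nontrivial V] (φ : G →* MulAut V) (E : Subgroup G) : ∃ x, Mx φ E x := by
  obtain ⟨x, h1, h2⟩ := Set.exists_max_image {w : V | w ≠ 1} (fun w => Nat.card (Cs φ E w))
    (Set.toFinite _) (exists_ne 1)
  exact ⟨x, h1, h2⟩

theorem Cs_ap [hE : E.Normal] (g : G) : Cs φ E (φ g x) = (Cs φ E x).map (MulAut.conj g).toMonoidHom := by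
  ext e
  constructor
  · intro h
    refine ⟨g⁻¹ * e * g, ⟨hE.conj_mem' e h.1 g, by rw [ap_mul, ap_mul, h.2, ap_inv]⟩, ?_⟩
    change g * (g⁻¹ * e * g) * g⁻¹ = e
    group
  · rintro ⟨e, h, rfl⟩
    refine ⟨hE.conj_mem e h.1 g, ?_⟩
    change φ (g * e * g⁻¹) _ = _
    rw [ap_mul, ap_mul, ap_inv, h.2]

theorem Mx.ap [E.Normal] (h : Mx φ E x) (g : G) : Mx φ E (φ g x) := by
  refine ⟨fun h0 => h.1 ((φ g).injective (h0.trans (map_one _).symm)), fun w hw => ?_⟩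
  rw [Cs_ap, card_map_of_injective (MulAut.conj g).injective]
  exact h.2 w hw

theorem Mx.eq (h : Mx φ E x) (hw : w ∈ Wx φ E x) (h1 : w ≠ 1) : Cs φ E x = Cs φ E w :=
  eq_of_le_of_card_ge (fun b hb => ⟨hb.1, hw b hb⟩) (h.2 w h1)

theorem Mx.fix (h : Mx φ E x) (hw : w ∈ Wx φ E x) (h1 : w ≠ 1) {e : G} (he : e ∈ E) (h2 : φ e w = w) :
    φ e x = x := ((h.eq hw h1).symm ▸ (⟨he, h2⟩ : e ∈ Cs φ E w) : e ∈ Cs φ E x).2

theorem subP_Wx [hE : E.Normal] (g : G) : subP φ g (Wx φ E x) = Wx φ E (φ g x) := by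
  ext w
  rw [mem_subP, mem_Wx, mem_Wx]
  constructor
  · intro h b hb h1
    have := h _ (hE.conj_mem' b hb g) (by rw [ap_mul, ap_mul, h1, ap_inv])
    rw [ap_mul, ap_mul, ap_inv'] at this
    exact (φ _).injective this
  · intro h b hb h1
    have := h _ (hE.conj_mem b hb g) (by rw [ap_mul, ap_mul, ap_inv, h1])
    rw [ap_mul, ap_mul] at this
    conv_rhs => rw [← this, ap_inv]

theorem Mx.sep (h : Mx φ E x) (h' : Mx φ E x') (hne : Wx φ E x ≠ Wx φ E x') (hw : w ∈ Wx φ E x')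
    (h1 : w ≠ 1) : ∃ b ∈ Cs φ E x, φ b w ≠ w := by
  by_contra hc
  push Not at hc
  exact hne (by rw [Wx, Wx, h.eq hc h1, h'.eq hw h1])

/-- the components of the `D`-conjugates of `x` -/
noncomputable def Lam (φ : G →* MulAut V) (E : Subgroup G) (x : V) (D : Subgroup G) : Finset (Subgroup V) :=
  (Set.toFinite {W | ∃ g ∈ D, Wx φ E (φ g x) = W}).toFinset

variable {D : Subgroup G}

theorem mem_Lam {W : Subgroup V} : W ∈ Lam φ E x D ↔ ∃ g ∈ D, Wx φ E (φ g x) = W :=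
  Set.Finite.mem_toFinset _

theorem Mx.sep_Lam [E.Normal] (h : Mx φ E x) (hc : ∀ g ∈ D, ∀ g' ∈ D, ∀ b ∈ Cs φ E (φ g x),
    ∀ b' ∈ Cs φ E (φ g' x), b * b' = b' * b) : Sep φ (Lam φ E x D) := by
  intro W hW W' hW' hne w hw h1
  obtain ⟨g, hg, rfl⟩ := mem_Lam.1 hW
  obtain ⟨g', hg', rfl⟩ := mem_Lam.1 hW'
  obtain ⟨b, hb, h2⟩ := (h.ap g).sep (h.ap g') hne hw h1
  refine ⟨b, fun W hW v hv => ?_, fun v hv => hv b hb, h2⟩
  obtain ⟨g', hg', rfl⟩ := mem_Lam.1 hW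
  intro b' hb'
  rw [← ap_mul, ← hc g hg g' hg' b hb b' hb', ap_mul, hv b' hb']

theorem exists_reps (φ : G →* MulAut V) (E : Subgroup G) (x : V) (D : Subgroup G) :
    ∃ a : Subgroup V → G, ∀ W ∈ Lam φ E x D, a W ∈ D ∧ Wx φ E (φ (a W) x) = W := by
  have : ∀ W, ∃ g, W ∈ Lam φ E x D → g ∈ D ∧ Wx φ E (φ g x) = W := fun W => by
    by_cases h : W ∈ Lam φ E x D
    · obtain ⟨g, hg⟩ := mem_Lam.1 h
      exact ⟨g, fun _ => hg⟩
    · exact ⟨1, fun h' => absurd h' h⟩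
  choose a ha using this
  exact ⟨a, ha⟩

theorem card_Lam_lt (h : x ≠ 1) : Nat.card (Lam φ E x D : Set (Subgroup V)) < Nat.card V := by
  classical
  obtain ⟨a, ha⟩ := exists_reps φ E x D
  have := Fintype.ofFinite V
  rw [Nat.card_eq_fintype_card, Nat.card_eq_fintype_card]
  refine Fintype.card_lt_of_injective_of_notMem (fun W => φ (a W) x) (fun W W' h => Subtype.ext ?_) (b := 1) ?_
  · rw [← (ha W W.2).2, ← (ha W' W'.2).2, show φ (a W) x = φ (a W') x from h]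
  · rintro ⟨W, hW⟩
    exact h ((φ _).injective (hW.trans (map_one _).symm))

theorem Irr.fix_all (hI : Irr φ) {g : G} {w : V} (h1 : w ≠ 1) (h : ∀ g', φ g (φ g' w) = φ g' w) (v : V) :
    φ g v = v := by
  let X : Subgroup V :=
    { carrier := {v | ∀ g', φ g (φ g' v) = φ g' v}
      one_mem' := fun g' => by rw [map_one, map_one]
      mul_mem' := fun ha hb g' => by rw [map_mul, map_mul, ha, hb]
      inv_mem' := fun ha g' => by rw [map_inv, map_inv, ha] }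
  rcases hI X (fun k v hv g' => by rw [← ap_mul φ g', hv]) with h2 | h2
  · exact absurd (mem_bot.1 (h2 ▸ (h : w ∈ X))) h1
  · have := (h2 ▸ mem_top v : v ∈ X) 1
    rwa [ap_one] at this

theorem Fam.imprim [Nonempty κ] [Nontrivial V] (F : Fam.{u} ι κ) (hL : LL F.Cl ι (Nat.card V))
    (hP : PP F.Cl κ (Nat.card V)) (hG : F.Cl G) (hφ : Injective φ) (hI : Irr φ) {N : Subgroup G}
    [N.Normal] [IsMulCommutative N] (hN : ¬ IsCyclic N) : ∃ x : ι → V, RegL φ x := by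
  obtain ⟨x, hx⟩ := exists_mx φ N
  have hB : Cs φ N x ≠ ⊥ := fun h0 => hN (Semireg.isCyclic (φ := φ.comp N.subtype) fun n hn v hv => by
    by_contra h1
    have := hx.2 v h1
    rw [h0, card_bot, ← not_lt, one_lt_card_iff_ne_bot, not_not] at this
    exact hn (Subtype.ext (mem_bot.1 (this ▸ (⟨n.2, hv⟩ : (n : G) ∈ Cs φ N v)))))
  have hlt : Nat.card (Wx φ N x) < Nat.card V := by
    refine lt_of_le_of_ne (card_le_card_group _) fun h => hB (eq_bot_iff.2 fun b hb => hφ ?_)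
    rw [map_one]
    ext v
    exact (eq_top_of_card_eq _ h ▸ mem_top v : v ∈ Wx φ N x) b hb
  let K := stab (subP φ) (Wx φ N x)
  obtain ⟨W', hW1, hW2, hW3, hW4⟩ := exists_minInv φ K (Wx φ N x)
    (fun h => hx.1 (mem_bot.1 (h ▸ self_mem_Wx))) (fun g hg w hw => by
      rw [← mem_stab.1 hg]; exact ap_mem_subP g hw)
  obtain ⟨d, hd1, hd⟩ := F.setL hL φ hG K W' hW2 hW3 hW4 ((card_le_of_le hW1).trans_lt hlt)
  have hinv : ∀ g, ∀ W ∈ Lam φ N x ⊤, subP φ g W ∈ Lam φ N x ⊤ := fun g W hW => by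
    obtain ⟨g', -, rfl⟩ := mem_Lam.1 hW
    exact mem_Lam.2 ⟨g * g', mem_top _, by rw [subP_Wx, ap_mul]⟩
  obtain ⟨c, hc⟩ := hP.set (subP φ) ⊤ (F.inj _ (subtype_injective _) hG) (Lam φ N x ⊤)
    (fun g _ => hinv g) (card_Lam_lt hx.1)
  obtain ⟨a, ha⟩ := exists_reps φ N x ⊤
  have ha' : ∀ W ∈ Lam φ N x ⊤, subP φ (a W) (Wx φ N x) = W := fun W hW => by rw [subP_Wx, (ha W hW).2]
  have hsep := hx.sep_Lam (D := ⊤) fun g _ g' _ b hb b' hb' =>
    congrArg Subtype.val (mul_comm (⟨b, hb.1⟩ : N) ⟨b', hb'.1⟩)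
  refine ⟨fun j => ∏ W ∈ Lam φ N x ⊤, φ (a W) (d (c W) j), fun g hg => ?_⟩
  have key : ∀ W ∈ Lam φ N x ⊤, c W = c (subP φ g W) ∧
      ∀ w ∈ W', φ ((a (subP φ g W))⁻¹ * g * a W) w = w := fun W hW => by
    refine hd _ ?_ _ _ fun j => ?_
    · rw [mem_stab, pm_mul, pm_mul, ha' W hW, pm_inv_eq _ (ha' _ (hinv g W hW))]
    · rw [ap_mul, ap_mul, hsep.perm (fun W => φ (a W) (d (c W) j)) (fun W hW => by
        have := ap_mem_subP (φ := φ) (a W) (hW1 (hd1 (c W) j))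
        rwa [ha' W hW] at this) (hinv g) (hg j) W hW, ap_inv]
  obtain ⟨w, hw, hw1⟩ := (W'.bot_or_exists_ne_one).resolve_left hW2
  refine hI.fix_all hw1 fun g' => ?_
  have hW : Wx φ N (φ g' x) ∈ Lam φ N x ⊤ := mem_Lam.2 ⟨g', mem_top _, rfl⟩
  have h1 := hc g (mem_top g) (fun W hW => (key W hW).1.symm) _ hW
  have h2 := (key _ hW).2 _ (hW3 ((a (Wx φ N (φ g' x)))⁻¹ * g') (by
    rw [mem_stab, pm_mul, subP_Wx, pm_inv_eq _ (ha' _ hW)]) w hw)
  rw [h1, ap_mul, ap_mul, ap_mul, ap_inv'] at h2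
  exact (φ _).injective h2

theorem Fam.lin_step [Nonempty κ] (F : Fam.{u} ι κ) {n : ℕ} (hL : LL F.Cl ι n) (hP : PP F.Cl κ n) :
    LL F.Cl ι (n + 1) := by
  intro G V _ _ _ _ φ hG hc hI
  suffices ∃ x : ι → V, RegL φ.range.subtype x by
    obtain ⟨c, h⟩ := this
    exact ⟨c, fun g hg => h ⟨φ g, g, rfl⟩ hg⟩
  have hG' := F.surj _ φ.rangeRestrict_surjective hG
  rcases subsingleton_or_nontrivial V with h | h
  · exact ⟨fun _ => 1, fun g _ v => Subsingleton.elim _ _⟩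
  have hI' : Irr φ.range.subtype := fun W hW => hI W fun g => hW ⟨φ g, g, rfl⟩
  have hP' := hP.mono (Nat.lt_succ_iff.1 hc)
  by_cases hN : ∀ N : Subgroup φ.range, N.Normal → IsMulCommutative N → IsCyclic N
  · exact F.prim _ hG' (subtype_injective _) hI' hN hP'
  · push Not at hN
    obtain ⟨N, _, _, hN⟩ := hN
    exact F.imprim (fun G V' _ _ _ _ φ hG h => hL G V' φ hG (by omega)) hP' hG'
      (subtype_injective _) hI' hN

theorem Fam.all [Nonempty κ] (F : Fam.{u} ι κ) (n : ℕ) : LL F.Cl ι n ∧ PP F.Cl κ n := by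
  induction n with
  | zero => exact ⟨fun _ _ _ _ _ _ _ _ h => absurd h (Nat.not_lt_zero _),
      fun _ _ _ _ _ _ _ h => absurd h (Nat.not_lt_zero _)⟩
  | succ n ih => exact ⟨F.lin_step ih.1 ih.2, F.perm_step (F.lin_step ih.1 ih.2) ih.2⟩

theorem Fam.cr [Nonempty κ] (F : Fam.{u} ι κ) (φ : G →* MulAut V) (hG : F.Cl G)
    (hcr : ∀ U : Subgroup V, (∀ g, ∀ v ∈ U, φ g v ∈ U) →
      ∃ W : Subgroup V, (∀ g, ∀ w ∈ W, φ g w ∈ W) ∧ U ⊓ W = ⊥ ∧ U ⊔ W = ⊤) :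
    ∃ x : ι → V, RegL φ x := by
  suffices ∀ n (U : Subgroup V), Nat.card U = n → (∀ g, ∀ v ∈ U, φ g v ∈ U) → ∃ x : ι → V,
      (∀ j, x j ∈ U) ∧ ∀ g, (∀ j, φ g (x j) = x j) → ∀ v ∈ U, φ g v = v by
    obtain ⟨x, -, h⟩ := this _ ⊤ rfl fun _ _ _ => mem_top _
    exact ⟨x, fun g hg v => h g hg v (mem_top v)⟩
  intro n
  induction n using Nat.strong_induction_on with
  | _ n ih =>
  intro U hn hU
  by_cases h0 : U = ⊥
  · exact ⟨fun _ => 1, fun _ => U.one_mem, fun g _ v hv => by rw [h0, mem_bot] at hv; rw [hv, map_one]⟩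
  obtain ⟨U₁, h1, h2, h3, h4⟩ := exists_minInv φ ⊤ U h0 fun g _ => hU g
  obtain ⟨d, hd1, hd⟩ := F.setL (F.all _).1 φ hG ⊤ U₁ h2 h3 h4 (Nat.lt_succ_self _)
  obtain ⟨W, hW1, hW2, hW3⟩ := hcr U₁ fun g => h3 g (mem_top g)
  obtain ⟨y, hy1, hy⟩ := ih _ (by
    rw [← hn]
    refine lt_of_le_of_ne (card_le_of_le (inf_le_left : U ⊓ W ≤ U)) fun h => h2 ?_
    have := eq_of_le_of_card_ge (inf_le_left : U ⊓ W ≤ U) h.ge
    rw [← hW2, inf_eq_left.2 (h1.trans (this ▸ inf_le_right))]) (U ⊓ W) rfl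
    fun g v hv => ⟨hU g v hv.1, hW1 g v hv.2⟩
  let s := Classical.arbitrary κ
  refine ⟨fun j => d s j * y j, fun j => U.mul_mem (h1 (hd1 s j)) (hy1 j).1, fun g hg v hv => ?_⟩
  have key : ∀ j, φ g (d s j) = d s j ∧ φ g (y j) = y j := fun j => by
    have e : φ g (d s j) / d s j = y j / φ g (y j) := by
      rw [div_eq_div_iff_mul_eq_mul, ← map_mul, hg j, mul_comm]
    have : φ g (d s j) / d s j ∈ U₁ ⊓ W := ⟨U₁.div_mem (h3 g (mem_top g) _ (hd1 s j)) (hd1 s j),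
      e ▸ W.div_mem (hy1 j).2 (hW1 g _ (hy1 j).2)⟩
    rw [hW2, mem_bot] at this
    exact ⟨div_eq_one.1 this, (div_eq_one.1 (e ▸ this)).symm⟩
  obtain ⟨a, ha, b, hb, rfl⟩ := mem_sup.1 (hW3 ▸ mem_top v : v ∈ U₁ ⊔ W)
  rw [map_mul, (hd g (mem_top g) s s fun j => (key j).1).2 a ha,
    hy g (fun j => (key j).2) b ⟨(U.mul_mem_cancel_left (h1 ha)).1 hv, hb⟩]

theorem Fam.final [Nonempty κ] (F : Fam.{u} ι κ) {A : Type*} {V : Type u} [Group A] [Finite A]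
    [AddCommGroup V] [Finite V] [DistribMulAction A V] [FaithfulSMul A V]
    (hA : ∀ (G : Type u) [Group G] (f : A →* G), Surjective f → F.Cl G)
    (hcr : ∀ U : AddSubgroup V, (∀ a : A, ∀ v ∈ U, a • v ∈ U) → ∃ W : AddSubgroup V,
      (∀ a : A, ∀ w ∈ W, a • w ∈ W) ∧ U ⊓ W = ⊥ ∧ U ⊔ W = ⊤) :
    ∃ x : ι → V, ∀ a : A, (∀ j, a • x j = x j) → a = 1 := by
  let f : A →* MulAut (Multiplicative V) :=
    { toFun := fun a => AddEquiv.toMultiplicative (DistribMulAction.toAddEquiv V a)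
      map_one' := by ext v; exact one_smul A v.toAdd
      map_mul' := fun a b => by ext v; exact mul_smul a b v.toAdd }
  obtain ⟨x, hx⟩ := F.cr f.range.subtype (hA _ _ f.rangeRestrict_surjective) fun U hU => by
    obtain ⟨W, h1, h2, h3⟩ := hcr (Subgroup.toAddSubgroup' U) fun a v hv => hU ⟨f a, a, rfl⟩ _ hv
    refine ⟨Subgroup.toAddSubgroup'.symm W, ?_, ?_, ?_⟩
    · rintro ⟨_, a, rfl⟩ w hw
      exact h1 a _ hw
    · apply Subgroup.toAddSubgroup'.injective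
      rw [OrderIso.map_inf, OrderIso.apply_symm_apply, h2, OrderIso.map_bot]
    · apply Subgroup.toAddSubgroup'.injective
      rw [OrderIso.map_sup, OrderIso.apply_symm_apply, h3, OrderIso.map_top]
  refine ⟨fun j => (x j).toAdd, fun a ha => eq_of_smul_eq_smul (α := V) fun v => ?_⟩
  rw [one_smul]
  exact hx ⟨f a, a, rfl⟩ ha (Multiplicative.ofAdd v)

end Cfsg.Agent.H1.Bs
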