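import Cfsg.Agent.H1.Base3
import Cfsg.Agent.H1.ThompsonFPF

/-! Bases of solvable linear groups, IV: the quasi-primitive case. -/

set_option autoImplicit false
set_option linter.style.haveILetI false
set_option linter.unusedSectionVars false

namespace Cfsg.Agent.H1.Bs

open Subgroup Function
open scoped Pointwise commutatorElement IsMulCommutative

universe u

variable {G V : Type u} [Group G] [Finite G] [CommGroup V] [Finite V] {ι κ : Type}

structure Str (φ : G →* MulAut V) (U E : Subgroup G) : Prop where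
  nU : U.Normal
  nE : E.Normal
  le : U ≤ E
  cyc : IsCyclic U
  leF : E ≤ fittingSubgroup G
  cen : ∀ u ∈ U, ∀ e ∈ E, u * e = e * u
  comm : ∀ e ∈ E, ∀ f ∈ fittingSubgroup G, ⁅e, f⁆ ∈ U
  cent : ∀ g, (∀ e ∈ E, e * g = g * e) → g ∈ U
  fpf : ∀ u ∈ U, ∀ v, v ≠ 1 → φ u v = v → u = 1

theorem conj_mem_zpowers_of_cyc {U : Subgroup G} [hU : U.Normal] [IsCyclic U] {u : G} (hu : u ∈ U) (g : G) :
    g * u * g⁻¹ ∈ zpowers u := by
  obtain ⟨z, hz⟩ := IsCyclic.exists_generator (α := U)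
  obtain ⟨k, hk⟩ := hz ⟨u, hu⟩
  obtain ⟨m, hm⟩ := hz ⟨_, hU.conj_mem z z.2 g⟩
  have hk' : (z : G) ^ k = u := congrArg Subtype.val hk
  have hm' : (z : G) ^ m = g * z * g⁻¹ := congrArg Subtype.val hm
  exact ⟨m, by
    change u ^ m = _
    rw [← hk', ← conj_zpow, ← hm', ← zpow_mul, ← zpow_mul, mul_comm]⟩

theorem exists_str {φ : G →* MulAut V} (hG : Group.IsSolvable G) (hφ : Injective φ) (hI : Irr φ)
    (hc : ∀ N : Subgroup G, N.Normal → IsMulCommutative N → IsCyclic N) : ∃ U E, Str φ U E := by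
  let F := fittingSubgroup G
  obtain ⟨U, ⟨hn, ha, hF⟩, hmax⟩ := (wellFounded_gt (α := Subgroup G)).has_min
    {U : Subgroup G | U.Normal ∧ U ≤ centralizer U ∧ U ≤ F} ⟨⊥, inferInstance, bot_le, bot_le⟩
  have := le_centralizer_iff_isMulCommutative.1 ha
  have := hc U hn this
  let π := QuotientGroup.mk' U
  have hπ : Surjective π := QuotientGroup.mk'_surjective U
  have := (fittingSubgroup_normal (G := G)).map π hπ
  let E := F ⊓ centralizer (U : Set G) ⊓ (centralizer (F.map π : Set (G ⧸ U))).comap π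
  have hE : E.Normal := inferInstance
  have hUE : U ≤ E := fun u hu => ⟨⟨hF hu, ha hu⟩, mem_comap.2 (by
    rw [show π u = 1 from (QuotientGroup.eq_one_iff u).2 hu]; exact one_mem _)⟩
  have hUC : U ≤ centralizer (E : Set G) := le_centralizer_iff.1 (inf_le_left.trans inf_le_right)
  have h1 : F ⊓ centralizer (E : Set G) ≤ U := by
    by_contra hne
    have := isNilpotent_fittingSubgroup G
    have := Normal.map (inferInstance : (F ⊓ centralizer (E : Set G)).Normal) π hπ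
    obtain ⟨_, ⟨⟨d, hd, rfl⟩, h2⟩, h3⟩ := (bot_or_exists_ne_one _).resolve_left
      (H2.inf_centralizer_ne_bot (P := F.map π) (N := (F ⊓ centralizer (E : Set G)).map π)
        (nilpotent_of_surjective _ (π.subgroupMap_surjective F)) (map_mono inf_le_left)
        le_normalizer_of_normal (by
          rwa [Ne, Subgroup.map_eq_bot_iff, QuotientGroup.ker_mk']))
    refine h3 ((QuotientGroup.eq_one_iff d).2 ?_)
    by_contra hdU
    refine hmax (E ⊓ centralizer (E : Set G)) ⟨inferInstance,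
      inf_le_right.trans (centralizer_le inf_le_left), inf_le_left.trans (inf_le_left.trans inf_le_left)⟩
      (lt_of_le_of_ne (le_inf hUE hUC) fun h => hdU (h ▸ ⟨⟨⟨hd.1, centralizer_le hUE hd.2⟩, h2⟩, hd.2⟩))
  have h2 : ⁅⁅centralizer (E : Set G), F⁆, centralizer (E : Set G)⁆ = ⊥ :=
    commutator_eq_bot_iff_le_centralizer.2 (((commutator_le_inf _ _).trans
      ((inf_comm _ _).le.trans h1)).trans (hUE.trans (le_centralizer_iff.1 le_rfl)))
  have h3 := commutator_eq_bot_iff_le_centralizer.1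
    (commutator_commutator_eq_bot_of_rotate h2 (by rwa [commutator_comm F]))
  have h4 : centralizer (E : Set G) ≤ F := by
    have : IsMulCommutative ((centralizer (E : Set G)).map π) := by
      rw [← le_centralizer_iff_isMulCommutative, ← commutator_eq_bot_iff_le_centralizer,
        ← map_commutator, Subgroup.map_eq_bot_iff, QuotientGroup.ker_mk']
      exact (le_inf (h3.trans (centralizer_fittingSubgroup_le hG)) (commutator_le_left _ _)).trans h1
    exact le_fittingSubgroup (isNilpotent_of_map_mk'_of_le_centralizer (Z := U)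
      (hUE.trans (le_centralizer_iff.1 le_rfl)) inferInstance)
  refine ⟨U, E, hn, hE, hUE, inferInstance, inf_le_left.trans inf_le_left,
    fun u hu e he => he.1.2 u hu, fun e he f hf => ?_, fun g hg => h1 ⟨h4 hg, hg⟩, fun u hu v h1 hv => ?_⟩
  · rw [← QuotientGroup.eq_one_iff]
    change π _ = 1
    rw [map_commutatorElement, commutatorElement_eq_one_iff_mul_comm]
    exact (he.2 _ ⟨f, hf, rfl⟩).symm
  · refine hφ ?_
    rw [map_one]
    ext w
    refine hI.fix_all h1 (fun g => ?_) w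
    have : g⁻¹ * u * g⁻¹⁻¹ ∈ Cs φ ⊤ v := zpowers_le.2 (show u ∈ Cs φ ⊤ v from ⟨mem_top _, hv⟩)
      (conj_mem_zpowers_of_cyc hu g⁻¹)
    have := this.2
    rw [inv_inv, ap_mul, ap_mul] at this
    conv_rhs => rw [← this, ap_inv']

theorem le_of_half {E H : Subgroup G} {S : Set G} (h1 : S ⊆ E) (h2 : S ⊆ H)
    (h : Nat.card E < 2 * S.ncard) : E ≤ H := by
  have h3 : S.ncard ≤ Nat.card (H ⊓ E : Subgroup G) := by
    rw [← Nat.card_coe_set_eq]
    exact Nat.card_mono (Set.toFinite _) fun s hs => ⟨h2 hs, h1 hs⟩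
  obtain ⟨k, hk⟩ := card_dvd_of_le (inf_le_right : H ⊓ E ≤ E)
  have h4 : 0 < Nat.card E := Nat.card_pos
  obtain rfl : k = 1 := by
    rcases k with _ | _ | k
    · omega
    · rfl
    · nlinarith
  exact (eq_of_le_of_card_ge (inf_le_right : H ⊓ E ≤ E) (by omega)).ge.trans inf_le_left

theorem exists_small_fibre [Fintype κ] [Nonempty κ] (E : Subgroup G) (c : G → κ) :
    ∃ s, Fintype.card κ * {f | f ∈ E ∧ c f = s}.ncard ≤ Nat.card E := by
  classical
  have := Fintype.ofFinite E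
  obtain ⟨s, hs⟩ := Fintype.exists_card_fiber_lt_of_card_lt_mul (fun f : E => c f)
    (n := Fintype.card E / Fintype.card κ + 1) (Nat.lt_mul_div_succ _ Fintype.card_pos)
  refine ⟨s, ?_⟩
  have : {f | f ∈ E ∧ c f = s} = Subtype.val '' ((Finset.univ.filter fun f : E => c f = s : Finset E) : Set E) := by
    ext f
    simp [and_comm]
  rw [this, Set.ncard_image_of_injective _ Subtype.val_injective, Set.ncard_coe_finset,
    Nat.card_eq_fintype_card]
  exact (Nat.mul_le_mul_left _ (Nat.lt_succ_iff.1 hs)).trans (Nat.mul_div_le _ _)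

variable {φ : G →* MulAut V} {U E : Subgroup G} {x : V}

/-- the stabilizer in `E` of the component of `x` -/
def Yx (φ : G →* MulAut V) (E : Subgroup G) (x : V) : Subgroup G := E ⊓ centralizer (Cs φ E x)

theorem Yx.ap_mem {y : G} (hy : y ∈ Yx φ E x) {w : V} (hw : w ∈ Wx φ E x) : φ y w ∈ Wx φ E x :=
  fun b hb => by rw [← ap_mul, hy.2 b hb, ap_mul, hw b hb]

theorem fix_inv {h : G} {v : V} (h1 : φ h v = v) : φ h⁻¹ v = v := by
  conv_lhs => rw [← h1]
  exact ap_inv φ h v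

namespace Str

variable (S : Str φ U E) (hx : Mx φ E x)
include S

theorem comm' {e f : G} (he : e ∈ E) (hf : f ∈ E) : ⁅e, f⁆ ∈ U := S.comm e he f (S.leF hf)

include hx

theorem commute {b f : G} (hb : b ∈ E) (hf : f ∈ E) (h : φ ⁅b, f⁆ x = x) : b * f = f * b :=
  commutatorElement_eq_one_iff_mul_comm.1 (S.fpf _ (S.comm' hb hf) x hx.1 h)

theorem B_le : Cs φ E x ≤ Yx φ E x := fun b hb => ⟨hb.1, fun c hc => S.commute hx hc.1 hb.1
  (mul_mem (mul_mem (mul_mem hc hb) (inv_mem hc)) (inv_mem hb) : _ ∈ Cs φ E x).2⟩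

theorem mem_Y {f : G} (hf : f ∈ E) (h : φ f x ∈ Wx φ E x) : f ∈ Yx φ E x := by
  refine inv_mem_iff.1 ⟨E.inv_mem hf, fun b hb => (S.commute hx (inv_mem hf) hb.1 ?_).symm⟩
  rw [commutatorElement_def, inv_inv, ap_mul, (inv_mem hb : _ ∈ Cs φ E x).2, ap_mul, ap_mul, h b hb, ap_inv]

theorem sep : Sep φ (Lam φ E x E) := by
  have := S.nE
  have : ∀ g ∈ E, ∀ b ∈ Cs φ E (φ g x), ∃ b₀ ∈ Cs φ E x, ∃ u ∈ U, b = u * b₀ := fun g hg b hb => by
    rw [Cs_ap] at hb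
    obtain ⟨b, hb, rfl⟩ := hb
    exact ⟨b, hb, _, S.comm' hg hb.1, by
      change g * b * g⁻¹ = _
      rw [commutatorElement_def]; group⟩
  refine hx.sep_Lam fun g hg g' hg' b hb b' hb' => ?_
  obtain ⟨c, hc, u, hu, rfl⟩ := this g hg b hb
  obtain ⟨c', hc', u', hu', rfl⟩ := this g' hg' b' hb'
  exact Commute.mul_left (Commute.mul_right (S.cen u hu u' (S.le hu')) (S.cen u hu c' hc'.1))
    (Commute.mul_right (S.cen u' hu' c hc.1).symm ((S.B_le hx hc').2 c hc))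

omit hx in
theorem delta_mem {h f : G} (h1 : φ h x = x) (hf : f ∈ E) (h2 : φ h (φ f x) = φ f x) :
    f⁻¹ * (h * f * h⁻¹) ∈ Cs φ E x := by
  refine ⟨mul_mem (inv_mem hf) (S.nE.conj_mem f hf h), ?_⟩
  rw [ap_mul, ap_mul, ap_mul, fix_inv h1, h2, ap_inv]

omit hx in
theorem fix_mul {h f y : G} (h1 : φ h x = x) (hf : f ∈ E) (h2 : φ h (φ f x) = φ f x)
    (hy : y ∈ Yx φ E x) (h3 : φ h (φ y x) = φ y x) : φ h (φ (f * y) x) = φ (f * y) x := by
  have := Yx.ap_mem hy self_mem_Wx _ (S.delta_mem h1 hf h2)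
  rw [ap_mul, ap_mul, ap_mul, fix_inv h3] at this
  conv_rhs => rw [ap_mul, ← this, ap_inv']
  rw [ap_mul]

omit hx in
theorem fix_Y {h : G} (h1 : φ h x = x) {T : Set G} (hT : ∀ t ∈ T, t ∈ Yx φ E x ∧ φ h (φ t x) = φ t x)
    (hB : Cs φ E x ≤ Yx φ E x) {y : G} (hy : y ∈ closure T ⊔ Cs φ E x) : φ h (φ y x) = φ y x := by
  let N : Subgroup G :=
    { carrier := {y | y ∈ Yx φ E x ∧ φ h (φ y x) = φ y x}
      one_mem' := ⟨one_mem _, by rw [ap_one, h1]⟩
      mul_mem' := fun ha hb => ⟨mul_mem ha.1 hb.1, S.fix_mul h1 ha.1.1 ha.2 hb.1 hb.2⟩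
      inv_mem' := fun {a} ha => ⟨inv_mem ha.1, by
        have := Yx.ap_mem (inv_mem ha.1) self_mem_Wx _ (inv_mem (S.delta_mem h1 ha.1.1 ha.2))
        simp only [mul_inv_rev, inv_inv, ap_mul, ap_inv', fix_inv h1] at this
        exact this⟩ }
  exact ((sup_le ((closure_le N).2 hT) fun b hb => ⟨hB hb, by rw [hb.2, h1]⟩ : _ ≤ N) hy).2

omit S in
theorem semireg {A : Subgroup G} (hA : A ≤ Yx φ E x) :
    Semireg (resL φ A (Wx φ E x) fun g hg w hw => Yx.ap_mem (hA hg) hw).range.subtype := by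
  rintro ⟨_, a, rfl⟩ h1 w hw
  by_contra h2
  refine h1 (Subtype.ext ?_)
  ext v
  exact v.2 a ⟨(hA a.2).1, hx.fix w.2 (fun h => h2 (Subtype.ext h)) (hA a.2).1 (congrArg Subtype.val hw)⟩

omit S hx in
theorem gen1 {A : Subgroup G} (hA : A ≤ Yx φ E x)
    (hc : IsCyclic (resL φ A (Wx φ E x) fun g hg w hw => Yx.ap_mem (hA hg) hw).range) :
    ∃ a ∈ A, A ≤ zpowers a ⊔ Cs φ E x := by
  obtain ⟨⟨_, a, rfl⟩, hz⟩ := hc.exists_generator
  refine ⟨a, a.2, fun b hb => ?_⟩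
  obtain ⟨k, hk⟩ := hz ⟨_, ⟨b, hb⟩, rfl⟩
  have h1 := congrArg (fun r => (r.1 ⟨x, self_mem_Wx⟩ : V)) hk
  simp only [SubgroupClass.coe_zpow, ← map_zpow, resL_ap] at h1
  have : ((a : G) ^ k)⁻¹ * b ∈ Cs φ E x :=
    ⟨E.mul_mem (E.inv_mem (E.zpow_mem (hA a.2).1 k)) (hA hb).1, by rw [ap_mul, ← h1, ap_inv]⟩
  rw [← mul_inv_cancel_left ((a : G) ^ k) b]
  exact mul_mem_sup (zpow_mem (mem_zpowers _) k) this

theorem gen2 : ∃ a ∈ Yx φ E x, ∃ b ∈ Yx φ E x, Yx φ E x ≤ closure {a, b} ⊔ Cs φ E x := by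
  obtain ⟨A, ⟨h1, h2, h3⟩, hmax⟩ := (wellFounded_gt (α := Subgroup G)).has_min
    {A : Subgroup G | Cs φ E x ≤ A ∧ A ≤ Yx φ E x ∧ A ≤ centralizer A}
    ⟨_, le_rfl, S.B_le hx, (S.B_le hx).trans inf_le_right⟩
  have := le_centralizer_iff_isMulCommutative.1 h3
  have : Nontrivial (Wx φ E x) := ⟨⟨x, self_mem_Wx⟩, 1, fun h => hx.1 (congrArg Subtype.val h)⟩
  obtain ⟨a, ha, hA⟩ := gen1 h2 (by
    have : IsMulCommutative (resL φ A (Wx φ E x) fun g hg w hw => Yx.ap_mem (h2 hg) hw).range :=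
      ⟨⟨by rintro ⟨_, a, rfl⟩ ⟨_, b, rfl⟩; exact Subtype.ext (by
        simp only [coe_mul, ← map_mul, mul_comm])⟩⟩
    exact (semireg hx h2).isCyclic)
  have haE := (h2 ha).1
  let θ : Yx φ E x →* U := MonoidHom.mk' (fun y => ⟨_, S.comm' haE y.2.1⟩) fun y z => Subtype.ext (by
    have := S.cen _ (S.comm' haE z.2.1) y y.2.1
    change ⁅a, (y : G) * z⁆ = ⁅a, (y : G)⁆ * ⁅a, (z : G)⁆
    calc _ = ⁅a, (y : G)⁆ * (y * ⁅a, (z : G)⁆) * (y : G)⁻¹ := by
          simp only [commutatorElement_def]; group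
      _ = _ := by rw [← this]; group)
  have := S.cyc
  obtain ⟨⟨_, b, rfl⟩, hz⟩ := IsCyclic.exists_generator (α := θ.range)
  refine ⟨a, h2 ha, b, b.2, fun y hy => ?_⟩
  obtain ⟨k, hk⟩ := hz ⟨_, ⟨y, hy⟩, rfl⟩
  have h4 : θ ((b ^ k)⁻¹ * ⟨y, hy⟩) = 1 := by
    rw [map_mul, map_inv, map_zpow, inv_mul_eq_one]
    exact congrArg Subtype.val hk
  have h5 := ((b ^ k)⁻¹ * ⟨y, hy⟩ : Yx φ E x).2
  have h6 : a * _ = _ * a := commutatorElement_eq_one_iff_mul_comm.1 (congrArg Subtype.val h4)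
  have h7 : ((b : G) ^ k)⁻¹ * y ∈ A := by
    change ((b ^ k)⁻¹ * ⟨y, hy⟩ : Yx φ E x).1 ∈ A
    generalize ((b ^ k)⁻¹ * ⟨y, hy⟩ : Yx φ E x).1 = z at h5 h6
    have h8 : zpowers z ≤ centralizer A := le_centralizer_iff.1 (hA.trans (sup_le (zpowers_le.2
      (mem_centralizer_iff.2 (by rintro _ ⟨k, rfl⟩; exact (Commute.zpow_right h6 k).symm)))
      (le_centralizer_iff.1 (zpowers_le.2 h5.2))))
    by_contra hz
    refine hmax (A ⊔ zpowers z) ⟨le_sup_of_le_left h1, sup_le h2 (zpowers_le.2 h5), ?_⟩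
      (lt_of_le_of_ne le_sup_left fun h => hz (h ▸ mem_sup_right (mem_zpowers z)))
    refine sup_le (le_centralizer_iff.1 (sup_le h3 h8)) (le_centralizer_iff.1 (sup_le
      (le_centralizer_iff.1 h8) (le_centralizer _)))
  rw [← mul_inv_cancel_left ((b : G) ^ k) y]
  refine mul_mem (mem_sup_left (zpow_mem (subset_closure (by simp)) k)) ?_
  exact sup_le_sup_right (zpowers_le.2 (subset_closure (by simp))) _ (hA h7)

theorem assemble [Fintype κ] [Nonempty κ] {Cl : (G : Type u) → [Group G] → Prop}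
    (hP : PP Cl κ (Nat.card V)) (hCl : Cl (Cs φ ⊤ x)) (t : κ → ι → V) (s₁ : κ)
    (ht : ∀ s j, t s j ∈ Wx φ E x) (h1 : ∀ g s s', (∀ j, φ g (t s j) = t s' j) → s = s')
    (h2 : ∀ s, s ≠ s₁ → ∃ j, t s j = x) (a : ι → G) (ha : ∀ j, a j ∈ Yx φ E x)
    (hY : Yx φ E x ≤ closure (Set.range a) ⊔ Cs φ E x) :
    ∃ y : ι → V, ∀ h, φ h x = x → (∀ j, φ h (y j) = y j) →
      Fintype.card κ * {f | f ∈ E ∧ φ h (φ f x) ≠ φ f x}.ncard ≤ Nat.card E ∧
      (∀ f ∈ E, Wx φ E (φ h (φ f x)) = Wx φ E (φ f x)) ∧ ∀ y ∈ Yx φ E x, φ h (φ y x) = φ y x := by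
  classical
  have := S.nE
  have hinv : ∀ h, φ h x = x → ∀ W ∈ Lam φ E x E, subP φ h W ∈ Lam φ E x E := fun h hh W hW => by
    obtain ⟨f, hf, rfl⟩ := mem_Lam.1 hW
    exact mem_Lam.2 ⟨_, S.nE.conj_mem f hf h, by rw [subP_Wx, ap_mul, ap_mul, fix_inv hh]⟩
  obtain ⟨c, hc⟩ := hP.set (subP φ) _ hCl (Lam φ E x E) (fun g hg => hinv g hg.2) (card_Lam_lt hx.1)
  obtain ⟨s₀, hs⟩ := exists_small_fibre E fun f => c (Wx φ E (φ f x))
  obtain ⟨r, hr⟩ := exists_reps φ E x E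
  have hr' : ∀ W ∈ Lam φ E x E, subP φ (r W) (Wx φ E x) = W := fun W hW => by rw [subP_Wx, (hr W hW).2]
  let w : ι → Subgroup V → V := fun j W =>
    if W = Wx φ E x then φ (a j) x else φ (r W) (t (Equiv.swap s₀ s₁ (c W)) j)
  have hw : ∀ j, ∀ W ∈ Lam φ E x E, w j W ∈ W := fun j W hW => by
    simp only [w]
    split_ifs with h
    · exact h ▸ Yx.ap_mem (ha j) self_mem_Wx
    · have := ap_mem_subP (φ := φ) (r W) (ht (Equiv.swap s₀ s₁ (c W)) j)
      rwa [hr' W hW] at this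
  refine ⟨fun j => ∏ W ∈ Lam φ E x E, w j W, fun h hh hy => ?_⟩
  have hp := fun j => (S.sep hx).perm (w j) (hw j) (hinv h hh) (hy j)
  have h0 : subP φ h (Wx φ E x) = Wx φ E x := by rw [subP_Wx, hh]
  have h3 := hc h ⟨mem_top _, hh⟩ fun W hW => by
    by_cases hW0 : W = Wx φ E x
    · rw [hW0, h0]
    refine ((Equiv.swap s₀ s₁).injective (h1 ((r (subP φ h W))⁻¹ * h * r W) _ _ fun j => ?_)).symm
    have := hp j W hW
    simp only [w, if_neg hW0, if_neg fun h' : subP φ h W = _ => hW0 ((subP φ h).injective (h'.trans h0.symm))] at this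
    rw [ap_mul, ap_mul, this, ap_inv]
  have h4 : ∀ y ∈ Yx φ E x, φ h (φ y x) = φ y x := fun y hy => S.fix_Y hh (by
    rintro _ ⟨j, rfl⟩
    have := hp j _ (mem_Lam.2 ⟨1, one_mem _, by rw [ap_one]⟩)
    simp only [w, h0, if_true] at this
    exact ⟨ha j, this⟩) (S.B_le hx) (hY hy)
  refine ⟨le_trans (Nat.mul_le_mul_left _ (Set.ncard_le_ncard ?_)) hs,
    fun f hf => by rw [← subP_Wx]; exact h3 _ (mem_Lam.2 ⟨f, hf, rfl⟩), h4⟩
  refine fun f hf => ⟨hf.1, ?_⟩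
  by_contra hne
  have hW : Wx φ E (φ f x) ∈ Lam φ E x E := mem_Lam.2 ⟨f, hf.1, rfl⟩
  by_cases hW0 : Wx φ E (φ f x) = Wx φ E x
  · exact hf.2 (h4 f (S.mem_Y hx hf.1 (hW0 ▸ self_mem_Wx)))
  obtain ⟨j, hj⟩ := h2 (Equiv.swap s₀ s₁ (c (Wx φ E (φ f x)))) fun h' => hne (by
    rw [Equiv.swap_apply_eq_iff, Equiv.swap_apply_right] at h'; exact h')
  have h5 := hp j _ hW
  rw [h3 _ hW] at h5
  simp only [w, if_neg hW0, hj] at h5
  have h6 : (r (Wx φ E (φ f x)))⁻¹ * f ∈ Yx φ E x :=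
    S.mem_Y hx (mul_mem (inv_mem (hr _ hW).1) hf.1) (by
      rw [ap_mul, ← mem_subP, hr' _ hW]; exact self_mem_Wx)
  have := S.fix_mul hh (hr _ hW).1 h5 h6 (h4 _ h6)
  rw [mul_inv_cancel_left] at this
  exact hf.2 this

end Str

end Cfsg.Agent.H1.Bs
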