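import Cfsg.Agent.H1.Base4

/-! Bases of solvable linear groups, V: solvable groups (Seress: base of size three; five colours). -/

set_option autoImplicit false
set_option linter.style.haveILetI false
set_option linter.unusedSectionVars false

namespace Cfsg.Agent.H1.Bs

open Subgroup Function
open scoped Pointwise commutatorElement IsMulCommutative

universe u

variable {G V Ω : Type u} [Group G] [Finite G] [CommGroup V] [Finite V] {ι κ : Type}

/-- action on tuples of vectors -/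
def tupP (ι : Type) (φ : G →* MulAut V) : G →* Equiv.Perm (ι → V) :=
  (MulAction.toPermHom (MulAut V) (ι → V)).comp φ

/-- action on colourings -/
def colP (κ : Type) (ψ : G →* Equiv.Perm Ω) : G →* Equiv.Perm (Ω → κ) where
  toFun g := (ψ g).arrowCongr (Equiv.refl κ)
  map_one' := by ext c ω; rw [map_one]; rfl
  map_mul' a b := by ext c ω; rw [map_mul]; rfl

/-- elementary operation on triples -/
def Tr (i j : Fin 3) (h : i ≠ j) : Equiv.Perm (Fin 3 → V) where
  toFun x := update x i (x i * x j)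
  invFun x := update x i (x i / x j)
  left_inv x := by simp [update_of_ne h.symm]
  right_inv x := by simp [update_of_ne h.symm]

theorem Tr_comm (i j k : Fin 3) (h1 : i ≠ j) (h2 : i ≠ k) (h3 : k ≠ j) :
    ⁅Tr (V := V) i k h2, Tr (V := V) k j h3⁆ = Tr (V := V) i j h1 := by
  rw [commutatorElement_def, mul_inv_eq_iff_eq_mul, mul_inv_eq_iff_eq_mul]
  ext x m
  simp only [Tr, Equiv.Perm.coe_mul, Equiv.coe_fn_mk, comp_apply]
  by_cases hi : m = i
  · subst hi
    simp [update_of_ne, h1, h2, h3, h1.symm, h2.symm, h3.symm, mul_assoc]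
  by_cases hk : m = k
  · subst hk
    simp [update_of_ne, h1, h2, h3, h1.symm, h2.symm, h3.symm, mul_assoc]
  · simp [update_of_ne, hi, hk]

theorem solMultL [Nontrivial V] (φ : G →* MulAut V) (hG : Group.IsSolvable G) (x : Fin 3 → V)
    (hx : RegL φ x) : ∃ d : Fin 5 → Fin 3 → V, (∀ s, RegL φ (d s)) ∧
      ∀ g s t, (∀ j, φ g (d s j) = d t j) → s = t := by
  let T : Set (Equiv.Perm (Fin 3 → V)) := {p | ∃ i j h, p = Tr i j h}
  have hP : commutator (closure T) = ⊤ := by
    apply map_injective (closure T).subtype_injective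
    rw [map_subtype_commutator, ← MonoidHom.range_eq_map, range_subtype]
    refine le_antisymm (commutator_le_self _) ((closure_le _).2 ?_)
    rintro _ ⟨i, j, h, rfl⟩
    obtain ⟨k, h2, h3⟩ : ∃ k, i ≠ k ∧ k ≠ j := by revert i j; decide
    rw [← Tr_comm i j k h h2 h3]
    exact commutator_mem_commutator (subset_closure ⟨_, _, _, rfl⟩) (subset_closure ⟨_, _, _, rfl⟩)
  have hc : ∀ g (p : closure T) y, tupP (Fin 3) φ g (p.1 y) = p.1 (tupP (Fin 3) φ g y) := fun g p y => by
    have : closure T ≤ centralizer {tupP (Fin 3) φ g} := (closure_le _).2 (by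
      rintro _ ⟨i, j, h, rfl⟩ _ rfl
      ext y m
      change φ g (update y i (y i * y j) m) = update (fun m => φ g (y m)) i (φ g (y i) * φ g (y j)) m
      by_cases hi : m = i
      · subst hi; simp
      · simp [update_of_ne hi])
    exact congrArg (fun e : Equiv.Perm (Fin 3 → V) => e y) (this p.2 _ rfl)
  rcases perfect_orbits hP hG (tupP (Fin 3) φ) (closure T).subtype hc x with ⟨d, hd⟩ | h
  · refine ⟨fun s => (d s).1 x, fun s g hg => hx g fun j => 
      congrFun ((d s).1.injective (a₁ := tupP (Fin 3) φ g x) ?_) j,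
      fun g s t h => hd g s t (funext h)⟩
    exact (hc g (d s) x).symm.trans (funext hg)
  · have h1 : ∀ j, x j = 1 := fun j => by
      obtain ⟨i, hi⟩ := exists_ne j
      have := congrFun (h ⟨_, subset_closure ⟨i, j, hi, rfl⟩⟩) i
      simpa [Tr] using this
    have h2 : ∀ g v, φ g v = v := fun g => hx g fun j => by rw [h1, map_one]
    have := Fintype.ofFinite V
    obtain ⟨e⟩ : Nonempty (Fin 5 ↪ (Fin 3 → V)) := by
      apply Function.Embedding.nonempty_of_card_le
      rw [Fintype.card_fin, Fintype.card_fun, Fintype.card_fin]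
      exact le_trans (by norm_num) (Nat.pow_le_pow_left Fintype.one_lt_card 3)
    exact ⟨e, fun s g _ => h2 g, fun g s t h => e.injective (funext fun j => (h2 g _).symm.trans (h j))⟩

theorem solMultP [Finite Ω] [Nonempty Ω] (ψ : G →* Equiv.Perm Ω) (hG : Group.IsSolvable G)
    (c : Ω → Fin 5) (hc : RegP ψ c) : ∃ d : Fin 5 → Ω → Fin 5, (∀ s, RegP ψ (d s)) ∧
      ∀ g s t, (∀ ω, d s (ψ g ω) = d t ω) → s = t := by
  rcases perfect_orbits (commutator_alternatingGroup_eq_top (α := Fin 5) (by simp)) hG (colP (Fin 5) ψ)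
    (MulAction.toPermHom _ (Ω → Fin 5)) (fun _ _ _ => rfl) c with ⟨d, hd⟩ | h
  · refine ⟨fun s ω => (d s).1 (c ω), fun s g hg => hc g fun ω => (d s).1.injective (hg ω),
      fun g s t h => hd g⁻¹ s t (funext fun ω => ?_)⟩
    refine Eq.trans ?_ (h ω)
    rw [map_inv]; rfl
  · have ω := Classical.arbitrary Ω
    obtain ⟨p, hp⟩ : ∃ p : alternatingGroup (Fin 5), p.1 (c ω) ≠ c ω := by
      generalize c ω = i
      exact ⟨⟨finRotate 5, Equiv.Perm.mem_alternatingGroup.2 (by decide)⟩, by revert i; decide⟩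
    exact absurd (congrFun (h p) ω) hp

theorem solReg (ψ : G →* Equiv.Perm Ω) (ω₀ : Ω) (x : Fin 3 → G)
    (h : ∀ h, ψ h ω₀ = ω₀ → (∀ j, h * x j * h⁻¹ = x j) → ∀ ω, ψ h ω = ω) {U : Subgroup G} [hU : U.Normal]
    (hx : ∀ j, x j ∈ U) (hr : ∀ u ∈ U, ψ u ω₀ = ω₀ → u = 1) : ∃ c : Ω → Fin 5, RegP ψ c := by
  obtain ⟨c, hc⟩ := exists_col_fix (Fin.cons ω₀ fun j => ψ (x j) ω₀ : Fin 4 → Ω)
  refine ⟨c, fun g hg => ?_⟩
  have h0 : ψ g ω₀ = ω₀ := hc 0 _ (hg _)
  refine h g h0 fun j => (inv_mul_eq_one.1 (hr _ (mul_mem (inv_mem (hx j)) (hU.conj_mem _ (hx j) g)) ?_)).symm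
  have h1 : ψ g (ψ (x j) ω₀) = ψ (x j) ω₀ := hc j.succ _ (hg _)
  rw [pm_mul, pm_mul, pm_mul, pm_inv_eq ψ h0, h1, pm_inv]

theorem Str.solEnd {φ : G →* MulAut V} {U E : Subgroup G} {x : V} (S : Str φ U E) (hx : Mx φ E x) {h : G}
    (hh : φ h x = x) (hc : 5 * {f | f ∈ E ∧ φ h (φ f x) ≠ φ f x}.ncard ≤ Nat.card E) : h = 1 := by
  set M := {f | f ∈ E ∧ φ h (φ f x) ≠ φ f x}
  have hE : 0 < Nat.card E := Nat.card_pos
  have hcard : ∀ M' : Set G, M'.ncard ≤ 2 * M.ncard → Nat.card E < 2 * ((E : Set G) \ M').ncard :=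
    fun M' h => by
      have := Set.le_ncard_diff M' (E : Set G)
      have : (E : Set G).ncard = Nat.card E := (Nat.card_coe_set_eq _).symm
      omega
  refine S.fpf h (S.cent h fun e he => (le_of_half (H := centralizer {h}) Set.diff_subset
    (fun f hf => ?_) (hcard M (by omega)) he h rfl).symm) x hx.1 hh
  have hf' : φ h (φ f x) = φ f x := not_not.1 fun h' => hf.2 ⟨hf.1, h'⟩
  have hδ := S.delta_mem hh hf.1 hf'
  have : f⁻¹ * (h * f * h⁻¹) = 1 := by
    refine S.fpf _ (S.cent _ fun e he => (le_of_half (H := centralizer {f⁻¹ * (h * f * h⁻¹)})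
      Set.diff_subset (fun g hg => ?_) (hcard (M ∪ (f⁻¹ * ·) '' M) ((Set.ncard_union_le _ _).trans (by
        rw [Set.ncard_image_of_injective _ (mul_right_injective _)]; omega))) he _ rfl).symm)
      x hx.1 hδ.2
    rintro _ rfl
    have h1 := S.delta_mem hh hg.1 (not_not.1 fun h' => hg.2 (Or.inl ⟨hg.1, h'⟩))
    have h2 := S.delta_mem hh (mul_mem hf.1 hg.1) (not_not.1 fun h' =>
      hg.2 (Or.inr ⟨_, ⟨mul_mem hf.1 hg.1, h'⟩, inv_mul_cancel_left _ _⟩))
    have := S.commute hx (inv_mem hδ.1) (inv_mem hg.1) (by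
      have := (mul_mem (inv_mem hδ) (mul_mem h2 (inv_mem h1)) : _ ∈ Cs φ E x).2
      refine Eq.trans (congrArg (fun z => φ z x) ?_) this
      simp only [commutatorElement_def]; group)
    exact Commute.inv_inv_iff.1 this
  rintro _ rfl
  exact mul_inv_eq_iff_eq_mul.1 (inv_mul_eq_one.1 this).symm

theorem solPrim [Nontrivial V] (φ : G →* MulAut V) (hG : Group.IsSolvable G) (hφ : Injective φ)
    (hI : Irr φ) (hc : ∀ N : Subgroup G, N.Normal → IsMulCommutative N → IsCyclic N)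
    (hP : PP.{u} (fun G _ => Group.IsSolvable G) (Fin 5) (Nat.card V)) : ∃ x : Fin 3 → V, RegL φ x := by
  obtain ⟨U, E, S⟩ := exists_str hG hφ hI hc
  obtain ⟨x, hx⟩ := exists_mx φ E
  rcases U.bot_or_exists_ne_one with h0 | ⟨u, hu, hu1⟩
  · refine ⟨fun _ => 1, fun g _ v => ?_⟩
    have : ∀ e ∈ E, e = 1 := fun e he => mem_bot.1 (h0 ▸ S.cent e fun f hf =>
      commutatorElement_eq_one_iff_mul_comm.1 (mem_bot.1 (h0 ▸ S.comm' hf he)))
    have hg : g ∈ U := S.cent g fun e he => by rw [this e he, one_mul, mul_one]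
    rw [h0, mem_bot] at hg
    rw [hg, ap_one]
  obtain ⟨a, ha, b, hb, hY⟩ := S.gen2 hx
  have h1 : φ u x ≠ x := fun h => hu1 (S.fpf u hu x hx.1 h)
  have h2 : φ u x ≠ 1 := fun h => hx.1 ((φ u).injective (h.trans (map_one _).symm))
  have h3 : φ u x ∈ Wx φ E x := Yx.ap_mem ⟨S.le hu, fun b hb => (S.cen u hu b hb.1).symm⟩ self_mem_Wx
  obtain ⟨y, hy⟩ := S.assemble hx hP (inferInstance : Group.IsSolvable _)
    (![![1, 1], ![x, 1], ![1, x], ![x, x], ![x, φ u x]] : Fin 5 → Fin 2 → V) 0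
    (fun s j => by fin_cases s <;> fin_cases j <;> simp [self_mem_Wx, h3, one_mem])
    (fun g s s' => by
      generalize ht : (![![1, 1], ![x, 1], ![1, x], ![x, x], ![x, φ u x]] : Fin 5 → Fin 2 → V) = t
      intro h
      have e0 : t s 0 = 1 ↔ t s' 0 = 1 := by rw [← h, MulEquiv.map_eq_one_iff]
      have e1 : t s 1 = 1 ↔ t s' 1 = 1 := by rw [← h, MulEquiv.map_eq_one_iff]
      have e2 : t s 0 = t s 1 ↔ t s' 0 = t s' 1 := by rw [← h, ← h, (φ g).injective.eq_iff]
      subst ht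
      have := hx.1
      fin_cases s <;> fin_cases s' <;> simp [hx.1, hx.1.symm, h1, h1.symm, h2] at e0 e1 e2 ⊢)
    (fun s hs => by
      fin_cases s
      exacts [absurd rfl hs, ⟨0, rfl⟩, ⟨1, rfl⟩, ⟨0, rfl⟩, ⟨0, rfl⟩]) ![a, b]
    (fun j => by fin_cases j; exacts [ha, hb]) (by simpa [Set.pair_comm] using hY)
  refine ⟨Fin.cons x y, fun h hh v => ?_⟩
  rw [S.solEnd hx (hh 0) (by simpa using (hy h (hh 0) fun j => hh j.succ).1), ap_one]

/-- solvable groups -/
def solFam : Fam.{u} (Fin 3) (Fin 5) where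
  Cl G _ := Group.IsSolvable G
  inj _ hf _ := solvable_of_solvable_injective hf
  surj _ hf _ := solvable_of_surjective hf
  sol h := h
  multL := solMultL
  multP := solMultP
  reg ψ _ _ _ ω₀ x _ hx _ hr h := solReg ψ ω₀ x h hx hr
  prim := solPrim

/-- every solvable permutation group has a regular colouring with five colours -/
theorem five_colours [Finite Ω] (ψ : G →* Equiv.Perm Ω) (hG : Group.IsSolvable G) :
    ∃ c : Ω → Fin 5, RegP ψ c := (solFam.all _).2 G Ω ψ hG (Nat.lt_succ_self _)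

end Cfsg.Agent.H1.Bs
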