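import Cfsg.Agent.H26.Subn
import Cfsg.Agent.H3.SylowIn
import Cfsg.Agent.H1.Coprime
import Cfsg.Agent.H1.Frattini

/-! Casolo's count of the subnormalizer of a `p`-subgroup. -/

set_option autoImplicit false

namespace Cfsg.Agent.H1.Cas

open Subgroup H3 Finset
open scoped Pointwise Classical

theorem toggle {α : Type*} [Fintype α] (a : α) (F : Finset α → ℤ) (h : ∀ σ, F (insert a σ) = F σ) :
    ∑ σ : Finset α, (-1) ^ #σ * F σ = 0 := by
  refine sum_involution (fun σ _ => if a ∈ σ then σ.erase a else insert a σ) (fun σ _ => ?_)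
    (fun σ _ _ e => ?_) (fun _ _ => mem_univ _) fun σ _ => ?_
  · split_ifs with h1
    · rw [← h (σ.erase a), insert_erase h1, ← card_erase_add_one h1]; ring
    · rw [h, card_insert_of_notMem h1]; ring
  · split_ifs at e with h1
    · exact notMem_erase a σ (e.symm ▸ h1)
    · exact h1 (e ▸ mem_insert_self a σ)
  · by_cases h1 : a ∈ σ <;> simp [h1]

variable {G : Type*} [Group G] [Fintype G] {p : ℕ} [hp : Fact p.Prime] {H : Subgroup G}

local notation "𝔑" H:max => normalizer ((H : Subgroup G) : Set G)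

theorem card_eq_sum (N : Subgroup G) :
    (Nat.card N : ℤ) = ∑ S, if SylowIn p S N then (Nat.card (𝔑 S ⊓ N : Subgroup G) : ℤ) else 0 := by
  haveI := Fintype.ofFinite (Sylow p N)
  have h1 : ∀ Q : Sylow p N, Nat.card (Sylow p N) *
      Nat.card (𝔑 ((Q : Subgroup N).map N.subtype) ⊓ N : Subgroup G) = Nat.card N := fun Q => by
    rw [Q.card_eq_index_normalizer, ← subgroupOf_map_subtype, card_map_of_injective N.subtype_injective,
      subgroupOf_normalizer_eq (map_subtype_le _), subgroupOf, comap_map_eq_self_of_injective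
        N.subtype_injective]
    exact index_mul_card _
  rw [← sum_filter, ← sum_bij (s := univ) (fun (Q : Sylow p N) _ => (Q : Subgroup N).map N.subtype)
    (fun Q _ => mem_filter.mpr ⟨mem_univ _, sylowIn_map_subtype Q⟩)
    (fun Q _ Q' _ e => Sylow.ext (map_injective N.subtype_injective e))
    (fun S hS => by simpa using sylowIn_iff_exists_sylow.mp (mem_filter.mp hS).2) fun _ _ => rfl]
  refine mul_left_cancel₀ (Nat.cast_ne_zero.mpr (Nat.card_pos (α := Sylow p N)).ne') ?_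
  simp only [mul_sum, ← Nat.cast_mul, h1]
  simp

/-- Chains of mutually normalizing `p`-subgroups above `H`. -/
def Ch (p : ℕ) (H : Subgroup G) (σ : Finset (Subgroup G)) : Prop :=
  ∀ R ∈ σ, H ≤ R ∧ IsPGroup p R ∧ ∀ R' ∈ σ, (R ≤ R' ∨ R' ≤ R) ∧ R' ≤ 𝔑 R

omit hp in
theorem Ch.mono {σ τ : Finset (Subgroup G)} (h : Ch p H τ) (h' : σ ⊆ τ) : Ch p H σ :=
  fun R hR => ⟨(h R (h' hR)).1, (h R (h' hR)).2.1, fun R' hR' => (h R (h' hR)).2.2 R' (h' hR')⟩

omit hp in
theorem Ch.insert {σ : Finset (Subgroup G)} {S : Subgroup G} (h : Ch p H σ) (h1 : H ≤ S)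
    (h2 : IsPGroup p S) (h3 : ∀ R ∈ σ, (R ≤ S ∨ S ≤ R) ∧ R ≤ 𝔑 S ∧ S ≤ 𝔑 R) : Ch p H (insert S σ) := by
  simp only [Ch, forall_mem_insert]
  exact ⟨⟨h1, h2, ⟨Or.inl le_rfl, le_normalizer⟩, fun R hR => ⟨(h3 R hR).1.symm, (h3 R hR).2.1⟩⟩,
    fun R hR => ⟨(h R hR).1, (h R hR).2.1, ⟨(h3 R hR).1, (h3 R hR).2.2⟩, (h R hR).2.2⟩⟩

theorem sum_sylow (S : Subgroup G) : ∑ σ : Finset (Subgroup G), (-1) ^ #σ *
    (if Ch p H σ ∧ SylowIn p S (σ.inf fun R => 𝔑 R) then
      (Nat.card (𝔑 S ⊓ σ.inf (fun R => 𝔑 R) : Subgroup G) : ℤ) else 0) =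
    if SylowIn p S ⊤ ∧ ¬ H ≤ S then (Nat.card (𝔑 S) : ℤ) else 0 := by
  have h1 : ∀ σ : Finset (Subgroup G), Ch p H σ → SylowIn p S (σ.inf fun R => 𝔑 R) → ∀ R ∈ σ, R ≤ S :=
    fun σ h h' R hR => h'.le_of_le_normalizer (h R hR).2.1
      (Finset.le_inf fun R' hR' => ((h R' hR').2.2 R hR).2) (Finset.inf_le hR)
  by_cases hS : H ≤ S
  · rw [if_neg (by simp [hS])]
    refine toggle S _ fun σ => ?_
    rw [inf_insert, ← inf_assoc, inf_idem]
    refine if_congr ⟨fun ⟨h, h'⟩ => ⟨h.mono (subset_insert _ _), ?_⟩, fun ⟨h, h'⟩ => ⟨h.insert hS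
      h'.isPGroup fun R hR => ⟨Or.inl (h1 σ h h' R hR), (h1 σ h h' R hR).trans le_normalizer,
        h'.le.trans (Finset.inf_le hR)⟩, h'.of_le (le_inf le_normalizer h'.le) inf_le_right⟩⟩ rfl rfl
    refine sylowIn_of_forall_eq h'.isPGroup (h'.le.trans inf_le_right) fun R h2 h3 h4 => by_contra fun e => ?_
    exact (lt_inf_normalizer_of_lt h2 (h4.lt_of_ne' e)).ne' (h'.eq_of_le (h2.to_inf_left)
      (le_inf inf_le_right (inf_le_left.trans h3)) (le_inf h4 le_normalizer))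
  · rw [sum_eq_single ∅ (fun σ _ hσ => ?_) (by simp)]
    · simp [Ch, hS]
    · obtain ⟨R, hR⟩ := nonempty_iff_ne_empty.mpr hσ
      rw [if_neg fun h => hS ((h.1 R hR).1.trans (h1 σ h.1 h.2 R hR)), mul_zero]

theorem sum_elt (g : G) : ∑ σ : Finset (Subgroup G), (-1) ^ #σ *
    (if Ch p H σ ∧ g ∈ σ.inf fun R => 𝔑 R then (1 : ℤ) else 0) =
    if ∃ R : Subgroup G, IsPGroup p R ∧ H ≤ R ∧ g ∈ 𝔑 R then 0 else 1 := by
  have hm : ∀ σ : Finset (Subgroup G), g ∈ (σ.inf fun R => 𝔑 R) ↔ ∀ R ∈ σ, g ∈ 𝔑 R := fun σ => by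
    rw [← zpowers_le, Finset.le_inf_iff]; simp
  split_ifs with h
  · obtain ⟨K, ⟨h1, h2, h3⟩, h4⟩ := (wellFounded_lt (α := Subgroup G)).has_min _ h
    have h5 : ∀ R, H ≤ R → g ∈ 𝔑 R → K ≤ R := fun R h h' => inf_eq_left.mp
      (inf_le_left.eq_or_lt.resolve_right (h4 _ ⟨h1.to_inf_left, le_inf h2 h,
        inf_normalizer_le_normalizer_inf ⟨h3, h'⟩⟩))
    rw [← sum_fiberwise univ fun σ => K ⊔ σ.sup id]
    refine sum_eq_zero fun T _ => ?_
    let m := sInf {R | K ≤ R ∧ T ⊔ zpowers g ≤ 𝔑 R}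
    have h6 : K ≤ m := le_sInf fun R hR => hR.1
    have h7 : T ⊔ zpowers g ≤ 𝔑 m := fun x hx => mem_normalizer_of_conj_mem fun y hy =>
      Subgroup.mem_sInf.mpr fun R hR => (mem_normalizer_iff.mp (hR.2 hx) y).mp (Subgroup.mem_sInf.mp hy R hR)
    have h8 : ∀ σ, Ch p H σ → (∀ R ∈ σ, g ∈ 𝔑 R) → K ⊔ σ.sup id = T → m ≤ T ∧ ∀ R ∈ σ, m ≤ R := by
      intro σ h8 h9 h10
      have h11 : ∀ R ∈ σ, m ≤ R := fun R hR => sInf_le ⟨h5 R (h8 R hR).1 (h9 R hR), sup_le (h10 ▸ sup_le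
        ((h5 R (h8 R hR).1 (h9 R hR)).trans le_normalizer)
        (Finset.sup_le fun R' hR' => ((h8 R hR).2.2 R' hR').2)) (zpowers_le.mpr (h9 R hR))⟩
      refine ⟨?_, h11⟩
      rcases σ.eq_empty_or_nonempty with rfl | ⟨R, hR⟩
      · obtain rfl : K = T := by simpa using h10
        exact sInf_le ⟨le_rfl, sup_le le_normalizer (zpowers_le.mpr h3)⟩
      · exact (h11 R hR).trans (h10 ▸ (Finset.le_sup (f := id) hR).trans le_sup_right)
    rw [sum_filter]
    refine Eq.trans ?_ (toggle m (fun σ => if (Ch p H σ ∧ ∀ R ∈ σ, g ∈ 𝔑 R) ∧ K ⊔ σ.sup id = T then 1 else 0)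
      fun σ => if_congr ⟨fun ⟨⟨h9, h10⟩, h11⟩ => ?_, fun ⟨⟨h9, h10⟩, h11⟩ => ?_⟩ rfl rfl)
    · exact sum_congr rfl fun σ _ => by by_cases e : K ⊔ σ.sup id = T <;> simp [hm, e]
    · refine ⟨⟨h9.mono (subset_insert _ _), fun R hR => h10 R (mem_insert_of_mem hR)⟩, ?_⟩
      have h12 := h8 _ h9 h10 h11
      rw [sup_insert, id] at h11
      rcases σ.eq_empty_or_nonempty with rfl | ⟨R, hR⟩
      · have h13 : m = T := by simpa [h6] using h11
        have h14 := (h9 m (mem_insert_self _ _)).2.1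
        rw [h13] at h6 h7 h14
        have h15 : m ≤ K ⊔ ⁅T, T⁆ := sInf_le ⟨le_sup_left, sup_le (le_normalizer_iff_commutator_le_left.mpr
          ((commutator_mono (sup_le h6 (le_normalizer_iff_commutator_le_left.mp le_normalizer)) le_rfl).trans
            le_sup_right)) (le_normalizer_sup (zpowers_le.mpr h3) (le_normalizer_commutator
              (le_sup_right.trans h7) (le_sup_right.trans h7)))⟩
        simpa using eq_of_sup_frattini_eq h6 (h13.ge.trans (h15.trans (sup_le_sup_left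
          (commutator_le_map_frattini h14.isNilpotent) _)))
      · rwa [sup_of_le_right ((h12.2 R (mem_insert_of_mem hR)).trans (Finset.le_sup (f := id) hR))] at h11
    · obtain ⟨h12, h13⟩ := h8 σ h9 h10 h11
      refine ⟨⟨h9.insert (h2.trans h6) ?_ fun R hR => ⟨Or.inr (h13 R hR), le_trans ?_ (le_sup_left.trans h7),
        (h13 R hR).trans le_normalizer⟩, by simpa using ⟨h7 (mem_sup_right (mem_zpowers g)), h10⟩⟩, ?_⟩
      · rcases σ.eq_empty_or_nonempty with rfl | ⟨R, hR⟩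
        · exact h1.to_le (by simpa [← h11] using h12)
        · exact (h9 R hR).2.1.to_le (h13 R hR)
      · exact h11 ▸ (Finset.le_sup (f := id) hR).trans le_sup_right
      · rw [sup_insert, id, sup_left_comm, h11, sup_of_le_right h12]
  · rw [sum_eq_single ∅ (fun σ _ hσ => ?_) (by simp)]
    · simp [Ch]
    · obtain ⟨R, hR⟩ := nonempty_iff_ne_empty.mpr hσ
      rw [if_neg fun e => h ⟨R, (e.1 R hR).2.1, (e.1 R hR).1, (hm σ).mp e.2 R hR⟩, mul_zero]

theorem casolo (P : Sylow p G) :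
    Nat.card {g : G // ∃ R : Subgroup G, IsPGroup p R ∧ H ≤ R ∧ g ∈ 𝔑 R} =
      Nat.card {Q : Sylow p G // H ≤ Q} * Nat.card (𝔑 P) := by
  haveI := Fintype.ofFinite (Sylow p G)
  have h1 : ∀ σ : Finset (Subgroup G), ∑ S, (-1) ^ #σ * (if Ch p H σ ∧ SylowIn p S (σ.inf fun R => 𝔑 R) then
      (Nat.card (𝔑 S ⊓ σ.inf (fun R => 𝔑 R) : Subgroup G) : ℤ) else 0) =
      ∑ g : G, (-1) ^ #σ * (if Ch p H σ ∧ g ∈ σ.inf fun R => 𝔑 R then (1 : ℤ) else 0) := fun σ => by
    rw [← mul_sum, ← mul_sum]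
    by_cases h : Ch p H σ
    · simp only [h, true_and, ← card_eq_sum]
      simp only [sum_boole, Nat.card_eq_fintype_card, Fintype.card_subtype]
    · simp [h]
  have h2 := sum_congr rfl fun σ (_ : σ ∈ univ) => h1 σ
  rw [sum_comm, sum_comm (t := (univ : Finset G))] at h2
  simp only [sum_sylow, sum_elt] at h2
  have h3 : ∀ (c : Subgroup G → Prop) [DecidablePred c], ∑ S, (if SylowIn p S ⊤ ∧ c S then (Nat.card (𝔑 S) : ℤ) else 0) =
      Nat.card {Q : Sylow p G // c Q} * Nat.card (𝔑 P) := fun c _ => by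
    rw [← sum_filter, ← sum_bij (s := univ.filter fun Q : Sylow p G => c Q) (fun Q _ => (Q : Subgroup G))
      (fun Q hQ => mem_filter.mpr ⟨mem_univ _, sylowIn_top Q, (mem_filter.mp hQ).2⟩)
      (fun Q _ Q' _ e => Sylow.ext e) (fun S hS => ⟨(mem_filter.mp hS).2.1.toSylowTop,
        mem_filter.mpr ⟨mem_univ _, (mem_filter.mp hS).2.2⟩, rfl⟩) fun _ _ => rfl,
      sum_congr rfl (g := fun _ => (Nat.card (𝔑 P) : ℤ)) fun Q _ => ?_]
    · simp [Fintype.card_subtype]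
    · obtain ⟨g, rfl⟩ := MulAction.exists_smul_eq G P Q
      rw [Sylow.coe_subgroup_smul, normalizer_conj_smul, card_conj_smul]
  have h4 := h3 fun _ => True
  have h5 := card_eq_sum (p := p) (⊤ : Subgroup G)
  simp only [and_true, inf_top_eq, card_top] at h4 h5
  rw [h3 fun S => ¬ H ≤ S, sum_ite, sum_const_zero, zero_add, sum_const, nsmul_one] at h2
  have h6 := card_filter_add_card_filter_not (s := univ) fun Q : Sylow p G => H ≤ Q
  have h7 := card_filter_add_card_filter_not (s := univ)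
    fun g : G => ∃ R : Subgroup G, IsPGroup p R ∧ H ≤ R ∧ g ∈ 𝔑 R
  simp only [Nat.card_eq_fintype_card, Fintype.card_subtype, filter_true, card_univ] at *
  zify at *
  linear_combination h7 + h5 + h4 + h2 - h6 * (#{x : G | x ∈ 𝔑 P} : ℤ)

omit hp [Fintype G] in
theorem card_fiber {X : Type*} (f : G → X) (S : Subgroup G) (h : ∀ a b, f a = f b ↔ a⁻¹ * b ∈ S)
    (c : X → Prop) : Nat.card {g // c (f g)} = Nat.card {y // c y ∧ ∃ g, y = f g} * Nat.card S := by
  let f' : G ⧸ S → X := Quotient.lift f fun a b e => (h a b).mpr (QuotientGroup.leftRel_apply.mp e)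
  rw [mul_comm, ← Nat.card_congr (Equiv.ofBijective (fun q : {q | c (f' q)} =>
    (⟨f' q, q.2, q.1.inductionOn fun g => ⟨g, rfl⟩⟩ : {y // c y ∧ ∃ g, y = f g})) ⟨?_, ?_⟩),
    ← QuotientGroup.card_preimage_mk]
  · rfl
  · rintro ⟨⟨a⟩, _⟩ ⟨⟨b⟩, _⟩ e
    exact Subtype.ext (QuotientGroup.eq.mpr ((h a b).mp (congrArg Subtype.val e)))
  · rintro ⟨_, h, g, rfl⟩
    exact ⟨⟨g, h⟩, rfl⟩

theorem casolo' (hH : IsPGroup p H) (P : Sylow p G) :
    Nat.card {g : G // (H.subgroupOf (H ⊔ zpowers g)).IsSubnormal} =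
      Nat.card {g : G // MulAut.conj g • H ≤ P} ∧
    Nat.card {g : G // MulAut.conj g • H ≤ P} = Nat.card {Q : Sylow p G // H ≤ Q} * Nat.card (𝔑 P) := by
  have h1 : Nat.card {g : G // MulAut.conj g • H ≤ P} =
      Nat.card {Q : Sylow p G // H ≤ Q} * Nat.card (𝔑 P) := by
    rw [Nat.card_congr ((Equiv.inv G).subtypeEquiv (q := fun g => H ≤ (g • P : Sylow p G)) fun g => by
      rw [Sylow.coe_subgroup_smul, subset_pointwise_smul_iff]; simp),
      card_fiber (fun g : G => g • P) (𝔑 P) (fun a b => by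
        refine Iff.trans ?_ Sylow.smul_eq_iff_mem_normalizer
        rw [mul_smul, inv_smul_eq_iff, eq_comm]) fun Q => H ≤ Q]
    congr 1
    exact Nat.card_congr (Equiv.subtypeEquivRight fun Q => and_iff_left
      ((MulAction.exists_smul_eq G P Q).imp fun _ => Eq.symm))
  refine ⟨?_, h1⟩
  simp only [H26.subnormal_sup_zpowers_iff hH]
  rw [casolo P, h1]

end Cfsg.Agent.H1.Cas
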