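import Cfsg.Agent.S4142
import Cfsg.Agent.H1.Casolo
import Cfsg.Agent.H1.ThompsonFPF
import Cfsg.Agent.H3.Tate

/-! Camina pairs. -/

set_option autoImplicit false

namespace Cfsg.Agent.H1.Cam

open Subgroup
open scoped commutatorElement

theorem cmem {G : Type*} [Group G] {S : Subgroup G} {a b : G} (h1 : a ∈ S) (h2 : b ∈ S) : ⁅a, b⁆ ∈ S :=
  mul_mem (mul_mem (mul_mem h1 h2) (inv_mem h1)) (inv_mem h2)

variable {G : Type*} [Group G] [Finite G] {N : Subgroup G} [N.Normal] {p : ℕ} [hp : Fact p.Prime]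
  (h : ∀ g : G, g ∉ N → ∀ n ∈ N, ∃ x : G, x * g * x⁻¹ = g * n)
include h

theorem exists_elt (hd : p ∣ N.index) (S : Sylow p G) : ∃ g ∈ S, g ∉ N ∧ g ^ p ∈ N ∧
    (∀ y ∈ S, ⁅y, g⁆ ∈ N) ∧ ∀ n ∈ (S : Subgroup G) ⊓ N, ∃ y ∈ S, ⁅g⁻¹, y⁆ = n := by
  let T := S.mapSurjective (QuotientGroup.mk'_surjective N)
  haveI := (T : Subgroup (G ⧸ N)).nontrivial_iff_ne_bot.mpr (T.ne_bot_of_dvd_card hd)
  haveI := T.isPGroup'.center_nontrivial
  obtain ⟨⟨⟨_, g, hg, rfl⟩, h1⟩, h2⟩ := exists_prime_orderOf_dvd_card' (G := center T) p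
    ((T.isPGroup'.to_subgroup _).card_eq_or_dvd.resolve_left Finite.one_lt_card.ne')
  rw [← orderOf_coe, ← orderOf_coe] at h2
  have h3 : g ∉ N := fun e => hp.out.one_lt.ne (by simpa [(QuotientGroup.eq_one_iff g).mpr e] using h2)
  have h4 : ∀ y ∈ S, ⁅y, g⁆ ∈ N := fun y hy => (QuotientGroup.eq_one_iff _).mp (by
    rw [← QuotientGroup.mk'_apply, map_commutatorElement, commutatorElement_eq_one_iff_mul_comm]
    exact congrArg Subtype.val (mem_center_iff.mp h1 ⟨_, y, hy, rfl⟩))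
  refine ⟨g, hg, h3, (QuotientGroup.eq_one_iff _).mp (h2 ▸ pow_orderOf_eq_one (g : G ⧸ N)), h4, ?_⟩
  have h5 := Cas.card_fiber (fun y : (S : Subgroup G) => ⁅g⁻¹, (y : G)⁆) ((centralizer {g}).subgroupOf S) (fun a b => by
    refine Iff.trans ?_ (mem_centralizer_singleton_iff (k := (a : G)⁻¹ * b)).symm
    simp only [commutatorElement_def, mul_assoc, mul_right_inj, inv_inv]
    constructor <;> intro e
    · calc (a : G)⁻¹ * (b * g) = (a : G)⁻¹ * (b * (g * (b : G)⁻¹)) * b := by group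
        _ = _ := by rw [← e]; group
    · calc (a : G) * (g * (a : G)⁻¹) = a * (g * ((a : G)⁻¹ * b)) * (b : G)⁻¹ := by group
        _ = _ := by rw [← e]; group) fun _ => True
  obtain ⟨k, hk⟩ := (S.isPGroup'.to_subgroup ((centralizer {g}).subgroupOf S)).exists_card_eq
  have h6 : p ^ k ∣ Nat.card T := T.pow_dvd_card_of_pow_dvd_card (hk ▸ (card_comap_dvd_of_injective _ _
    (subtype_injective _)).trans ((S4142.result N).mp h g h3 ▸ card_subgroup_dvd_card _))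
  have h7 := card_inf_mul_relIndex N S
  rw [← QuotientGroup.ker_mk' N, relIndex_ker, QuotientGroup.ker_mk', inf_comm] at h7
  rw [Nat.card_congr (Equiv.subtypeUnivEquiv fun _ => trivial), hk, ← h7] at h5
  have h8 : {n | True ∧ ∃ y : (S : Subgroup G), n = ⁅g⁻¹, (y : G)⁆} = ((S : Subgroup G) ⊓ N : Subgroup G) := by
    refine Set.eq_of_subset_of_ncard_le ?_ (Nat.le_of_mul_le_mul_right
      ((Nat.mul_le_mul_left _ (Nat.le_of_dvd Nat.card_pos h6)).trans h5.le) (pow_pos hp.out.pos k))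
    rintro _ ⟨-, y, rfl⟩
    refine ⟨cmem (inv_mem hg) y.2, ?_⟩
    convert Normal.conj_mem ‹_› _ (h4 y y.2) g⁻¹ using 1
    simp [commutatorElement_def, mul_assoc]
  intro n hn
  obtain ⟨-, y, rfl⟩ := h8.ge hn
  exact ⟨y, y.2, rfl⟩

theorem hasNormalPComplement (hd : p ∣ N.index) : HasNormalPComplement p N := by
  obtain ⟨S⟩ : Nonempty (Sylow p G) := inferInstance
  obtain ⟨g, hg, -, -, -, h1⟩ := exists_elt h hd S
  refine H3.hasNormalPComplement_of_inf_le_frattini S N fun n hn => ?_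
  obtain ⟨y, hy, rfl⟩ := h1 n ⟨hn.2, hn.1⟩
  exact commutator_le_map_frattini S.isPGroup'.isNilpotent (commutator_mem_commutator (inv_mem hg) hy)

omit [Finite G] [N.Normal] hp in
theorem pow_mem_of_comm {L : Subgroup G} [L.Normal] {g y : G} (hg : g ∉ N) (hy : y ∈ N) {k : ℕ}
    (hk : g ^ k = 1) (hc : Commute (g : G ⧸ L) y) : y ^ k ∈ L := by
  obtain ⟨x, hx⟩ := h g hg y hy
  have := congrArg (fun a => QuotientGroup.mk' L (a ^ k)) hx
  simp only [conj_pow, hk, mul_one, mul_inv_cancel, map_one] at this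
  rw [map_pow, map_mul, QuotientGroup.mk'_apply, QuotientGroup.mk'_apply, hc.mul_pow,
    ← QuotientGroup.mk_pow, hk, QuotientGroup.mk_one, one_mul, ← QuotientGroup.mk_pow] at this
  exact (QuotientGroup.eq_one_iff _).mp this.symm

theorem not_dvd (hd : p ∣ N.index) {L : Subgroup G} [L.Normal] (h1 : L ≤ N) (h2 : ¬ N ≤ L)
    (h3 : ∀ y ∈ N, ∀ k, y ^ p ^ k ∈ L → y ∈ L) : ¬ p ∣ Nat.card N := by
  obtain ⟨S⟩ : Nonempty (Sylow p G) := inferInstance
  obtain ⟨g, hg, h4, h5, h6, h7⟩ := exists_elt h hd S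
  have h8 : (S : Subgroup G) ⊓ N ≤ L := fun y hy =>
    let ⟨k, hk⟩ := S.isPGroup' ⟨y, hy.1⟩
    h3 y hy.2 k ((show y ^ p ^ k = 1 from congrArg Subtype.val hk) ▸ one_mem L)
  obtain ⟨V, _, _, φ, hφ⟩ := exists_semireg_of_fpf (A := (S : Subgroup G).map (QuotientGroup.mk' L))
    (K := N.map (QuotientGroup.mk' L)) (by rwa [Ne, Subgroup.map_eq_bot_iff, QuotientGroup.ker_mk'])
    le_normalizer_of_normal (by
      rintro _ ⟨x, hx, rfl⟩ hx1
      refine eq_bot_iff.mpr ?_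
      rintro _ ⟨⟨y, hy, rfl⟩, hc⟩
      obtain ⟨k, hk⟩ := S.isPGroup' ⟨x, hx⟩
      exact (QuotientGroup.eq_one_iff y).mpr (h3 y hy k (pow_mem_of_comm h (fun e => hx1
        ((QuotientGroup.eq_one_iff x).mpr (h8 ⟨hx, e⟩))) hy (congrArg Subtype.val hk) (hc _ rfl))))
    (Or.inl (isSolvable_of_isPGroup (S.isPGroup'.map _)))
  refine (H3.sylowIn_inf_normal S N).eq_bot_iff.mp (by_contra fun e => (commutator_lt_of_isPGroup
    S.isPGroup'.to_inf_left S.isPGroup' (le_normalizer_inf le_normalizer le_normalizer_of_normal)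
      e).not_ge fun n hn => ?_)
  obtain ⟨y, hy, rfl⟩ := h7 n hn
  by_cases h9 : y ∈ N
  · rw [commutator_comm]
    exact commutator_mem_commutator (inv_mem hg) ⟨hy, h9⟩
  let a : (S : Subgroup G).map (QuotientGroup.mk' L) := ⟨g, g, hg, rfl⟩
  let b : (S : Subgroup G).map (QuotientGroup.mk' L) := ⟨y, y, hy, rfl⟩
  have h10 : p ∣ orderOf b := by
    obtain ⟨k, hk⟩ := (IsPGroup.iff_orderOf.mp (S.isPGroup'.map (QuotientGroup.mk' L))) b
    refine hk ▸ dvd_pow_self p ?_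
    rintro rfl
    exact h9 (h1 ((QuotientGroup.eq_one_iff y).mp (congrArg Subtype.val (orderOf_eq_one_iff.mp hk))))
  have h11 : Commute b a := Subtype.ext (commutatorElement_eq_one_iff_mul_comm.mp
    ((QuotientGroup.eq_one_iff ⁅y, g⁆).mpr (h8 ⟨cmem hy hg, h6 y hy⟩)))
  obtain ⟨k, hk⟩ := zpowers_le.mpr (pow_mem (mem_zpowers b) _) (hφ.mem_zpowers_of_commute hp.out
    (h11.pow_left _).eq (orderOf_pow_orderOf_div (orderOf_pos b).ne' h10)
    (Subtype.ext ((QuotientGroup.eq_one_iff (g ^ p)).mpr (h8 ⟨pow_mem hg p, h5⟩))))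
  have h12 : g⁻¹ * y ^ k ∈ L := QuotientGroup.eq.mp (congrArg Subtype.val hk).symm
  convert commutator_mem_commutator (H₁ := (S : Subgroup G) ⊓ N)
    (mem_inf.mpr ⟨mul_mem (inv_mem hg) (zpow_mem hy k), h1 h12⟩) hy using 1
  simp only [commutatorElement_def]; group

theorem isNilpotent (hd : p ∣ N.index) (h1 : ¬ p ∣ Nat.card N) : Group.IsNilpotent N := by
  obtain ⟨g, hg⟩ := exists_prime_orderOf_dvd_card' (G := G) p (hd.trans N.index_dvd_card)
  refine isNilpotent_of_fpf (y := g) (by rw [normalizer_eq_top]; trivial) (hg ▸ hp.out)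
    (eq_bot_iff.mpr fun y hy => ?_)
  have := pow_mem_of_comm (L := ⊥) h (fun e => h1 (hg ▸ N.orderOf_dvd_natCard e)) hy.1
    (pow_orderOf_eq_one g) (Commute.map (hy.2 g rfl) (QuotientGroup.mk' ⊥))
  exact orderOf_eq_one_iff.mp (Nat.eq_one_of_dvd_coprimes ((Nat.Prime.coprime_iff_not_dvd hp.out).mpr h1)
    (hg ▸ orderOf_dvd_of_pow_eq_one this) (N.orderOf_dvd_natCard hy.1))

theorem isNilpotent_of_two {q : ℕ} [hq : Fact q.Prime] (hpq : p ≠ q) (hd : p ∣ N.index)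
    (hd' : q ∣ N.index) : Group.IsNilpotent N := by
  by_cases h1 : p ∣ Nat.card N
  swap
  · exact isNilpotent h hd h1
  have h2 := fun x => H3.mem_pResidual_iff (hasNormalPComplement h hd) (x := x)
  refine isNilpotent h hd' (not_dvd h hd' (L := (pResidual p N).map N.subtype) (map_subtype_le _)
    (fun e => ?_) fun y hy k ⟨z, hz, e⟩ => ⟨⟨y, hy⟩, (h2 _).mpr ?_, rfl⟩)
  · obtain ⟨x, hx⟩ := exists_prime_orderOf_dvd_card' p h1
    obtain ⟨y, hy, e⟩ := e x.2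
    obtain rfl : y = x := Subtype.ext e
    exact hp.out.one_lt.ne' (by simpa [hx] using (h2 y).mp hy)
  · refine Nat.Coprime.coprime_dvd_left (orderOf_dvd_of_pow_eq_one (n := q ^ k * orderOf z) ?_)
      (Nat.Coprime.mul_left (((Nat.coprime_primes hq.out hp.out).mpr hpq.symm).pow_left k) ((h2 z).mp hz))
    rw [pow_mul, show (⟨y, hy⟩ : N) ^ q ^ k = z from Subtype.ext e.symm, pow_orderOf_eq_one]

theorem isPGroup_of_nil (hN : Group.IsNilpotent N) (hd : p ∣ N.index) (h1 : p ∣ Nat.card N) :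
    IsPGroup p N := by
  by_contra h2
  refine not_dvd h hd (L := pCore p G ⊓ N) inf_le_right (fun e => h2 ((isPGroup_pCore p G).to_le
    (e.trans inf_le_left))) (fun y hy k hk => ⟨?_, hy⟩) h1
  obtain ⟨j, hj⟩ := isPGroup_pCore p G ⟨_, hk.1⟩
  obtain ⟨i, -, hi⟩ := (Nat.dvd_prime_pow hp.out).mp (orderOf_dvd_of_pow_eq_one
    ((by rw [pow_add, pow_mul]; exact congrArg Subtype.val hj) : y ^ p ^ (k + j) = 1))
  exact le_pCore_of_le_fittingSubgroup (IsPGroup.of_card (by rw [Nat.card_zpowers, hi]))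
    ((zpowers_le.mpr hy).trans (le_fittingSubgroup hN)) (mem_zpowers y)

end Cfsg.Agent.H1.Cam
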