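import Cfsg.Agent.H24.Misc1
import Cfsg.Agent.S0949
import Cfsg.Agent.H3.Tate
import Cfsg.Agent.H11.Three
import Cfsg.Agent.H1.Quaternion
import Cfsg.Agent.H1.SylowIn

/-! Transfer tools for involutions acting with a cyclic fixed Sylow subgroup of order four. -/

namespace Cfsg.Agent.H1.Cz

open Subgroup
open scoped commutatorElement Pointwise

variable {G : Type*} [Group G]

theorem tg0 [Finite G] {P N : Subgroup G} (hodd : ¬ 2 ∣ P.index)
    (hNP : N ≤ P) (hc : ∀ p ∈ P, ∀ q ∈ P, ⁅p, q⁆ ∈ N) {x x' b b' : G} (x2 : x * x = 1)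
    (x2' : x' * x' = 1) (hb : b ∈ P) (hb' : b' ∈ P) (b2 : b * b ∈ N) (b2' : b' * b' ∈ N)
    (h : ∀ g, g⁻¹ * x * g ∈ P → b⁻¹ * (g⁻¹ * x * g) ∈ N)
    (h' : ∀ g, g⁻¹ * x' * g ∈ P → b'⁻¹ * (g⁻¹ * x' * g) ∈ N)
    (hxx : x⁻¹ * x' ∈ commutator G) : b⁻¹ * b' ∈ N := by
  haveI hn : (N.subgroupOf P).Normal := ⟨fun n hn p => by
    have : ((p * n * p⁻¹ : P) : G) = ⁅(p : G), (n : G)⁆ * n := by simp [commutatorElement_def]
    rw [mem_subgroupOf, this]
    exact N.mul_mem (hc _ p.2 _ n.2) hn⟩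
  letI : CommGroup (P ⧸ N.subgroupOf P) :=
    { (inferInstance : Group (P ⧸ N.subgroupOf P)) with
      mul_comm := fun a b => by
        induction a using QuotientGroup.induction_on with | H a => ?_
        induction b using QuotientGroup.induction_on with | H b => ?_
        rw [← QuotientGroup.mk_mul, ← QuotientGroup.mk_mul, QuotientGroup.eq, mem_subgroupOf]
        have := hc _ (P.inv_mem b.2) _ (P.inv_mem a.2)
        simpa [commutatorElement_def, mul_assoc] using this }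
  let φ : P →* P ⧸ N.subgroupOf P := QuotientGroup.mk' _
  have key : ∀ (x b : G) (hb : b ∈ P), x * x = 1 → b * b ∈ N →
      (∀ g, g⁻¹ * x * g ∈ P → b⁻¹ * (g⁻¹ * x * g) ∈ N) → MonoidHom.transfer φ x = φ ⟨b, hb⟩ := by
    intro x b hb x2 b2 h
    have e2 : φ ⟨b, hb⟩ ^ 2 = 1 := by
      rw [sq, ← map_mul]; exact (QuotientGroup.eq_one_iff _).2 b2
    have ex : x ^ 2 = 1 := by rw [sq, x2]
    rw [H3.transfer_eq_pow_of_forall φ x (φ ⟨b, hb⟩), pow_eq_pow_mod _ e2,
      show P.index % 2 = 1 by omega, pow_one]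
    intro k g hg
    rw [pow_eq_pow_mod _ e2]
    rcases Nat.mod_two_eq_zero_or_one k with hk | hk
    · rw [hk, pow_zero]
      have : (⟨g⁻¹ * x ^ k * g, hg⟩ : P) = 1 := Subtype.ext (by
        show g⁻¹ * x ^ k * g = 1
        rw [pow_eq_pow_mod _ ex, hk]; simp)
      rw [this, map_one]
    · rw [hk, pow_one]
      have e : x ^ k = x := by rw [pow_eq_pow_mod _ ex, hk, pow_one]
      symm
      refine QuotientGroup.eq.2 ?_
      show b⁻¹ * (g⁻¹ * x ^ k * g) ∈ N
      rw [e] at hg ⊢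
      exact h g hg
  have h1 := Abelianization.commutator_subset_ker (MonoidHom.transfer φ) hxx
  rw [MonoidHom.mem_ker, map_mul, map_inv, key x b hb x2 b2 h, key x' b' hb' x2' b2' h',
    inv_mul_eq_one] at h1
  have h2 := QuotientGroup.eq.1 (show ((⟨b, hb⟩ : P) : P ⧸ N.subgroupOf P) = (⟨b', hb'⟩ : P) from h1)
  exact h2

theorem commutator_top_of {A : Subgroup G} (hA : ⁅A, A⁆ = A) : commutator A = ⊤ := by
  apply map_injective A.subtype_injective
  rw [map_subtype_commutator, hA, ← MonoidHom.range_eq_map, range_subtype]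

theorem tgA [Finite G] {A T N : Subgroup G} (hA : ⁅A, A⁆ = A) (hT : IsSylowIn 2 T A)
    (hNP : N ≤ T) (hc : ∀ p ∈ T, ∀ q ∈ T, ⁅p, q⁆ ∈ N) {u : G} (hu : u ∈ T) (u2 : u * u = 1)
    (h : ∀ g ∈ A, g⁻¹ * u * g ∈ T → u⁻¹ * (g⁻¹ * u * g) ∈ N) : u ∈ N := by
  have := tg0 (G := A) (P := T.subgroupOf A) (N := N.subgroupOf A) hT.not_dvd
    (fun a ha => hNP ha) (fun p hp q hq => hc _ hp _ hq) (x := ⟨u, hT.le hu⟩) (x' := 1)
    (b := ⟨u, hT.le hu⟩) (b' := 1) (Subtype.ext u2) (one_mul 1) hu (one_mem _)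
    (by rw [mem_subgroupOf]; simp [u2]) (by simp) (fun g hg => h g g.2 hg) (fun g _ => by simp)
    (by rw [commutator_top_of hA]; trivial)
  simpa [mem_subgroupOf] using this

theorem thE [Finite G] {A T M Q : Subgroup G} (hA : ⁅A, A⁆ = A) (hT : IsSylowIn 2 T A)
    (hM : M ≤ T) (h2 : M.relIndex T = 2) {u : G} (hu : u ∈ A) (u2 : u * u = 1) (hQ : Q ≤ T)
    (hQu : ∀ q ∈ Q, q * u = u * q) : ∃ g ∈ A, g * u * g⁻¹ ∈ M ∧ ∀ q ∈ Q, g * q * g⁻¹ ∈ T := by
  haveI : Fact (Nat.Prime 2) := ⟨Nat.prime_two⟩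
  obtain ⟨P, hP⟩ := hT.exists_sylow
  have hP' : (P : Subgroup A) = T.subgroupOf A := by
    rw [← hP, subgroupOf, comap_map_eq_self_of_injective A.subtype_injective]
  obtain ⟨g, h1, h3⟩ := H24.thompson_transfer_extremal (G := A) (S := T.subgroupOf A)
    (M := M.subgroupOf A) (T := Q.subgroupOf A)
    ⟨le_top, hP' ▸ P.isPGroup', fun Q hQ h _ => by rw [← hP'] at h ⊢; exact P.3 hQ h⟩
    (fun a ha => hM ha) (by rw [relIndex_subgroupOf hT.le, h2]) (u := ⟨u, hu⟩) (Subtype.ext u2)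
    (fun M hM => by
      haveI := normal_of_index_eq_two hM
      have : commutator A ≤ M := by
        rw [commutator_def, commutator_le]
        intro a _ b _
        rw [commutatorElement_def, mul_assoc, mul_assoc, mul_mem_iff_of_index_two hM,
          mul_mem_iff_of_index_two hM, mul_mem_iff_of_index_two hM, inv_mem_iff, inv_mem_iff]
        tauto
      exact this (by rw [commutator_top_of hA]; trivial))
    ((hP' ▸ P.isPGroup').to_le fun a ha => hQ ha)
    (fun q hq => mem_centralizer_singleton_iff.2 (Subtype.ext (hQu q hq)))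
  exact ⟨g, g.2, h1, fun q hq => H24.cj_le_iff'.1 h3 ⟨q, hT.le (hQ hq)⟩ hq⟩

theorem iso [Finite G] {S : Subgroup G} (hS : IsSylowIn 2 S ⊤) {z c g : G} {e : ℕ}
    (hz : ∀ s ∈ S, s * z = z * s) (hc : c ∈ S) (hcw : c * (g⁻¹ * z * g) = g⁻¹ * z * g * c)
    (hce : c ^ e = z) (h : ∀ x ∈ S, IsConj c x → x ^ e = z) : g⁻¹ * z * g = z := by
  haveI : Fact (Nat.Prime 2) := ⟨Nat.prime_two⟩
  have h1 : g * c * g⁻¹ ∈ centralizer ({z} : Set G) := mem_centralizer_singleton_iff.2 (by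
    calc g * c * g⁻¹ * z = g * (c * (g⁻¹ * z * g)) * g⁻¹ := by group
      _ = _ := by rw [hcw]; group)
  have h2 : IsPGroup 2 (zpowers (g * c * g⁻¹)) := by
    obtain ⟨n, hn⟩ := hS.isPGroup ⟨c, hc⟩
    have hn' : c ^ 2 ^ n = 1 := congrArg Subtype.val hn
    rintro ⟨_, m, rfl⟩
    exact ⟨n, Subtype.ext (by
      show ((g * c * g⁻¹) ^ m) ^ 2 ^ n = 1
      rw [← zpow_natCast, ← zpow_mul, mul_comm m, zpow_mul, zpow_natCast, conj_pow, hn']; simp)⟩
  obtain ⟨k, hk, h3⟩ := (hS.of_le (fun s hs => mem_centralizer_singleton_iff.2 (hz s hs))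
    le_top).exists_le_conj (zpowers_le.2 h1) h2
  have h4 : k⁻¹ * (g * c * g⁻¹) * k ∈ S := by
    have := h3 (mem_zpowers _)
    rw [mem_pointwise_smul_iff_inv_smul_mem] at this
    simpa [mul_assoc] using this
  have h5 := h _ h4 (isConj_iff.2 ⟨k⁻¹ * g, by group⟩)
  rw [show k⁻¹ * (g * c * g⁻¹) * k = (k⁻¹ * g) * c * (k⁻¹ * g)⁻¹ by group, conj_pow, hce] at h5
  have h6 := mem_centralizer_singleton_iff.1 hk
  calc g⁻¹ * z * g = g⁻¹ * (k * z * k⁻¹) * g := by rw [h6]; group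
    _ = g⁻¹ * (k * (k⁻¹ * g * z * (k⁻¹ * g)⁻¹) * k⁻¹) * g := by rw [h5]
    _ = z := by group

/-- Extension of a subgroup by a normalizing element with square inside. -/
def ext2 (V : Subgroup G) (x : G) (hn : ∀ w ∈ V, x * w * x⁻¹ ∈ V) (h2 : x * x ∈ V) :
    Subgroup G where
  carrier := {g | g ∈ V ∨ g * x⁻¹ ∈ V}
  one_mem' := Or.inl V.one_mem
  mul_mem' := by
    rintro a b (ha | ha) (hb | hb)
    · exact Or.inl (V.mul_mem ha hb)
    · exact Or.inr (by rw [mul_assoc]; exact V.mul_mem ha hb)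
    · refine Or.inr ?_
      rw [show a * b * x⁻¹ = a * x⁻¹ * (x * b * x⁻¹) by group]
      exact V.mul_mem ha (hn b hb)
    · refine Or.inl ?_
      rw [show a * b = a * x⁻¹ * (x * (b * x⁻¹) * x⁻¹) * (x * x) by group]
      exact V.mul_mem (V.mul_mem ha (hn _ hb)) h2
  inv_mem' := by
    rintro a (ha | ha)
    · exact Or.inl (V.inv_mem ha)
    · refine Or.inr ?_
      rw [show a⁻¹ * x⁻¹ = (x * x)⁻¹ * (x * (a * x⁻¹)⁻¹ * x⁻¹) by group]
      exact V.mul_mem (V.inv_mem h2) (hn _ (V.inv_mem ha))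

theorem mem_ext2 {V : Subgroup G} {x : G} {hn h2} {g : G} :
    g ∈ ext2 V x hn h2 ↔ g ∈ V ∨ g * x⁻¹ ∈ V := Iff.rfl

theorem brauer [Finite G] {A T : Subgroup G} (hA : ⁅A, A⁆ = A) (hT : IsSylowIn 2 T A)
    (e : T ≃* Multiplicative (ZMod (2 ^ 2) × ZMod (2 ^ 2))) : False := by
  haveI : Fact (Nat.Prime 2) := ⟨Nat.prime_two⟩
  obtain ⟨P, hP⟩ := hT.exists_sylow
  let π := QuotientGroup.mk' (pPrimeCore 2 A)
  have hπ : Function.Surjective π := QuotientGroup.mk'_surjective _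
  let P' := P.mapSurjective hπ
  have hinj : Function.Injective (π.comp (P : Subgroup A).subtype) := by
    rw [injective_iff_map_eq_one]
    intro a ha
    obtain ⟨k, hk⟩ := P.isPGroup' a
    have h1 : orderOf (a : A) ∣ Nat.card (pPrimeCore 2 A) := by
      simpa using orderOf_dvd_natCard (⟨a, (QuotientGroup.eq_one_iff _).1 ha⟩ : pPrimeCore 2 A)
    have h2 : orderOf (a : A) ∣ 2 ^ k := orderOf_dvd_of_pow_eq_one (congrArg Subtype.val hk)
    exact Subtype.ext (orderOf_eq_one_iff.1 ((((H1.coprime_card_pPrimeCore 2 A).coprime_dvd_left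
      h1).pow_right k).eq_one_of_dvd h2))
  have e1 : (P : Subgroup A) ≃* (P' : Subgroup (A ⧸ pPrimeCore 2 A)) :=
    (MonoidHom.ofInjective hinj).trans (MulEquiv.subgroupCongr (by
      rw [MonoidHom.range_comp, range_subtype]; rfl))
  have e2 : (P : Subgroup A) ≃* T :=
    ((P : Subgroup A).equivMapOfInjective _ A.subtype_injective).trans (MulEquiv.subgroupCongr hP)
  obtain ⟨h1, -, h3⟩ := Cfsg.Agent.S0949.result P' 2 le_rfl (e1.symm.trans (e2.trans e))
    (fun N _ hN => eq_bot_iff.2 ((H1.le_pPrimeCore (Nat.coprime_two_right.2 hN)).trans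
      (H1.pPrimeCore_quotient_pPrimeCore 2).le))
  have hperf : commutator (A ⧸ pPrimeCore 2 A) = ⊤ := by
    rw [commutator_def, ← map_top_of_surjective π hπ, ← map_commutator, ← commutator_def,
      commutator_top_of hA]
  have htop : (P' : Subgroup (A ⧸ pPrimeCore 2 A)) = ⊤ := by
    rcases h3 with h3 | h3
    · exact index_eq_one.1 h3
    · haveI : Fact (Nat.Prime 3) := ⟨Nat.prime_three⟩
      haveI : IsCyclic (_ ⧸ (P' : Subgroup (A ⧸ pPrimeCore 2 A))) := isCyclic_of_prime_card h3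
      letI := IsCyclic.commGroup (α := _ ⧸ (P' : Subgroup (A ⧸ pPrimeCore 2 A)))
      have := Abelianization.commutator_subset_ker
        (QuotientGroup.mk' (P' : Subgroup (A ⧸ pPrimeCore 2 A)))
      rwa [hperf, QuotientGroup.ker_mk', top_le_iff] at this
  have e3 := (topEquiv.symm.trans (MulEquiv.subgroupCongr htop.symm)).trans
    (e1.symm.trans (e2.trans e))
  have := Abelianization.commutator_subset_ker e3.toMonoidHom
  rw [hperf, top_le_iff, MonoidHom.ker_eq_top_iff] at this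
  have h5 := DFunLike.congr_fun this (e3.symm (Multiplicative.ofAdd (1, 0)))
  simp at h5
  exact absurd h5 (by decide)

end Cfsg.Agent.H1.Cz
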