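import Cfsg.Agent.H1.Cz1

/-! The configuration, and the case of a normal four-subgroup. -/

namespace Cfsg.Agent.H1.Cz

open Subgroup
open scoped commutatorElement Pointwise

variable {G : Type*} [Group G]

/-- The configuration. -/
structure Cx (A S : Subgroup G) (t r : G) : Prop where
  nA : A.Normal
  perf : ⁅A, A⁆ = A
  syl : IsSylowIn 2 S ⊤
  tS : t ∈ S
  tA : t ∉ A
  tt : t * t = 1
  cov : ∀ g, g ∈ A ∨ t * g ∈ A
  rS : r ∈ S
  rA : r ∈ A
  ord : orderOf r = 4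
  tr : t * r = r * t
  cen : ∀ s ∈ S, s ∈ A → t * s = s * t → s ∈ zpowers r
  nf : ∀ g a b, a ∈ A → b ∈ A → a * a = 1 → b * b = 1 → a ≠ 1 → b ≠ 1 → a * b = b * a →
    a * (g⁻¹ * t * g) = g⁻¹ * t * g * a → b * (g⁻¹ * t * g) = g⁻¹ * t * g * b → a = b

theorem two : Fact (Nat.Prime 2) := ⟨Nat.prime_two⟩

theorem le_norm {S V : Subgroup G} (h : ∀ g ∈ S, ∀ a ∈ V, g * a * g⁻¹ ∈ V) :
    S ≤ normalizer (V : Set G) := fun g hg => mem_normalizer_iff.2 fun a =>
  ⟨h g hg a, fun e => by simpa [mul_assoc] using h _ (S.inv_mem hg) _ e⟩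

namespace Cx
variable [Finite G] {A S : Subgroup G} {t r : G} (h : Cx A S t r)
include h

theorem r4 : r ^ 4 = 1 := h.ord ▸ pow_orderOf_eq_one r
theorem zz : r * r * (r * r) = 1 := by rw [← h.r4]; simp [pow_succ, mul_assoc]
theorem z1 : r * r ≠ 1 := fun e => by
  have := orderOf_dvd_of_pow_eq_one (show r ^ 2 = 1 by rw [sq, e])
  rw [h.ord] at this; omega
theorem ti : t⁻¹ = t := inv_eq_of_mul_eq_one_right h.tt
theorem zi : (r * r)⁻¹ = r * r := inv_eq_of_mul_eq_one_right h.zz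
theorem rT : r ∈ S ⊓ A := ⟨h.rS, h.rA⟩
theorem zT : r * r ∈ S ⊓ A := mul_mem h.rT h.rT

theorem cen4 {s : G} (hs : s ∈ S ⊓ A) (hc : t * s = s * t) :
    s = 1 ∨ s = r ∨ s = r * r ∨ s = r * r * r := by
  classical
  have := mem_zpowers_iff_mem_range_orderOf.1 (h.cen s hs.1 hs.2 hc)
  rw [h.ord] at this
  obtain ⟨i, hi, rfl⟩ := Finset.mem_image.1 this
  rw [Finset.mem_range] at hi
  interval_cases i <;> simp [pow_succ]

theorem inv_z {s : G} (hs : s ∈ S ⊓ A) (hc : t * s = s * t) (s2 : s * s = 1) :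
    s = 1 ∨ s = r * r := by
  rcases h.cen4 hs hc with rfl | rfl | rfl | rfl
  · exact Or.inl rfl
  · exact absurd s2 h.z1
  · exact Or.inr rfl
  · refine absurd ?_ h.z1
    rw [← s2, show r * r * r * (r * r * r) = r * r * (r * r * (r * r)) by simp [mul_assoc], h.zz,
      mul_one]

theorem sylT : IsSylowIn 2 (S ⊓ A) A := by
  haveI := two
  haveI := h.nA
  exact h.syl.inf le_top (by rw [normalizer_eq_top]; exact le_top)

theorem conjT {g a : G} (hg : g ∈ S) (ha : a ∈ S ⊓ A) : g * a * g⁻¹ ∈ S ⊓ A :=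
  ⟨S.mul_mem (S.mul_mem hg ha.1) (S.inv_mem hg), h.nA.conj_mem _ ha.2 _⟩

theorem nT : S ≤ normalizer ((S ⊓ A : Subgroup G) : Set G) :=
  le_norm fun _ hg _ ha => h.conjT hg ha

theorem zc : ∀ s ∈ S, s * (r * r) = r * r * s := by
  haveI := two
  obtain ⟨x, h1, h2, h3, h4⟩ := H11.exists_central_mod_in (N := ⊥) (M := S ⊓ A) h.syl.isPGroup
    inf_le_left (by rw [normalizer_eq_top]; exact le_top) h.nT
    (fun e => h.z1 (mem_bot.1 (e h.zT)))
  simp only [mem_bot, mul_inv_eq_iff_eq_mul, one_mul] at h2 h3 h4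
  rw [← (h.inv_z h1 (h4 t h.tS) (by rw [← sq, h3])).resolve_left h2]
  exact h4

theorem covS {g : G} (hg : g ∈ S) : g ∈ S ⊓ A ∨ t * g ∈ S ⊓ A :=
  (h.cov g).imp (fun a => ⟨hg, a⟩) fun a => ⟨S.mul_mem h.tS hg, a⟩

theorem isoz {c g : G} {e : ℕ} (hc : c ∈ S) (hcw : c * (g⁻¹ * (r * r) * g) = g⁻¹ * (r * r) * g * c)
    (hce : c ^ e = r * r) (hx : ∀ x ∈ S, IsConj c x → x ^ e = r * r) :
    g⁻¹ * (r * r) * g = r * r := iso h.syl h.zc hc hcw hce hx

end Cx

theorem idx2 {T M : Subgroup G} {u : G} (hu : u ∈ T) (huM : u ∉ M)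
    (h : ∀ b ∈ T, b ∈ M ∨ b * u ∈ M) : M.relIndex T = 2 := by
  rw [relIndex_eq_two_iff]
  refine ⟨u, hu, fun b hb => ?_⟩
  by_cases hbM : b ∈ M
  · exact Or.inr ⟨hbM, fun e => huM (by simpa using M.mul_mem (M.inv_mem hbM) e)⟩
  · exact Or.inl ⟨(h b hb).resolve_left hbM, hbM⟩

/-- A normal four-subgroup `{1, z, u, u z}` and a maximal subgroup `T1` above it. -/
structure CB (A S : Subgroup G) (t r u : G) (T1 : Subgroup G) : Prop extends Cx A S t r where
  uT : u ∈ S ⊓ A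
  uu : u * u = 1
  u1 : u ≠ 1
  uz : u ≠ r * r
  un : ∀ g ∈ S, g * u * g⁻¹ = u ∨ g * u * g⁻¹ = u * (r * r)
  le : T1 ≤ S ⊓ A
  n1 : ∀ g ∈ S, ∀ a ∈ T1, g * a * g⁻¹ ∈ T1
  u_mem : u ∈ T1
  z_mem : r * r ∈ T1
  ne : ∃ x ∈ S ⊓ A, x ∉ T1
  ix : ∀ x ∈ S ⊓ A, x ∉ T1 → ∀ s ∈ S ⊓ A, s ∈ T1 ∨ s * x⁻¹ ∈ T1
  cm : ∀ s ∈ S ⊓ A, t * s * t * s⁻¹ ∈ T1

theorem Cx.exists_CB [Finite G] {A S : Subgroup G} {t r u : G} (h : Cx A S t r) (uT : u ∈ S ⊓ A)
    (uu : u * u = 1) (u1 : u ≠ 1) (uz : u ≠ r * r)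
    (un : ∀ g ∈ S, g * u * g⁻¹ = u ∨ g * u * g⁻¹ = u * (r * r)) : ∃ T1, CB A S t r u T1 := by
  haveI := two
  have hzn : ∀ w ∈ zpowers (r * r), u * w * u⁻¹ ∈ zpowers (r * r) := by
    rintro _ ⟨i, rfl⟩
    rw [(Commute.zpow_right (h.zc u uT.1) i).eq]; simp
  let U := ext2 (zpowers (r * r)) u hzn (by rw [uu]; exact one_mem _)
  have hzp : ∀ w ∈ zpowers (r * r), w * w = 1 ∧ ∀ g ∈ S, g * w = w * g := by
    rintro _ ⟨i, rfl⟩
    exact ⟨by rw [← Commute.mul_zpow (Commute.refl _), h.zz, one_zpow],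
      fun g hg => (Commute.zpow_right (h.zc g hg) i).eq⟩
  obtain ⟨T1, ⟨h1, h2, h3, h4⟩, hmax⟩ := (wellFounded_gt (α := Subgroup G)).has_min
    {W | W < S ⊓ A ∧ (∀ g ∈ S, ∀ a ∈ W, g * a * g⁻¹ ∈ W) ∧ u ∈ W ∧ r * r ∈ W} ⟨U, by
      refine ⟨lt_of_le_of_ne ?_ fun e => ?_, ?_, Or.inr (by simp), Or.inl (mem_zpowers _)⟩
      · rintro a (ha | ha)
        · exact zpowers_le.2 h.zT ha
        · simpa using mul_mem (zpowers_le.2 h.zT ha) uT
      · rcases (e ▸ h.rT : r ∈ U) with ha | ha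
        · exact h.z1 (hzp r ha).1
        · obtain ⟨e1, e2⟩ := hzp _ ha
          apply h.z1
          calc r * r = r * u⁻¹ * (u * (r * u⁻¹)) * u := by group
            _ = 1 := by rw [e2 u uT.1, ← mul_assoc, e1, one_mul, uu]
      · rintro g hg a (ha | ha)
        · left; rw [(hzp a ha).2 g hg]; simpa using ha
        · right
          rw [show g * a * g⁻¹ * u⁻¹ = g * (a * u⁻¹) * g⁻¹ * (g * u * g⁻¹ * u⁻¹) by group,
            (hzp _ ha).2 g hg, mul_inv_cancel_right]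
          refine mul_mem ha ?_
          rcases un g hg with e | e <;> rw [e]
          · simp
          · rw [h.zc u uT.1]; simp⟩
  obtain ⟨x, x1, x2, x3, x4⟩ := H11.exists_central_mod_in (N := T1) (M := S ⊓ A) h.syl.isPGroup
    inf_le_left (le_norm h2) h.nT h1.not_ge
  have hW : ext2 T1 x (h2 x x1.1) (by rwa [← sq]) = S ⊓ A := by
    by_contra hne
    refine hmax (ext2 T1 x (h2 x x1.1) (by rwa [← sq])) ⟨lt_of_le_of_ne ?_ hne, ?_,
      Or.inl h3, Or.inl h4⟩ (lt_of_le_of_ne (fun a ha => Or.inl ha) fun e => x2 ?_)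
    · rintro a (ha | ha)
      · exact h1.le ha
      · simpa using mul_mem (h1.le ha) x1
    · rintro g hg a (ha | ha)
      · exact Or.inl (h2 g hg a ha)
      · right
        rw [show g * a * g⁻¹ * x⁻¹ = g * (a * x⁻¹) * g⁻¹ * (g * x * g⁻¹ * x⁻¹) by group]
        exact mul_mem (h2 g hg _ ha) (x4 g hg)
    · rw [e]; exact Or.inr (by simp)
  have hcov : ∀ s ∈ S ⊓ A, s ∈ T1 ∨ s * x⁻¹ ∈ T1 := fun s hs => by rw [← hW] at hs; exact hs
  refine ⟨T1, { h with
    uT := uT, uu := uu, u1 := u1, uz := uz, un := un, le := h1.le, n1 := h2, u_mem := h3,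
    z_mem := h4, ne := ⟨x, x1, x2⟩, ix := fun y hy hy1 s hs => ?_, cm := fun s hs => ?_ }⟩
  · refine (hcov s hs).imp_right fun e => ?_
    simpa [mul_assoc] using mul_mem e (inv_mem ((hcov y hy).resolve_left hy1))
  · have e : ∀ a ∈ T1, t * a * t ∈ T1 := fun a ha => by simpa [h.ti] using h2 t h.tS a ha
    rcases hcov s hs with ha | ha
    · exact mul_mem (e s ha) (inv_mem ha)
    · have := mul_mem (mul_mem (e _ ha) (x4 t h.tS)) (inv_mem ha)
      rw [h.ti] at this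
      convert this using 1
      rw [show t * (s * x⁻¹) * t * (t * x * t * x⁻¹) = t * (s * x⁻¹) * (t * t) * x * t * x⁻¹ by group,
        h.tt]
      group

namespace CB
variable [Finite G] {A S T1 : Subgroup G} {t r u : G} (h : CB A S t r u T1)
include h

theorem ui : u⁻¹ = u := inv_eq_of_mul_eq_one_right h.uu

theorem tu : t * u * t = u * (r * r) := by
  have := h.un t h.tS
  rw [h.ti] at this
  refine this.resolve_left fun e => ?_
  have e2 : t * u = u * t := by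
    calc t * u = t * u * t * t := by rw [mul_assoc _ t t, h.tt, mul_one]
      _ = u * t := by rw [e]
  rcases h.inv_z h.uT e2 h.uu with e | e
  exacts [h.u1 e, h.uz e]

theorem sq_mem {s : G} (hs : s ∈ S ⊓ A) : s * s ∈ T1 := by
  by_cases h1 : s ∈ T1
  · exact mul_mem h1 h1
  · rcases h.ix s hs h1 _ (mul_mem hs hs) with e | e
    · exact e
    · exact absurd (by simpa using e) h1

theorem dinv (s : G) : t * (t * s * t * s⁻¹) * t = (t * s * t * s⁻¹)⁻¹ := by
  rw [← mul_assoc, ← mul_assoc, ← mul_assoc, h.tt]; simp [h.ti, mul_assoc]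

/-- Elements of `{1, z, u, u z}`. -/
noncomputable def E (r u : G) : Finset G := by classical exact {1, r * r, u, u * (r * r)}

omit [Finite G] h in
theorem mem_E {w : G} : w ∈ E r u ↔ w = 1 ∨ w = r * r ∨ w = u ∨ w = u * (r * r) := by
  classical simp [E]

theorem card_E : (E r u).card = 4 := by
  classical
  have h1 := h.z1; have h2 := h.u1; have h3 := h.uz
  have h4 : u * (r * r) ≠ 1 := fun e => h3 (by rw [← h.zi]; exact eq_inv_of_mul_eq_one_left e)
  have h5 : u * (r * r) ≠ r * r := by simpa using h2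
  have h6 : u * (r * r) ≠ u := by simpa using h1
  rw [E, Finset.card_insert_of_notMem (by simp [h1.symm, h2.symm, h4.symm]),
    Finset.card_insert_of_notMem (by simp [h3.symm, h5.symm, -mul_eq_right, -right_eq_mul]),
    Finset.card_pair h6.symm]

theorem E_sub {w : G} (hw : w ∈ E r u) : w ∈ T1 ∧ w * w = 1 ∧ (t * w * t = w ∨ t * w * t = w * (r * r)) := by
  have hz := h.zc u h.uT.1
  have htz : t * (r * r) * t = r * r := by rw [h.zc t h.tS, mul_assoc, h.tt, mul_one]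
  rcases mem_E.1 hw with rfl | rfl | rfl | rfl
  · exact ⟨one_mem _, by simp, Or.inl (by simp [h.tt])⟩
  · exact ⟨h.z_mem, h.zz, Or.inl htz⟩
  · exact ⟨h.u_mem, h.uu, Or.inr h.tu⟩
  · refine ⟨mul_mem h.u_mem h.z_mem, ?_, Or.inr ?_⟩
    · rw [mul_assoc, ← mul_assoc (r * r), ← hz, mul_assoc, h.zz, mul_one, h.uu]
    · rw [mul_assoc, mul_assoc, ← h.zc t h.tS, ← mul_assoc, ← mul_assoc, h.tu]

theorem E_mul {w w' : G} (hw : w ∈ E r u) (hw' : w' ∈ E r u) : w * w' ∈ E r u := by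
  have hz := (h.zc u h.uT.1).symm
  have e1 : r * r * (u * (r * r)) = u := by rw [← mul_assoc, hz, mul_assoc, h.zz, mul_one]
  have e2 : u * (u * (r * r)) = r * r := by rw [← mul_assoc, h.uu, one_mul]
  have e3 : u * (r * r) * (r * r) = u := by rw [mul_assoc, h.zz, mul_one]
  have e4 : u * (r * r) * u = r * r := by rw [mul_assoc, hz, e2]
  have e5 : u * (r * r) * (u * (r * r)) = 1 := by rw [mul_assoc, e1, h.uu]
  rw [mem_E]
  rcases mem_E.1 hw with rfl | rfl | rfl | rfl <;> rcases mem_E.1 hw' with rfl | rfl | rfl | rfl <;>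
    simp only [one_mul, mul_one, h.zz, h.uu, hz, e1, e2, e3, e4, e5, true_or, or_true]

theorem X_sub {s : G} (hs : s ∈ S ⊓ A) (he : t * s * t * s⁻¹ ∈ E r u) :
    t * s = s * t ∨ t * (s * u) = s * u * t := by
  have h1 := h.dinv s
  obtain ⟨-, h2, -⟩ := h.E_sub he
  rw [inv_eq_of_mul_eq_one_right h2] at h1
  have h3 : t * (t * s * t * s⁻¹) = (t * s * t * s⁻¹) * t := by
    conv_rhs => rw [← h1]
    rw [mul_assoc _ t t, h.tt, mul_one]
  rcases h.inv_z (h.le (h.E_sub he).1) h3 h2 with e | e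
  · left
    rw [mul_inv_eq_one] at e
    rw [← e, mul_assoc _ t t, h.tt, mul_one, e]
  · right
    rw [mul_inv_eq_iff_eq_mul] at e
    have : t * (s * u) * t = s * u := by
      calc t * (s * u) * t = t * s * t * (t * u * t) := by
            rw [show t * s * t * (t * u * t) = t * s * (t * t) * u * t by group, h.tt]; group
        _ = s * u := by
            rw [e, h.tu, ← h.zc s hs.1, mul_assoc, ← mul_assoc (r * r), ← h.zc u h.uT.1,
              mul_assoc u, h.zz, mul_one]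
    rw [← this, mul_assoc _ t t, h.tt, mul_one, this]

theorem dec {a : G} (ha : a ∈ T1) : ∃ s ∈ S ⊓ A, ∃ w ∈ E r u, a = t * s * t * s⁻¹ * w := by
  classical
  haveI := Fintype.ofFinite G
  let Tf := Finset.univ.filter (· ∈ S ⊓ A)
  let T1f := Finset.univ.filter (· ∈ T1)
  let f : G × G → G := fun p => t * p.1 * t * p.1⁻¹ * p.2
  have hsub : (Tf ×ˢ E r u).image f ⊆ T1f := by
    intro b hb
    obtain ⟨⟨s, w⟩, hp, rfl⟩ := Finset.mem_image.1 hb
    obtain ⟨h1, h2⟩ := Finset.mem_product.1 hp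
    exact Finset.mem_filter.2 ⟨Finset.mem_univ _,
      mul_mem (h.cm s (Finset.mem_filter.1 h1).2) (h.E_sub h2).1⟩
  have hfib : (Tf ×ˢ E r u).card ≤ 8 * ((Tf ×ˢ E r u).image f).card := by
    apply Finset.card_le_mul_card_image
    intro b hb
    obtain ⟨⟨s0, w0⟩, hp, rfl⟩ := Finset.mem_image.1 hb
    obtain ⟨h1, h2⟩ := Finset.mem_product.1 hp
    have hs0 := (Finset.mem_filter.1 h1).2
    let X : Finset G := {1, r, r * r, r * r * r, u, r * u, r * r * u, r * r * r * u}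
    refine le_trans (Finset.card_le_card_of_injOn (t := X) (fun p => s0⁻¹ * p.1) ?_ ?_) ?_
    · rintro ⟨s, w⟩ hp
      obtain ⟨h3, h4⟩ := Finset.mem_filter.1 hp
      obtain ⟨h5, h6⟩ := Finset.mem_product.1 h3
      have hs := (Finset.mem_filter.1 h5).2
      have hX : s0⁻¹ * s ∈ S ⊓ A := mul_mem (inv_mem hs0) hs
      have e1 : t * (s0⁻¹ * s) * t * (s0⁻¹ * s)⁻¹ = s0⁻¹ * (w0 * w⁻¹) * s0 := by
        have e : t * s * t * s⁻¹ * w = t * s0 * t * s0⁻¹ * w0 := h4
        have e' : w0 = (t * s0 * t * s0⁻¹)⁻¹ * (t * s * t * s⁻¹ * w) := by rw [e]; group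
        rw [e']; simp [h.ti, mul_assoc, ← mul_assoc t t, h.tt]
      have e2 : s0⁻¹ * (w0 * w⁻¹) * s0 ∈ E r u := by
        have hw := h.E_mul h2 h6
        rw [inv_eq_of_mul_eq_one_right (h.E_sub h6).2.1]
        have hz := h.zc _ (S.inv_mem hs0.1)
        have hu := h.un _ (S.inv_mem hs0.1)
        rw [inv_inv] at hu
        rcases mem_E.1 hw with e | e | e | e <;> rw [e, mem_E]
        · simp
        · rw [hz]; simp
        · tauto
        · rw [show s0⁻¹ * (u * (r * r)) * s0 = s0⁻¹ * u * s0 * (s0⁻¹ * (r * r) * s0) by group, hz,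
            inv_mul_cancel_right]
          rcases hu with e | e <;> rw [e]
          · tauto
          · rw [mul_assoc, h.zz, mul_one]; tauto
      show s0⁻¹ * s ∈ X
      rcases h.X_sub hX (e1 ▸ e2) with e | e
      · rcases h.cen4 hX e with e | e | e | e <;> simp [X, e]
      · have e3 : s0⁻¹ * s = s0⁻¹ * s * u * u := by rw [mul_assoc _ u u, h.uu, mul_one]
        rcases h.cen4 (mul_mem hX h.uT) e with e | e | e | e <;> rw [e3, e] <;> simp [X]
    · rintro ⟨s, w⟩ hp ⟨s', w'⟩ hp' e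
      have e1 : s = s' := by simpa using e
      subst e1
      have e2 : t * s * t * s⁻¹ * w = t * s * t * s⁻¹ * w' :=
        (Finset.mem_filter.1 hp).2.trans (Finset.mem_filter.1 hp').2.symm
      rw [mul_left_cancel e2]
    · refine (Finset.card_insert_le _ _).trans (Nat.succ_le_succ ((Finset.card_insert_le _ _).trans
        (Nat.succ_le_succ Finset.card_le_six)))
  have hT : Tf.card = T1f.card * 2 := by
    obtain ⟨x, x1, x2⟩ := h.ne
    have := H1.card_mul_relIndex h.le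
    rw [idx2 (inv_mem x1) (fun e => x2 (by simpa using e)) (h.ix x x1 x2), Nat.card_eq_fintype_card,
      Nat.card_eq_fintype_card, Fintype.card_subtype, Fintype.card_subtype] at this
    exact this.symm
  rw [Finset.card_product, h.card_E] at hfib
  have := Finset.eq_of_subset_of_card_le hsub (by omega)
  obtain ⟨⟨s, w⟩, hp, e⟩ := Finset.mem_image.1
    (this ▸ Finset.mem_filter.2 ⟨Finset.mem_univ _, ha⟩ : a ∈ (Tf ×ˢ E r u).image f)
  obtain ⟨h1, h2⟩ := Finset.mem_product.1 hp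
  exact ⟨s, (Finset.mem_filter.1 h1).2, w, h2, e.symm⟩

end CB

end Cfsg.Agent.H1.Cz
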