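import Cfsg.Agent.H1.Cz2

/-! Structure of the maximal subgroup `T1`, and the case `r ∉ T1`. -/

namespace Cfsg.Agent.H1.Cz

open Subgroup
open scoped commutatorElement Pointwise

variable {G : Type*} [Group G]

namespace CB
variable [Finite G] {A S T1 : Subgroup G} {t r u : G} (h : CB A S t r u T1)
include h

theorem un' {g : G} (hg : g ∈ S) (hn : ¬ g * u = u * g) : g * u = u * (r * r) * g := by
  rcases h.un g hg with e | e
  · exact absurd (mul_inv_eq_iff_eq_mul.1 e) hn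
  · exact mul_inv_eq_iff_eq_mul.1 e

theorem mulC {g k : G} (hg : g ∈ S) (hk : k ∈ S) (h1 : ¬ g * u = u * g) (h2 : ¬ k * u = u * k) :
    g * k * u = u * (g * k) := by
  calc g * k * u = g * u * (r * r) * k := by rw [mul_assoc, h.un' hk h2]; group
    _ = u * (r * r) * (g * (r * r)) * k := by rw [h.un' hg h1]; group
    _ = u * (r * r * (r * r)) * (g * k) := by rw [h.zc g hg]; group
    _ = _ := by rw [h.zz, mul_one]

theorem ntu : ¬ t * u = u * t := fun e => by
  have := h.tu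
  rw [e, mul_assoc, h.tt, mul_one] at this
  exact h.z1 (by simpa using this.symm)

theorem dcu {s : G} (hs : s ∈ S) : t * s * t * s⁻¹ * u = u * (t * s * t * s⁻¹) := by
  have inv : ∀ {g : G}, g * u = u * g → g⁻¹ * u = u * g⁻¹ := fun e => (Commute.inv_left e).eq
  by_cases e : s * u = u * s
  · have e1 : ¬ s * t * u = u * (s * t) := fun e2 => h.ntu (by
      simpa using (Commute.mul_left (inv e) e2).eq)
    have := Commute.mul_left (h.mulC h.tS (S.mul_mem hs h.tS) h.ntu e1) (inv e)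
    simpa [mul_assoc] using this.eq
  · have := Commute.mul_left (h.mulC h.tS hs h.ntu e)
      (h.mulC h.tS (S.inv_mem hs) h.ntu fun e2 => e (by simpa using inv e2))
    simpa [mul_assoc] using this.eq

theorem cE_of {a w : G} (ha : a ∈ S) (hu : a * u = u * a) (hw : w ∈ E r u) : a * w = w * a := by
  rcases mem_E.1 hw with rfl | rfl | rfl | rfl
  · simp
  · exact h.zc a ha
  · exact hu
  · exact (Commute.mul_right hu (h.zc a ha)).eq

theorem cu {a : G} (ha : a ∈ T1) : a * u = u * a := by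
  obtain ⟨s, hs, w, hw, rfl⟩ := h.dec ha
  exact (Commute.mul_left (h.dcu hs.1) (h.cE_of h.uT.1 rfl hw).symm).eq

theorem cE {a w : G} (ha : a ∈ T1) (hw : w ∈ E r u) : a * w = w * a :=
  h.cE_of (h.le ha).1 (h.cu ha) hw

theorem tmul (a b : G) : t * (a * b) * t = t * a * t * (t * b * t) := by
  rw [show t * a * t * (t * b * t) = t * a * (t * t) * b * t by group, h.tt]; group

theorem tinv {a : G} (ha : a ∈ T1) : t * a * t = a⁻¹ ∨ t * a * t = a⁻¹ * (r * r) := by
  obtain ⟨s, hs, w, hw, rfl⟩ := h.dec ha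
  obtain ⟨-, w2, e⟩ := h.E_sub hw
  rw [h.tmul, h.dinv, mul_inv_rev _ w, inv_eq_of_mul_eq_one_right w2,
    ← h.cE (inv_mem (h.cm s hs)) hw]
  rcases e with e | e <;> rw [e]
  · exact Or.inl rfl
  · exact Or.inr (mul_assoc _ _ _).symm

theorem cm1 {a b : G} (ha : a ∈ T1) (hb : b ∈ T1) : a * b = b * a ∨ a * b = b * a * (r * r) := by
  have e := h.tmul a⁻¹ b⁻¹
  have za := h.zc a (h.le ha).1
  have zb := h.zc b (h.le hb).1
  have zz := h.zz
  generalize hz : r * r = z at za zb zz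
  have e1 : a * z * b = a * b * z := by rw [mul_assoc, ← zb, mul_assoc]
  have e2 : a * z * (b * z) = a * b := by rw [← mul_assoc, e1, mul_assoc, zz, mul_one]
  have e3 : ∀ {p q : G}, p = q * z → q = p * z := fun e => by rw [e, mul_assoc, zz, mul_one]
  rcases h.tinv (inv_mem ha) with h1 | h1 <;> rcases h.tinv (inv_mem hb) with h2 | h2 <;>
    rcases h.tinv (mul_mem (inv_mem ha) (inv_mem hb)) with h3 | h3 <;>
    rw [h1, h2, h3] at e <;>
    simp only [mul_inv_rev, inv_inv, hz, e1, e2, ← mul_assoc a b, mul_left_inj] at e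
  all_goals first | exact Or.inl e.symm | exact Or.inr e.symm | exact Or.inr (e3 e)

theorem sqc {a b : G} (ha : a ∈ T1) (hb : b ∈ T1) : a * a * b = b * (a * a) := by
  rcases h.cm1 ha hb with e | e
  · exact (Commute.mul_left e e).eq
  · calc a * a * b = a * (b * a * (r * r)) := by rw [mul_assoc, e]
      _ = a * b * a * (r * r) := by simp only [mul_assoc]
      _ = b * a * (r * r * a) * (r * r) := by rw [e]; simp only [mul_assoc]
      _ = b * (a * a) * (r * r * (r * r)) := by rw [← h.zc a (h.le ha).1]; group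
      _ = _ := by rw [h.zz, mul_one]

theorem z_E : r * r ∈ E r u := by rw [mem_E]; tauto
theorem one_E : (1 : G) ∈ E r u := by rw [mem_E]; tauto

theorem step {x : G} (hx : x ∈ S ⊓ A) (hx1 : x ∉ T1) {b : G} (hb : b ∈ T1) :
    ∃ c ∈ T1, ∃ i : ℕ, ∃ w ∈ E r u, b = c * c * ((t * x * t * x⁻¹) ^ i * w) := by
  obtain ⟨s, hs, w, hw, rfl⟩ := h.dec hb
  rcases h.ix x hx hx1 s hs with e | e
  · rcases h.tinv e with e1 | e1 <;> rw [e1]
    · exact ⟨s⁻¹, inv_mem e, 0, w, hw, by simp⟩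
    · refine ⟨s⁻¹, inv_mem e, 0, _, h.E_mul h.z_E hw, ?_⟩
      rw [mul_assoc s⁻¹, ← h.zc _ (S.inv_mem hs.1)]; simp [mul_assoc]
  · obtain ⟨a, rfl⟩ : ∃ a, s = a * x := ⟨s * x⁻¹, by simp⟩
    rw [mul_inv_cancel_right] at e
    have hv := h.cm x hx
    have e0 : t * (a * x) * t * (a * x)⁻¹ = t * a * t * (t * x * t * x⁻¹ * a⁻¹) := by
      rw [h.tmul]; group
    rw [e0]
    generalize t * x * t * x⁻¹ = v at hv
    have za := h.zc _ (h.le (inv_mem e)).1
    have zv := h.zc _ (h.le hv).1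
    refine ⟨a⁻¹, inv_mem e, 1, ?_⟩
    rcases h.tinv e with e1 | e1 <;> rw [e1] <;> rcases h.cm1 hv (inv_mem e) with e2 | e2 <;> rw [e2]
    · exact ⟨w, hw, by simp [mul_assoc]⟩
    · exact ⟨_, h.E_mul h.z_E hw, by simp [mul_assoc]⟩
    · refine ⟨_, h.E_mul h.z_E hw, ?_⟩
      rw [pow_one, ← mul_assoc v, zv, mul_assoc a⁻¹ (r * r), ← mul_assoc (r * r), ← za]; group
    · refine ⟨_, h.E_mul h.z_E (h.E_mul h.z_E hw), ?_⟩
      rw [pow_one, ← mul_assoc v, zv, mul_assoc a⁻¹ (r * r), ← mul_assoc (r * r),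
        ← mul_assoc (r * r), ← za]; group

theorem E_pow {w : G} (hw : w ∈ E r u) (n : ℕ) : w ^ n ∈ E r u := by
  induction n with
  | zero => simpa using h.one_E
  | succ n ih => rw [pow_succ]; exact h.E_mul ih hw

theorem gen {x : G} (hx : x ∈ S ⊓ A) (hx1 : x ∉ T1) {b : G} (hb : b ∈ T1) :
    ∃ i : ℕ, ∃ w ∈ E r u, b = (t * x * t * x⁻¹) ^ i * w := by
  have hv := h.cm x hx
  have key : ∀ n : ℕ, ∃ c ∈ T1, ∃ i : ℕ, ∃ w ∈ E r u,
      b = c ^ 2 ^ n * ((t * x * t * x⁻¹) ^ i * w) := by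
    intro n
    induction n with
    | zero => exact ⟨b, hb, 0, 1, h.one_E, by simp⟩
    | succ n ih =>
      obtain ⟨c, hc, i, w, hw, e⟩ := ih
      obtain ⟨c', hc', j, w', hw', e'⟩ := h.step hx hx1 hc
      generalize t * x * t * x⁻¹ = v at hv e e'
      refine ⟨c', hc', j * 2 ^ n + i, _, h.E_mul (h.E_pow hw' (2 ^ n)) hw, ?_⟩
      rw [e, e', Commute.mul_pow (h.sqc hc' (mul_mem (pow_mem hv j) (h.E_sub hw').1)),
        Commute.mul_pow (h.cE (pow_mem hv j) hw'), ← pow_mul, ← sq, ← pow_mul, pow_succ' 2 n,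
        pow_add, mul_assoc, mul_assoc, mul_assoc, ← mul_assoc (w' ^ 2 ^ n),
        ← h.cE (pow_mem hv i) (h.E_pow hw' _), mul_assoc]
  haveI := two
  obtain ⟨n, hn⟩ := (IsPGroup.iff_card (p := 2) (G := S)).1 h.syl.isPGroup
  obtain ⟨c, hc, i, w, hw, e⟩ := key n
  have : c ^ 2 ^ n = 1 := by
    have := pow_card_eq_one' (x := (⟨c, (h.le hc).1⟩ : S))
    rw [hn] at this
    exact congrArg Subtype.val this
  exact ⟨i, w, hw, by rw [e, this, one_mul]⟩

theorem ab {a b : G} (ha : a ∈ T1) (hb : b ∈ T1) : a * b = b * a := by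
  obtain ⟨x, hx, hx1⟩ := h.ne
  obtain ⟨i, w, hw, rfl⟩ := h.gen hx hx1 ha
  refine (Commute.mul_left ?_ (h.cE hb hw).symm).eq
  obtain ⟨j, w', hw', rfl⟩ := h.gen hx hx1 hb
  exact Commute.mul_right (Commute.pow_pow_self _ _ _) (h.cE (pow_mem (h.cm x hx) i) hw')

theorem conjE {g w : G} (hg : g ∈ S) (hw : w ∈ E r u) :
    g * w = w * g ∨ g * w = w * (r * r) * g := by
  by_cases e : g * u = u * g
  · exact Or.inl (h.cE_of hg e hw)
  rcases mem_E.1 hw with rfl | rfl | rfl | rfl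
  · simp
  · exact Or.inl (h.zc g hg)
  · exact Or.inr (h.un' hg e)
  · right; rw [← mul_assoc, h.un' hg e, mul_assoc, h.zc g hg, ← mul_assoc]

theorem nr (hr : r ∉ T1) : False := by
  have hE : ∀ b ∈ T1, b ∈ E r u := fun b hb => by
    obtain ⟨i, w, hw, rfl⟩ := h.gen h.rT hr hb
    rw [h.tr, mul_assoc r, h.tt]; simpa using hw
  have hsq : ∀ {g w : G}, g ∈ S → (g * g = 1 ∨ g * g = r * r) → w ∈ E r u →
      (w * g * (w * g) = 1 ∨ w * g * (w * g) = r * r) := by
    intro g w hg g2 hw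
    have w2 := (h.E_sub hw).2.1
    have e0 : w * g * (w * g) = w * (g * w) * g := by group
    rw [e0]
    rcases h.conjE hg hw with e | e <;> rw [e]
    · rw [← mul_assoc, w2, one_mul]; exact g2
    · rw [← mul_assoc, ← mul_assoc, w2, one_mul, mul_assoc]
      rcases g2 with e | e <;> rw [e]
      · simp
      · exact Or.inl h.zz
  have hrt : r * t * (r * t) = r * r := by
    rw [mul_assoc, ← mul_assoc t, h.tr, mul_assoc r t, h.tt, mul_one]
  have hall : ∀ x ∈ S, x * x = 1 ∨ x * x = r * r := by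
    intro x hx
    rcases h.covS (S.inv_mem hx) with e | e
    · rcases h.ix r h.rT hr _ (inv_mem e) with e | e
      · exact Or.inl (by simpa using (h.E_sub (hE _ e)).2.1)
      · simpa using hsq h.rS (Or.inr rfl) (hE _ e)
    · rcases h.ix r h.rT hr _ (inv_mem e) with e | e
      · simpa using hsq h.tS (Or.inl h.tt) (hE _ e)
      · simpa [mul_assoc] using hsq (S.mul_mem h.rS h.tS) (Or.inr hrt) (hE _ e)
  have hu : u ∉ zpowers r := by
    rintro ⟨i, rfl⟩
    exact h.ntu (Commute.zpow_right h.tr i).eq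
  have hz : r * r ∈ zpowers r := mul_mem (mem_zpowers r) (mem_zpowers r)
  have hEr : ∀ w ∈ E r u, w ∈ zpowers r ∨ u * w ∈ zpowers r := by
    intro w hw
    rcases mem_E.1 hw with rfl | rfl | rfl | rfl
    · exact Or.inl (one_mem _)
    · exact Or.inl hz
    · exact Or.inr (h.uu ▸ one_mem _)
    · right; rw [← mul_assoc, h.uu, one_mul]; exact hz
  have hi : (zpowers r).relIndex (S ⊓ A) = 2 := by
    refine idx2 h.uT hu fun b hb => ?_
    have : b⁻¹ ∈ zpowers r ∨ u * b⁻¹ ∈ zpowers r := by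
      rcases h.ix r h.rT hr _ (inv_mem hb) with e | e
      · exact hEr _ (hE _ e)
      · refine (hEr _ (hE _ e)).imp (fun e => ?_) fun e => ?_
        · simpa using mul_mem e (mem_zpowers r)
        · simpa [mul_assoc] using mul_mem e (mem_zpowers r)
    refine this.imp (fun e => by simpa using e) fun e => ?_
    simpa [h.ui] using inv_mem e
  obtain ⟨g, -, hg, -⟩ := thE (Q := ⊥) h.perf h.sylT (zpowers_le.2 h.rT) hi h.uT.2 h.uu bot_le
    (fun q hq => by rw [mem_bot.1 hq]; simp)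
  have hgu : g * u * g⁻¹ = r * r := by
    refine (h.inv_z (zpowers_le.2 h.rT hg) ?_ ?_).resolve_left (by simpa using h.u1)
    · obtain ⟨i, hi⟩ := hg
      rw [← hi]; exact (Commute.zpow_right h.tr i).eq
    · rw [conj_mul, h.uu]; simp
  have hgu' : g⁻¹ * (r * r) * g = u := by rw [← hgu]; group
  have fin : ∀ c ∈ S, c * u = u * c → c * c = r * r → False := fun c hc h1 h2 => by
    refine h.uz (hgu' ▸ h.isoz (e := 2) hc (by rwa [hgu']) (by rwa [sq]) fun x hx hcx => ?_)
    rw [sq]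
    refine (hall x hx).resolve_left fun e => h.z1 ?_
    have := hcx.pow 2
    rwa [sq, sq, e, h2, isConj_one_left] at this
  by_cases e : r * u = u * r
  · exact fin r h.rS e rfl
  · exact fin (r * t) (S.mul_mem h.rS h.tS) (h.mulC h.rS h.tS e h.ntu) hrt

end CB

end Cfsg.Agent.H1.Cz
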