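import Cfsg.Agent.H1.Cz3

/-! The case `r ∈ T1`. -/

namespace Cfsg.Agent.H1.Cz

open Subgroup
open scoped commutatorElement Pointwise

variable {G : Type*} [Group G]

theorem z44 {T : Subgroup G} {v x : G} (hv : v ∈ T) (hx : x ∈ T) (c : Commute v x)
    (v4 : v ^ 2 ^ 2 = 1) (x4 : x ^ 2 ^ 2 = 1)
    (inj : ∀ i < 4, ∀ j < 4, v ^ i * x ^ j = 1 → i = 0 ∧ j = 0)
    (sur : ∀ b ∈ T, ∃ i j : ℕ, b = v ^ i * x ^ j) :
    Nonempty (T ≃* Multiplicative (ZMod (2 ^ 2) × ZMod (2 ^ 2))) := by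
  let f : Multiplicative (ZMod (2 ^ 2) × ZMod (2 ^ 2)) →* T := MonoidHom.mk'
    (fun p => ⟨v ^ p.toAdd.1.val * x ^ p.toAdd.2.val, mul_mem (pow_mem hv _) (pow_mem hx _)⟩)
    (fun p q => Subtype.ext (by
      simp only [toAdd_mul, Prod.fst_add, Prod.snd_add, ZMod.val_add, coe_mul]
      rw [← pow_eq_pow_mod _ v4, ← pow_eq_pow_mod _ x4, pow_add, pow_add]
      exact (c.pow_pow _ _).mul_mul_mul_comm _ _))
  refine ⟨(MulEquiv.ofBijective f ⟨(injective_iff_map_eq_one f).2 fun p hp => ?_, fun b => ?_⟩).symm⟩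
  · obtain ⟨h1, h2⟩ := inj _ (ZMod.val_lt p.toAdd.1) _ (ZMod.val_lt p.toAdd.2)
      (congrArg Subtype.val hp)
    rw [ZMod.val_eq_zero] at h1 h2
    exact Multiplicative.toAdd.injective (Prod.ext h1 h2)
  · obtain ⟨i, j, e⟩ := sur b b.2
    refine ⟨Multiplicative.ofAdd (i, j), Subtype.ext ?_⟩
    show v ^ (i : ZMod (2 ^ 2)).val * x ^ (j : ZMod (2 ^ 2)).val = b
    rw [ZMod.val_natCast, ZMod.val_natCast, ← pow_eq_pow_mod _ v4, ← pow_eq_pow_mod _ x4, e]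

namespace CB
variable [Finite G] {A S T1 : Subgroup G} {t r u : G} (h : CB A S t r u T1)
include h

/-- The elements of `T1` inverted by `t`. -/
def V : Subgroup G where
  carrier := {a | a ∈ T1 ∧ t * a * t = a⁻¹}
  one_mem' := ⟨one_mem _, by simp [h.tt]⟩
  mul_mem' := fun {a b} ha hb => ⟨mul_mem ha.1 hb.1, by
    rw [h.tmul, ha.2, hb.2, h.ab ha.1 hb.1, mul_inv_rev]⟩
  inv_mem' := fun {a} ha => ⟨inv_mem ha.1, by
    rw [inv_inv, ← ha.2, ← mul_assoc, ← mul_assoc, h.tt, one_mul, mul_assoc, h.tt, mul_one]⟩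

theorem dV {s : G} (hs : s ∈ S ⊓ A) : t * s * t * s⁻¹ ∈ h.V := ⟨h.cm s hs, h.dinv s⟩
theorem zV : r * r ∈ h.V := ⟨h.z_mem, by rw [h.zc t h.tS, mul_assoc, h.tt, mul_one, h.zi]⟩
theorem uV : u ∉ h.V := fun e => h.z1 (by have := e.2; rw [h.tu, h.ui] at this; simpa using this)

theorem T1V {a : G} (ha : a ∈ T1) : a ∈ h.V ∨ a * u ∈ h.V := by
  refine (h.tinv ha).imp (fun e => ⟨ha, e⟩) fun e => ⟨mul_mem ha h.u_mem, ?_⟩
  rw [h.tmul, e, h.tu, h.cu ha, mul_inv_rev, h.ui, mul_assoc, ← mul_assoc (r * r),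
    ← h.zc u h.uT.1, mul_assoc u, h.zz, mul_one]

theorem invV {a : G} (ha : a ∈ h.V) (a2 : a * a = 1) : a = 1 ∨ a = r * r := by
  refine h.inv_z (h.le ha.1) ?_ a2
  have := ha.2
  rw [inv_eq_of_mul_eq_one_right a2] at this
  calc t * a = t * a * t * t := by rw [mul_assoc _ t t, h.tt, mul_one]
    _ = a * t := by rw [this]

theorem powV {a : G} (ha : a ∈ T1) (n : ℕ) : a ^ (2 * n) ∈ h.V := by
  rw [pow_mul, sq]
  refine pow_mem ?_ n
  rcases h.T1V ha with e | e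
  · exact mul_mem e e
  · have := mul_mem e e
    rwa [(Commute.mul_mul_mul_comm (h.cu ha).symm a u), h.uu, mul_one] at this

theorem zgen (hr : r ∈ T1) {x : G} (hx : x ∈ S ⊓ A) (hx1 : x ∉ T1) :
    ∃ i : ℕ, r * r = ((t * x * t * x⁻¹) * (t * x * t * x⁻¹)) ^ i := by
  obtain ⟨i, w, hw, e⟩ := h.gen hx hx1 hr
  refine ⟨i, ?_⟩
  rw [e, Commute.mul_mul_mul_comm (h.cE (pow_mem (h.cm x hx) i) hw).symm, (h.E_sub hw).2.1,
    mul_one, Commute.mul_pow (Commute.refl _)]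

theorem Vgen (hr : r ∈ T1) {x : G} (hx : x ∈ S ⊓ A) (hx1 : x ∉ T1) {a : G} (ha : a ∈ h.V) :
    a ∈ zpowers (t * x * t * x⁻¹) := by
  obtain ⟨i, w, hw, rfl⟩ := h.gen hx hx1 ha.1
  refine mul_mem (pow_mem (mem_zpowers _) i) ?_
  have hwV : w ∈ h.V := by simpa using mul_mem (inv_mem (pow_mem (h.dV hx) i)) ha
  rcases h.invV hwV (h.E_sub hw).2.1 with rfl | rfl
  · exact one_mem _
  · obtain ⟨j, e⟩ := h.zgen hr hx hx1
    rw [e]; exact pow_mem (mul_mem (mem_zpowers _) (mem_zpowers _)) j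

theorem v2 (hr : r ∈ T1) {x : G} (hx : x ∈ S ⊓ A) (hx1 : x ∉ T1) :
    (t * x * t * x⁻¹) * (t * x * t * x⁻¹) ≠ 1 := fun e => by
  obtain ⟨j, e'⟩ := h.zgen hr hx hx1
  rw [e, one_pow] at e'
  exact h.z1 e'

theorem conjv (x : G) : x * (t * x * t * x⁻¹) * x⁻¹ =
    (t * x * t * x⁻¹)⁻¹ * (t * (x * x) * t * (x * x)⁻¹) := by
  simp [mul_assoc, h.ti, ← mul_assoc t t, h.tt]

theorem nV (hr : r ∈ T1) {g a : G} (hg : g ∈ S ⊓ A) (ha : a ∈ h.V) : g * a * g⁻¹ ∈ h.V := by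
  by_cases hg1 : g ∈ T1
  · rw [h.ab hg1 ha.1]; simpa using ha
  · obtain ⟨i, rfl⟩ := h.Vgen hr hg hg1 ha
    rw [← conj_zpow, h.conjv]
    exact zpow_mem (mul_mem (inv_mem (h.dV hg)) (h.dV (mul_mem hg hg))) i

theorem cmV1 (hr : r ∈ T1) {g c : G} (hg : g ∈ S ⊓ A) (hc : c ∈ T1) :
    g * c * g⁻¹ * c⁻¹ ∈ h.V := by
  rcases h.T1V hc with e | e
  · exact mul_mem (h.nV hr hg e) (inv_mem e)
  · have e1 : g * u⁻¹ * g⁻¹ * u ∈ h.V := by
      rw [h.ui]
      rcases h.un g hg.1 with e | e <;> rw [e]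
      · rw [h.uu]; exact one_mem _
      · rw [h.zc u h.uT.1, mul_assoc, h.uu, mul_one]; exact h.zV
    have := mul_mem (mul_mem (h.nV hr hg e) e1) (inv_mem e)
    convert this using 1; group

theorem cmV (hr : r ∈ T1) : ∀ p ∈ S ⊓ A, ∀ q ∈ S ⊓ A, ⁅p, q⁆ ∈ h.V := by
  intro p hp q hq
  by_cases hp1 : p ∈ T1
  · have := inv_mem (h.cmV1 hr hq hp1)
    convert this using 1; rw [commutatorElement_def]; group
  · rcases h.ix p hp hp1 q hq with e | e
    · exact h.cmV1 hr hp e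
    · have := h.cmV1 hr hp e
      convert this using 1; rw [commutatorElement_def]; group

theorem br (hr : r ∈ T1) {x : G} (hx : x ∈ S ⊓ A) (hx1 : x ∉ T1) (h2 : x * x ∉ h.V)
    (h4 : x * x * (x * x) = 1) (hV : ∀ a ∈ h.V, a ^ 2 ^ 2 = 1) : False := by
  have hv := h.dV hx
  have hc := h.conjv x
  have v2 := h.v2 hr hx hx1
  have hg := fun a => h.Vgen hr hx hx1 (a := a)
  generalize t * x * t * x⁻¹ = v at hv hc v2 hg
  have v4 := hV v hv
  have hb := h.sq_mem hx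
  have hvz : v * v = r * r := (h.invV (mul_mem hv hv)
    (by rw [← v4]; simp [pow_succ, mul_assoc])).resolve_left v2
  rw [(h.tinv hb).resolve_left fun e => h2 ⟨hb, e⟩, inv_eq_of_mul_eq_one_right h4,
    mul_assoc (x * x), ← h.zc _ (h.le hb).1, ← mul_assoc (x * x), h4, one_mul, ← hvz,
    inv_mul_cancel_left, mul_inv_eq_iff_eq_mul] at hc
  have x4 : x ^ 2 ^ 2 = 1 := by rw [← h4]; simp [pow_succ, mul_assoc]
  have hu := (h.T1V hb).resolve_left h2
  have s1 : ∀ b ∈ T1, ∃ i j : ℕ, b = v ^ i * x ^ j := by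
    intro b hb'
    rcases h.T1V hb' with e | e
    · obtain ⟨i, rfl⟩ := mem_powers_iff_mem_zpowers.2 (hg _ e)
      exact ⟨i, 0, by simp⟩
    · have := mul_mem e hu
      rw [Commute.mul_mul_mul_comm (h.cu hb).symm, h.uu, mul_one] at this
      obtain ⟨i, hi⟩ := mem_powers_iff_mem_zpowers.2 (hg _ this)
      exact ⟨i, 2, by rw [show v ^ i = b * (x * x) from hi, sq, mul_assoc, h4, mul_one]⟩
  obtain ⟨e⟩ := z44 (h.le hv.1) hx hc.symm v4 x4 (fun i hi j hj e => by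
    have e1 : x ^ j ∈ h.V := by
      rw [eq_inv_of_mul_eq_one_right e]; exact inv_mem (pow_mem hv i)
    have hj0 : j = 0 := by
      interval_cases j
      · rfl
      · exact absurd (by simpa using e1.1) hx1
      · exact absurd (by simpa [sq] using e1) h2
      · exact absurd (by simpa [pow_succ, mul_assoc] using mul_mem (inv_mem hb) e1.1) hx1
    subst hj0
    rw [pow_zero, mul_one] at e
    have v1 : v ≠ 1 := fun e => v2 (by simp [e])
    interval_cases i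
    · simp
    · exact absurd (by simpa using e) v1
    · exact absurd (by rwa [← sq]) v2
    · exact absurd (by rwa [show 2 ^ 2 = 3 + 1 from rfl, pow_succ, e, one_mul] at v4) v1)
    (fun b hb' => by
      rcases h.ix x hx hx1 b hb' with e | e
      · exact s1 b e
      · obtain ⟨i, j, e⟩ := s1 _ e
        exact ⟨i, j + 1, by rw [pow_succ, ← mul_assoc, ← e]; simp⟩)
  exact brauer h.perf h.sylT e

theorem nuz (hr : r ∈ T1) (g : G) : g⁻¹ * (r * r) * g ≠ u := by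
  intro hg
  haveI := two
  obtain ⟨x, hx, hx1⟩ := h.ne
  have hv := h.dV hx
  have v2 := h.v2 hr hx hx1
  have hgen := fun a => h.Vgen hr hx hx1 (a := a)
  generalize t * x * t * x⁻¹ = v at hv v2 hgen
  obtain ⟨k, hk⟩ := (IsPGroup.iff_orderOf (p := 2) (G := S)).1 h.syl.isPGroup ⟨v, (h.le hv.1).1⟩
  rw [← orderOf_coe] at hk
  have hk' : orderOf v = 2 ^ k := hk
  obtain ⟨m, rfl⟩ : ∃ m, k = m + 2 := by
    refine ⟨k - 2, ?_⟩
    by_contra hh
    apply v2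
    rw [← sq, ← orderOf_dvd_iff_pow_eq_one, hk']
    have : k ≤ 1 := by omega
    exact pow_dvd_pow 2 this
  have e2 : ∀ y : G, orderOf y = 2 ^ (m + 2) → y ^ 2 ^ (m + 1) * y ^ 2 ^ (m + 1) = 1 ∧
      y ^ 2 ^ (m + 1) ≠ 1 := fun y hy => by
    refine ⟨by rw [← pow_add, ← mul_two, ← pow_succ, ← hy, pow_orderOf_eq_one], fun e => ?_⟩
    have := orderOf_dvd_of_pow_eq_one e
    rw [hy, Nat.pow_dvd_pow_iff_le_right one_lt_two] at this
    omega
  have e3 : ∀ y : G, orderOf y = 2 ^ (m + 2) → y ^ 2 ^ (m + 1) ∈ h.V → y ^ 2 ^ (m + 1) = r * r :=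
    fun y hy e => (h.invV e (e2 y hy).1).resolve_left (e2 y hy).2
  refine h.uz (hg ▸ h.isoz (e := 2 ^ (m + 1)) (h.le hv.1).1 (by rw [hg]; exact h.cu hv.1)
    (e3 v hk' (pow_mem hv _)) fun y hy hc => ?_)
  obtain ⟨c, rfl⟩ := isConj_iff.1 hc
  have hyo : orderOf (c * v * c⁻¹) = 2 ^ (m + 2) := by
    rw [← hk']; exact (MulAut.conj c).orderOf_eq v
  have hyT : c * v * c⁻¹ ∈ S ⊓ A := ⟨hy, h.nA.conj_mem _ (h.le hv.1).2 c⟩
  generalize c * v * c⁻¹ = y at hyo hyT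
  refine e3 y hyo ?_
  rw [pow_succ' 2 m]
  by_cases hy1 : y ∈ T1
  · exact h.powV hy1 _
  rw [pow_mul, sq]
  by_cases hy2 : y * y ∈ h.V
  · exact pow_mem hy2 _
  rcases m with _ | m
  · refine (h.br hr hyT hy1 hy2 ?_ fun a ha => ?_).elim
    · rw [← pow_orderOf_eq_one y, hyo]; simp [pow_succ, mul_assoc]
    · obtain ⟨i, rfl⟩ := mem_powers_iff_mem_zpowers.2 (hgen a ha)
      show (v ^ i) ^ 2 ^ (0 + 2) = 1
      rw [← pow_mul, mul_comm, pow_mul, ← hk', pow_orderOf_eq_one, one_pow]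
  · rw [pow_succ' 2 m]; exact h.powV (h.sq_mem hyT) _

theorem false : False := by
  have hr : r ∈ T1 := by_contra h.nr
  have nz : ∀ g : G, g * u * g⁻¹ ∉ h.V := fun g e => by
    rcases h.invV e (by rw [conj_mul, h.uu]; simp) with e | e
    · exact h.u1 (by simpa using e)
    · exact h.nuz hr g (by rw [← e]; group)
  by_cases hex : ∃ x ∈ S ⊓ A, x ∉ T1 ∧ x * x = 1
  swap
  · push Not at hex
    refine h.uV (tgA (N := h.V) h.perf h.sylT (fun a ha => h.le ha.1) (h.cmV hr) h.uT h.uu fun g _ hg => ?_)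
    have h1 : g⁻¹ * u * g ∈ T1 := by
      by_contra e
      exact hex _ hg e (by simp [mul_assoc, ← mul_assoc u u, h.uu])
    rw [h.ui, ← h.cu h1]
    exact (h.T1V h1).resolve_left (by simpa using nz g⁻¹)
  obtain ⟨x, hx, hx1, x2⟩ := hex
  have xi : x⁻¹ = x := inv_eq_of_mul_eq_one_right x2
  have xinv : ∀ a ∈ h.V, x * a * x⁻¹ = a⁻¹ := fun a ha => by
    obtain ⟨i, rfl⟩ := h.Vgen hr hx hx1 ha
    rw [← conj_zpow, h.conjv, x2, mul_one t, h.tt, inv_one, mul_one, mul_one, inv_zpow]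
  have key : ∀ y ∈ S ⊓ A, y ∉ T1 → ∀ (y2 : y * y ∈ h.V) (Q : Subgroup G), Q ≤ S ⊓ A →
      (∀ q ∈ Q, q * u = u * q) → ∃ g, g * u * g⁻¹ * y⁻¹ ∈ h.V ∧ ∀ q ∈ Q, g * q * g⁻¹ ∈ S ⊓ A := by
    intro y hy hy1 y2 Q hQ hQu
    have hM : ext2 h.V y (fun w hw => h.nV hr hy hw) y2 ≤ S ⊓ A := by
      rintro a (ha | ha)
      · exact h.le ha.1
      · simpa using mul_mem (h.le ha.1) hy
    obtain ⟨g, -, h1, h2⟩ := thE h.perf h.sylT hM (idx2 h.uT (by
      rintro (e | e)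
      · exact h.uV e
      · exact hy1 (by simpa using mul_mem (inv_mem e.1) h.u_mem)) fun b hb => by
        rcases h.ix y hy hy1 b hb with e | e
        · exact (h.T1V e).imp Or.inl Or.inl
        · refine (h.T1V e).imp Or.inr fun e' => Or.inr ?_
          have := mul_mem e' (h.cmV hr _ (inv_mem h.uT) _ hy)
          convert this using 1; rw [commutatorElement_def]; group) h.uT.2 h.uu hQ hQu
    exact ⟨g, h1.resolve_left (nz g), h2⟩
  by_cases hxu : x * u = u * x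
  · obtain ⟨g, h1, h2⟩ := key x hx hx1 (x2 ▸ one_mem _) (S ⊓ A) le_rfl (fun q hq => by
      rcases h.ix x hx hx1 q hq with e | e
      · exact h.cu e
      · simpa using (Commute.mul_left (h.cu e) hxu).eq)
    have hv := h.dV hx
    obtain ⟨q, hq⟩ := Finite.injective_iff_surjective.1
      (show Function.Injective (fun q : (S ⊓ A : Subgroup G) =>
        (⟨g * q * g⁻¹, h2 q q.2⟩ : (S ⊓ A : Subgroup G))) from fun a b e => by
          simpa using e) ⟨_, h.le hv.1⟩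
    have hq' : g * q * g⁻¹ = t * x * t * x⁻¹ := congrArg Subtype.val hq
    have v2 := h.v2 hr hx hx1
    generalize t * x * t * x⁻¹ = v at hv v2 hq'
    have c1 : Commute (g * u * g⁻¹) v := by
      rw [← hq']
      refine Commute.conj ?_ g
      rcases h.ix x hx hx1 q q.2 with e | e
      · exact (h.cu e).symm
      · simpa using (Commute.mul_left (h.cu e) hxu).symm
    have c2 : Commute x v := by
      have := (Commute.inv_left c1).mul_left (h.ab h1.1 hv.1)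
      rw [inv_mul_cancel_left] at this
      simpa using this
    apply v2
    have := xinv v hv
    rw [c2.eq, mul_inv_cancel_right] at this
    exact mul_eq_one_iff_eq_inv.2 this
  · have e1 : x * u * (x * u) = r * r := by
      nth_rewrite 1 [h.un' hx.1 hxu]
      rw [mul_assoc, ← mul_assoc x, x2, one_mul, h.zc u h.uT.1, mul_assoc, h.uu, mul_one]
    obtain ⟨g, h1, -⟩ := key (x * u) (mul_mem hx h.uT)
      (fun e => hx1 (by simpa using mul_mem e (inv_mem h.u_mem))) (e1 ▸ h.zV) ⊥ bot_le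
      (fun q hq => by rw [mem_bot.1 hq]; simp)
    obtain ⟨a, ha⟩ : ∃ a, g * u * g⁻¹ = a * (x * u) := ⟨g * u * g⁻¹ * (x * u)⁻¹, by group⟩
    rw [ha, mul_inv_cancel_right] at h1
    apply h.z1
    have e2 : a * (x * u) * (a * (x * u)) = 1 := by rw [← ha, conj_mul, h.uu]; simp
    rw [← e2, ← e1]
    calc x * u * (x * u) = a * (x * a * x⁻¹) * (x * u * (x * u)) := by rw [xinv a h1]; simp
      _ = a * x * (a * u) * (x * u) := by group
      _ = _ := by rw [h.cu h1.1]; group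

end CB

theorem main_of {A S : Subgroup G} {t r : G} [Finite G] (h : Cx A S t r)
    (caseA : (∀ u ∈ S ⊓ A, u * u = 1 → u ≠ 1 → u ≠ r * r →
      ¬ ∀ g ∈ S, g * u * g⁻¹ = u ∨ g * u * g⁻¹ = u * (r * r)) →
      ∀ s ∈ S ⊓ A, s * s = 1 → s = 1 ∨ s = r * r) :
    ∀ s ∈ S ⊓ A, s * s = 1 → s = 1 ∨ s = r * r :=
  caseA fun _ h1 h2 h3 h4 h5 => (h.exists_CB h1 h2 h3 h4 h5).elim fun _ e => e.false

end Cfsg.Agent.H1.Cz
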