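import Cfsg.Agent.H1.CzA0

/-! The case without a normal four-subgroup. -/

namespace Cfsg.Agent.H1.Cz

open Subgroup
open scoped commutatorElement Pointwise

variable {G : Type*} [Group G]

namespace CY
variable [Finite G] {A S : Subgroup G} {t r z y : G} (h : CY A S t r z y)
include h

theorem invz {s : G} (hs : s ∈ S ⊓ A) (hc : t * s = s * t) (s2 : s * s = 1) : s = 1 ∨ s = z :=
  h.hz ▸ h.inv_z hs hc s2

theorem two_out {ρ a b : G} (hρ : ρ ∈ zpowers y) (ρ2 : ρ * ρ = z) (ha : a ∈ S ⊓ A)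
    (hb : b ∈ S ⊓ A) (h1 : a ∉ zpowers y) (h2 : b ∉ zpowers y) : a * b ∈ zpowers y := by
  have e1 := (h.pm hρ ρ2 ha.1).resolve_left fun e => h1 (h.cρ hρ ρ2 ha e)
  have e2 := (h.pm hρ ρ2 hb.1).resolve_left fun e => h2 (h.cρ hρ ρ2 hb e)
  refine h.cρ hρ ρ2 (mul_mem ha hb) ?_
  rw [show a * b * ρ * (a * b)⁻¹ = a * (b * ρ * b⁻¹) * a⁻¹ by group, e2, h.cj ha.1, e1,
    ← mul_assoc, h.zz', one_mul]

theorem sqm {a b : G} (ha : a ∈ S) (hb : b ∈ S) (a2 : a * a ∈ zpowers y)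
    (b2 : b * b ∈ zpowers y) : a * b * (a * b) ∈ zpowers y := by
  rw [show a * b * (a * b) = a * a * (a⁻¹ * b * a⁻¹⁻¹ * b⁻¹) * (b * b) by group]
  exact mul_mem (mul_mem a2 (h.CM (S.inv_mem ha) hb)) b2

theorem sqS {ρ x : G} (hρ : ρ ∈ zpowers y) (ρ2 : ρ * ρ = z) (hx : x ∈ S) :
    x * x ∈ zpowers y := by
  have key : ∀ a ∈ S ⊓ A, a * a ∈ zpowers y := fun a ha => by
    by_cases h1 : a ∈ zpowers y
    · exact mul_mem h1 h1
    · exact h.two_out hρ ρ2 ha ha h1 h1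
  rcases h.covS hx with e | e
  · exact key x e
  · have := h.sqm h.tS e.1 (by rw [h.tt]; exact one_mem _) (key _ e)
    rwa [← mul_assoc t t, h.tt, one_mul] at this

theorem star {ρ s c : G} (hρ : ρ ∈ zpowers y) (ρ2 : ρ * ρ = z) (hs : s ∈ S ⊓ A)
    (s2 : s * s = 1) (s1 : s ≠ 1) (sz : s ≠ z) (hc : c ∈ S) (cs : c * s = s * c)
    (c2 : c * c = z) : False := by
  have sY : s ∉ zpowers y := fun e => (h.iY s e s2).elim s1 sz
  obtain ⟨g, -, hg, -⟩ := thE (Q := ⊥) h.perf h.sylT (M := zpowers y) (fun _ hv => h.YT hv)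
    (idx2 hs sY fun b hb => or_iff_not_imp_left.2 fun e => h.two_out hρ ρ2 hb hs e sY) hs.2 s2
    bot_le (fun q hq => by rw [mem_bot.1 hq]; simp)
  have e : g * s * g⁻¹ = z := (h.iY _ hg (by
    rw [show g * s * g⁻¹ * (g * s * g⁻¹) = g * (s * s) * g⁻¹ by group, s2]; simp)).resolve_left
      fun e => s1 (by simpa using e)
  have e' : g⁻¹ * (r * r) * g = s := by rw [h.hz, ← e]; group
  have := h.isoz (c := c) (g := g) (e := 2) hc (by rw [e', cs]) (by rw [sq, c2, h.hz])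
    fun x hx hcx => by
      obtain ⟨k, rfl⟩ := isConj_iff.1 hcx
      have e2 : k * c * k⁻¹ * (k * c * k⁻¹) = k * z * k⁻¹ := by rw [← c2]; group
      rw [sq, h.hz]
      refine (h.iY _ (h.sqS hρ ρ2 hx) ?_).resolve_left ?_
      · rw [e2, show k * z * k⁻¹ * (k * z * k⁻¹) = k * (z * z) * k⁻¹ by group, h.zz']; simp
      · rw [e2]; intro e3; exact h.z1' (by simpa using e3)
  exact sz (by rw [← e', this, h.hz])

theorem case4 {ρ s : G} (hρ : ρ ∈ zpowers y) (ρ2 : ρ * ρ = z) (hs : s ∈ S ⊓ A)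
    (s2 : s * s = 1) (s1 : s ≠ 1) (sz : s ≠ z) (tρ : t * ρ * t⁻¹ = ρ) : False := by
  have sY : s ∉ zpowers y := fun e => (h.iY s e s2).elim s1 sz
  have sρ := (h.pm hρ ρ2 hs.1).resolve_left fun e => sY (h.cρ hρ ρ2 hs e)
  have e := (h.cls hρ ρ2 h.tS tρ h.tt hs.1).resolve_left fun e =>
    (h.invz hs (mul_inv_eq_iff_eq_mul.1 e).symm s2).elim s1 sz
  have c1 : Commute t ρ := mul_inv_eq_iff_eq_mul.1 tρ
  refine h.star hρ ρ2 hs s2 s1 sz (S.mul_mem (h.YT hρ).1 h.tS) (c := ρ * t) ?_ ?_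
  · symm
    rw [← mul_inv_eq_iff_eq_mul, show s * (ρ * t) * s⁻¹ = s * ρ * s⁻¹ * (s * t * s⁻¹) by group,
      sρ, e, h.zc' t h.tS, mul_assoc, ← mul_assoc ρ, h.zc' ρ (h.YT hρ).1, ← mul_assoc,
      ← mul_assoc, h.zz', one_mul]
  · rw [← sq, c1.symm.mul_pow, sq, sq, ρ2, h.tt, mul_one]

theorem case5 {ρ s : G} (hρ : ρ ∈ zpowers y) (ρ2 : ρ * ρ = z) (hs : s ∈ S ⊓ A)
    (s2 : s * s = 1) (s1 : s ≠ 1) (sz : s ≠ z) (tρ : t * ρ * t⁻¹ = z * ρ) : False := by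
  have sY : s ∉ zpowers y := fun e => (h.iY s e s2).elim s1 sz
  have ρT := h.YT hρ
  have zT := h.YT h.zY
  have tr : t * r * t⁻¹ = r := by rw [h.tr]; simp
  have rY : r ∉ zpowers y := fun e => by
    rcases h.uniq hρ e ρ2 h.hz with e1 | e1 <;> rw [e1] at tr
    · exact h.nz (tρ.symm.trans tr)
    · rw [h.cj h.tS, tρ] at tr; exact h.nz tr
  have rρ := (h.pm hρ ρ2 h.rS).resolve_left fun e => rY (h.cρ hρ ρ2 h.rT e)
  have dec : ∀ a ∈ S ⊓ A, a ∉ zpowers y → ∃ v ∈ zpowers y, a = v * r := fun a ha h1 =>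
    ⟨a * r⁻¹, h.two_out hρ ρ2 ha (inv_mem h.rT) h1 (fun e => rY (by simpa using e)), by group⟩
  have c0S : t * r ∈ S := S.mul_mem h.tS h.rS
  have c0ρ : t * r * ρ * (t * r)⁻¹ = ρ := by
    rw [show t * r * ρ * (t * r)⁻¹ = t * (r * ρ * r⁻¹) * t⁻¹ by group, rρ, h.cj h.tS, tρ,
      ← mul_assoc, h.zz', one_mul]
  have ctr : Commute t r := h.tr
  have c02 : t * r * (t * r) = z := by rw [← sq, ctr.mul_pow, sq, sq, h.tt, h.hz, one_mul]
  obtain ⟨v, hv, ev⟩ := dec s hs sY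
  have c0y : t * r * y * (t * r)⁻¹ = z * y :=
    (h.K hρ ρ2 c0S c0ρ (c02 ▸ h.zY) (mem_zpowers y)).resolve_left fun e => by
      refine h.star hρ ρ2 hs s2 s1 sz c0S ?_ c02
      obtain ⟨k, rfl⟩ := hv
      have c1 : Commute (t * r) y := mul_inv_eq_iff_eq_mul.1 e
      rw [ev]
      exact ((c1.zpow_right k).mul_right (ctr.mul_left (Commute.refl r))).eq
  have rv : ∀ v ∈ zpowers y, r * v * r⁻¹ = v⁻¹ ∨ r * v * r⁻¹ = z * v⁻¹ := fun v hv => by
    have hw := h.nY r h.rS v hv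
    have := h.KC hρ ρ2 h.rS rρ (mul_mem hw hv) (by
      calc r * (r * v * r⁻¹ * v) * r⁻¹ = (r * r * v) * (r * r)⁻¹ * (r * v * r⁻¹) := by group
        _ = _ := by rw [h.hz, cmz h.zY hv, mul_inv_cancel_right, cmz hv hw])
    exact this.imp eq_inv_of_mul_eq_one_left eq_mul_inv_of_mul_eq
  have sq' : ∀ v, v * r * (v * r) = v * (r * v * r⁻¹) * z := fun v => by rw [← h.hz]; group
  have ry : r * y * r⁻¹ = z * y⁻¹ := (rv y (mem_zpowers y)).resolve_left fun e => by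
    obtain ⟨k, rfl⟩ := hv
    apply h.z1'
    rw [← s2, ev, sq']
    simp only
    rw [← conj_zpow, e]; simp
  have ty : ∀ v ∈ zpowers y, t * v * t⁻¹ = v⁻¹ := by
    have : t * y * t⁻¹ = y⁻¹ := by
      have e : t * r * y * (t * r)⁻¹ = z * (t * y * t⁻¹)⁻¹ := by
        rw [show t * r * y * (t * r)⁻¹ = t * (r * y * r⁻¹) * t⁻¹ by group, ry, h.cj h.tS]; group
      rw [c0y, mul_right_inj] at e
      exact (inv_eq_iff_eq_inv.1 e.symm)
    rintro _ ⟨k, rfl⟩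
    simp only
    rw [← conj_zpow, this, inv_zpow]
  obtain ⟨c, hc⟩ : ∃ c, c = t * r * ρ := ⟨_, rfl⟩
  have cS : c ∈ S := hc ▸ S.mul_mem c0S ρT.1
  have cc0 : Commute (t * r) ρ := mul_inv_eq_iff_eq_mul.1 c0ρ
  have c2 : c * c = 1 := by rw [hc, ← sq, cc0.mul_pow, sq, sq, c02, ρ2, h.zz']
  have ci : c⁻¹ = c := inv_eq_of_mul_eq_one_right c2
  have cA : c ∉ A := fun e => h.tA (by
    have := A.mul_mem e (A.inv_mem (A.mul_mem h.rA ρT.2))
    rwa [hc, show t * r * ρ * (r * ρ)⁻¹ = t by group] at this)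
  have cv : ∀ v ∈ zpowers y, c * v * c⁻¹ = t * (r * v * r⁻¹) * t⁻¹ := fun v hv => by
    rw [hc, show t * r * ρ * v * (t * r * ρ)⁻¹ = t * r * (ρ * v * ρ⁻¹) * (t * r)⁻¹ by group,
      cmz hρ hv]; group
  have cy : c * y * c⁻¹ = z * y := by rw [cv y (mem_zpowers y), ← c0y]; group
  have cρ : c * ρ * c⁻¹ = ρ := by rw [cv ρ hρ]; nth_rewrite 2 [← c0ρ]; group
  have cr : c * r * c⁻¹ = z * r := by
    have e : ρ * r * ρ⁻¹ = z * r := by
      have e1 : r * ρ⁻¹ * r⁻¹ = (z * ρ)⁻¹ := by rw [← rρ]; group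
      rw [show ρ * r * ρ⁻¹ = ρ * (r * ρ⁻¹ * r⁻¹) * r by group, e1, mul_inv_rev, h.zi']; group
    rw [hc, show t * r * ρ * r * (t * r * ρ)⁻¹ = t * r * (ρ * r * ρ⁻¹) * (t * r)⁻¹ by group, e,
      h.cj c0S, show t * r * r * (t * r)⁻¹ = t * r * t⁻¹ by group, tr]
  have cv2 : ∀ v ∈ zpowers y, (r * v * r⁻¹ = v⁻¹ ∧ c * v * c⁻¹ = v) ∨
      (r * v * r⁻¹ = z * v⁻¹ ∧ c * v * c⁻¹ = z * v) := fun v hv => by
    refine (rv v hv).imp (fun e => ⟨e, ?_⟩) fun e => ⟨e, ?_⟩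
    · rw [cv v hv, e, ty _ (inv_mem hv), inv_inv]
    · rw [cv v hv, e, h.cj h.tS, ty _ (inv_mem hv), inv_inv]
  have cvr : ∀ v, c * (v * r) * c⁻¹ = c * v * c⁻¹ * z * r := fun v => by
    rw [show c * (v * r) * c⁻¹ = c * v * c⁻¹ * (c * r * c⁻¹) by group, cr, ← mul_assoc]
  have cs : c * s = s * c := by
    rw [← mul_inv_eq_iff_eq_mul]
    rcases cv2 v hv with ⟨e, -⟩ | ⟨-, e⟩
    · exact absurd (by rw [← s2, ev, sq', e]; simp) h.z1'
    · rw [ev, cvr, e, cmz h.zY hv, mul_assoc v, h.zz', mul_one]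
  let M := S ⊓ centralizer ({c} : Set G)
  have mM : ∀ {g}, g ∈ M ↔ g ∈ S ∧ g * c * g⁻¹ = c := fun {g} => by
    rw [mul_inv_eq_iff_eq_mul, ← mem_centralizer_singleton_iff]; rfl
  have out2 : ∀ a ∈ S, ∀ b ∈ S, a ∉ M → b ∉ M → a * b ∈ M := fun a ha b hb h1 h2 => by
    have e1 := (h.cls hρ ρ2 cS cρ c2 ha).resolve_left fun e => h1 (mM.2 ⟨ha, e⟩)
    have e2 := (h.cls hρ ρ2 cS cρ c2 hb).resolve_left fun e => h2 (mM.2 ⟨hb, e⟩)
    refine mM.2 ⟨S.mul_mem ha hb, ?_⟩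
    rw [show a * b * c * (a * b)⁻¹ = a * (b * c * b⁻¹) * a⁻¹ by group, e2, h.zc' c cS, h.cj ha, e1,
      h.zc' c cS, ← mul_assoc, h.zz', one_mul]
  have tM : t ∉ M := fun e => by
    have e1 := (mM.1 e).2
    rw [hc, show t * (t * r * ρ) * t⁻¹ = t * (t * r * t⁻¹) * (t * ρ * t⁻¹) by group, tr, tρ,
      mul_right_inj] at e1
    exact h.nz e1
  have tM' : t⁻¹ ∉ M := by rwa [h.ti]
  have cjA : ∀ a g, a ∉ A → g⁻¹ * a * g ∉ A := fun a g ha e => ha (by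
    simpa [mul_assoc] using h.nA.conj_mem _ e g)
  have cz : c * z = z * c := h.zc' c cS
  have nfs : ∀ g, s * (g⁻¹ * t * g) = g⁻¹ * t * g * s → g⁻¹ * t * g ∈ S → False := fun g e hg =>
    sz (h.nf g s z hs.2 zT.2 s2 h.zz' s1 h.z1' (h.zc' s hs.1) e (h.zc' _ hg).symm)
  have := tg0 (P := S) (N := M) (x := t) (x' := c) (b := t) (b' := 1)
    (by simpa using h.syl.not_dvd) inf_le_left (fun p hp q hq => ?_) h.tt c2 h.tS (one_mem _)
    (by rw [h.tt]; exact one_mem _) (by rw [one_mul]; exact one_mem _) (fun g hg => ?_)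
    (fun g hg => ?_) ?_
  · exact tM' (by simpa using this)
  · rw [commutatorElement_def]
    have nM : ∀ a ∈ S, ∀ b ∈ M, a * b * a⁻¹ ∈ M := fun a ha b hb => by
      by_cases h1 : a ∈ M
      · exact mul_mem (mul_mem h1 hb) (inv_mem h1)
      · refine out2 _ (S.mul_mem ha hb.1) _ (S.inv_mem ha) (fun e => h1 ?_) (by simpa using h1)
        simpa using mul_mem e (inv_mem hb)
    by_cases h1 : p ∈ M
    · rw [show p * q * p⁻¹ * q⁻¹ = p * (q * p⁻¹ * q⁻¹) by group]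
      exact mul_mem h1 (nM q hq _ (inv_mem h1))
    by_cases h2 : q ∈ M
    · exact mul_mem (nM p hp _ h2) (inv_mem h2)
    rw [show p * q * p⁻¹ * q⁻¹ = p * q * (q * p)⁻¹ by group]
    exact mul_mem (out2 p hp q hq h1 h2) (inv_mem (out2 q hq p hp h2 h1))
  · refine out2 _ (S.inv_mem h.tS) _ hg tM' fun hM => ?_
    have t2 : g⁻¹ * t * g * (g⁻¹ * t * g) = 1 := by
      rw [show g⁻¹ * t * g * (g⁻¹ * t * g) = g⁻¹ * (t * t) * g by group, h.tt]; simp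
    have ct : Commute c (g⁻¹ * t * g) := (mem_centralizer_singleton_iff.1 hM.2).symm
    have dA := h.mulA cA (cjA t g h.tA)
    have d2 : c * (g⁻¹ * t * g) * (c * (g⁻¹ * t * g)) = 1 := by
      rw [← sq, ct.mul_pow, sq, sq, c2, t2, one_mul]
    have et : g⁻¹ * t * g = c * (c * (g⁻¹ * t * g)) := by rw [← mul_assoc c c, c2, one_mul]
    by_cases d1 : c * (g⁻¹ * t * g) = 1
    · exact nfs g (by rw [et, d1, mul_one, cs]) hg
    have dz := h.nf g _ z dA zT.2 d2 h.zz' d1 h.z1' (h.zc' _ (S.mul_mem cS hg))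
      (ct.mul_left (Commute.refl _)).eq (h.zc' _ hg).symm
    exact nfs g (by rw [et, dz, ← mul_assoc, ← cs, mul_assoc, h.zc' s hs.1, mul_assoc]) hg
  · rw [inv_one, one_mul]
    by_contra hM
    have mM' := out2 _ h.tS _ hg tM hM
    have mT : t * (g⁻¹ * c * g) ∈ S ⊓ A := ⟨mM'.1, h.mulA h.tA (cjA c g cA)⟩
    have mc : c * (t * (g⁻¹ * c * g)) * c⁻¹ = t * (g⁻¹ * c * g) :=
      mul_inv_eq_iff_eq_mul.2 (mem_centralizer_singleton_iff.1 mM'.2).symm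
    have ec : g⁻¹ * c * g = t * (t * (g⁻¹ * c * g)) := by rw [← mul_assoc t t, h.tt, one_mul]
    by_cases mY : t * (g⁻¹ * c * g) ∈ zpowers y
    · obtain ⟨u, hu, eu⟩ := h.SQ cS cy mY mc
      have e : (u * g⁻¹)⁻¹ * t * (u * g⁻¹) = c := by
        have e1 : u⁻¹ * t * u = g⁻¹ * c * g := by
          rw [ec, eu, ← ty u hu, h.ti, mul_assoc _ t t, h.tt]; group
        calc _ = g * (u⁻¹ * t * u) * g⁻¹ := by group
          _ = c := by rw [e1]; group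
      exact nfs (u * g⁻¹) (by rw [e, cs]) (e ▸ cS)
    · obtain ⟨w, hw, ew⟩ := dec _ mT mY
      rw [ew, cvr] at mc
      have e2 : g⁻¹ * c * g * (g⁻¹ * c * g) = 1 := by
        rw [show g⁻¹ * c * g * (g⁻¹ * c * g) = g⁻¹ * (c * c) * g by group, c2]; simp
      rcases cv2 w hw with ⟨-, e⟩ | ⟨e', e⟩
      · rw [e, mul_left_inj, cmz hw h.zY] at mc
        exact h.nz mc
      · have e3 : t * (w * r) * (t * (w * r)) = w⁻¹ * (r * w * r⁻¹) * z := by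
          calc _ = t * w * t⁻¹ * (t * r * t⁻¹) * (t * t) * w * r := by group
            _ = _ := by rw [ty w hw, tr, h.tt, ← h.hz]; group
        rw [ec, ew, e3, e', cmz h.zY (inv_mem hw), mul_assoc, mul_assoc, h.zz', mul_one,
          ← mul_inv_rev, inv_eq_one] at e2
        rcases h.iY w hw e2 with e4 | e4 <;> rw [e4] at e
        · exact h.z1' (by simpa using e.symm)
        · rw [cz, h.zz', mul_inv_cancel_right] at e
          exact h.z1' e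
  · have : t⁻¹ * c ∈ A := by
      rw [hc, show t⁻¹ * (t * r * ρ) = r * ρ by group]; exact A.mul_mem h.rA ρT.2
    rw [← h.perf] at this
    exact commutator_mono le_top le_top this

end CY

theorem Cx.caseA [Finite G] {A S : Subgroup G} {t r : G} (h : Cx A S t r)
    (hno : ∀ u ∈ S ⊓ A, u * u = 1 → u ≠ 1 → u ≠ r * r →
      ¬ ∀ g ∈ S, g * u * g⁻¹ = u ∨ g * u * g⁻¹ = u * (r * r)) :
    ∀ s ∈ S ⊓ A, s * s = 1 → s = 1 ∨ s = r * r := by
  intro s hs s2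
  by_contra hne
  rw [not_or] at hne
  obtain ⟨y, h'⟩ := h.exists_CY hno
  have hy : y * y ≠ 1 := fun e => by
    have : s * y = y * s := by
      rcases h'.iY y (mem_zpowers y) e with e1 | e1 <;> rw [e1]
      · simp
      · exact h.zc s hs.1
    exact (h'.iY s (h'.cY s hs this) s2).elim hne.1 hne.2
  obtain ⟨k, hk⟩ := h'.root (mem_zpowers y) hy
  have hρ : y ^ k ∈ zpowers y := pow_mem (mem_zpowers y) k
  rcases h'.pm hρ hk h.tS with e | e
  · exact h'.case4 hρ hk hs s2 hne.1 hne.2 e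
  · exact h'.case5 hρ hk hs s2 hne.1 hne.2 e

end Cfsg.Agent.H1.Cz
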