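import Cfsg.Agent.H1.Cz2

/-! The case without a normal four-subgroup: the cyclic self-centralizing subgroup. -/

namespace Cfsg.Agent.H1.Cz

open Subgroup
open scoped commutatorElement Pointwise

variable {G : Type*} [Group G]

/-- A cyclic normal self-centralizing subgroup generated by `y`. -/
structure CY (A S : Subgroup G) (t r z y : G) : Prop extends Cx A S t r where
  hz : r * r = z
  yT : y ∈ S ⊓ A
  nY : ∀ g ∈ S, ∀ a ∈ zpowers y, g * a * g⁻¹ ∈ zpowers y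
  cY : ∀ x ∈ S ⊓ A, x * y = y * x → x ∈ zpowers y
  iY : ∀ v ∈ zpowers y, v * v = 1 → v = 1 ∨ v = z
  zY : z ∈ zpowers y
  hno : ∀ u ∈ S ⊓ A, u * u = 1 → u ≠ 1 → u ≠ z →
    ¬ ∀ g ∈ S, g * u * g⁻¹ = u ∨ g * u * g⁻¹ = u * z

theorem Cx.zp [Finite G] {A S : Subgroup G} {t r : G} (h : Cx A S t r) {w : G}
    (hw : w ∈ zpowers (r * r)) : w = 1 ∨ w = r * r := by
  refine h.inv_z (zpowers_le.2 h.zT hw) ?_ ?_
  · obtain ⟨i, rfl⟩ := hw
    exact (Commute.zpow_right (h.zc t h.tS) i).eq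
  · obtain ⟨i, rfl⟩ := hw
    show (r * r) ^ i * (r * r) ^ i = 1
    rw [← Commute.mul_zpow (Commute.refl _), h.zz, one_zpow]

theorem Cx.exists_CY [Finite G] {A S : Subgroup G} {t r : G} (h : Cx A S t r)
    (hno : ∀ u ∈ S ⊓ A, u * u = 1 → u ≠ 1 → u ≠ r * r →
      ¬ ∀ g ∈ S, g * u * g⁻¹ = u ∨ g * u * g⁻¹ = u * (r * r)) :
    ∃ y, CY A S t r (r * r) y := by
  haveI := two
  have hzn : ∀ g ∈ S, ∀ a ∈ zpowers (r * r), g * a * g⁻¹ ∈ zpowers (r * r) := by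
    rintro g hg _ ⟨i, rfl⟩
    rw [(Commute.zpow_right (h.zc g hg) i).eq]; simp
  obtain ⟨Y, ⟨h1, h2, h3, h4⟩, hmax⟩ := (wellFounded_gt (α := Subgroup G)).has_min
    {W | W ≤ S ⊓ A ∧ (∀ g ∈ S, ∀ a ∈ W, g * a * g⁻¹ ∈ W) ∧ (∀ a ∈ W, ∀ b ∈ W, a * b = b * a) ∧
      r * r ∈ W}
    ⟨zpowers (r * r), zpowers_le.2 h.zT, hzn, by
      rintro _ ⟨i, rfl⟩ _ ⟨j, rfl⟩
      exact (Commute.zpow_zpow_self _ i j).eq, mem_zpowers _⟩
  have hc : (S ⊓ A) ⊓ centralizer (Y : Set G) ≤ Y := by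
    by_contra hne
    obtain ⟨x, x1, x2, x3, x4⟩ := H11.exists_central_mod_in (N := Y)
      (M := (S ⊓ A) ⊓ centralizer (Y : Set G)) h.syl.isPGroup (inf_le_left.trans inf_le_left)
      (le_norm h2) (le_norm fun g hg a ha => ⟨h.conjT hg ha.1, mem_centralizer_iff.2 fun v hv => by
        have := mem_centralizer_iff.1 ha.2 _ (h2 _ (S.inv_mem hg) v hv)
        calc v * (g * a * g⁻¹) = g * (g⁻¹ * v * g⁻¹⁻¹ * a) * g⁻¹ := by group
          _ = _ := by rw [this]; group⟩) hne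
    have hx : ∀ v ∈ Y, v * x = x * v := mem_centralizer_iff.1 x1.2
    refine hmax (ext2 Y x (h2 x x1.1.1) (by rwa [← sq])) ⟨?_, ?_, ?_, Or.inl h4⟩
      (lt_of_le_of_ne (fun a ha => Or.inl ha) fun e => x2 ?_)
    · rintro a (ha | ha)
      · exact h1 ha
      · simpa using mul_mem (h1 ha) x1.1
    · rintro g hg a (ha | ha)
      · exact Or.inl (h2 g hg a ha)
      · right
        rw [show g * a * g⁻¹ * x⁻¹ = g * (a * x⁻¹) * g⁻¹ * (g * x * g⁻¹ * x⁻¹) by group]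
        exact mul_mem (h2 g hg _ ha) (x4 g hg)
    · have key : ∀ a, a ∈ ext2 Y x (h2 x x1.1.1) (by rwa [← sq]) →
          Commute a x ∧ ∀ v ∈ Y, Commute a v := by
        rintro a (ha | ha)
        · exact ⟨hx a ha, fun v hv => h3 a ha v hv⟩
        · rw [show a = a * x⁻¹ * x by group]
          exact ⟨Commute.mul_left (hx _ ha) (Commute.refl x),
            fun v hv => Commute.mul_left (h3 _ ha v hv) (hx v hv).symm⟩
      rintro a ha b (hb | hb)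
      · exact (key a ha).2 b hb
      · rw [show b = b * x⁻¹ * x by group]
        exact (Commute.mul_right ((key a ha).2 _ hb) (key a ha).1).eq
    · rw [e]; exact Or.inr (by simp)
  have hi : ∀ v ∈ Y, v * v = 1 → v = 1 ∨ v = r * r := by
    let Ω : Subgroup G :=
      { carrier := {v | v ∈ Y ∧ v * v = 1}
        one_mem' := ⟨Y.one_mem, one_mul 1⟩
        mul_mem' := fun {a b} ha hb => ⟨Y.mul_mem ha.1 hb.1, by
          rw [mul_assoc, ← mul_assoc b a, ← h3 a ha.1 b hb.1, mul_assoc, hb.2, mul_one, ha.2]⟩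
        inv_mem' := fun {a} ha => ⟨Y.inv_mem ha.1, by rw [← mul_inv_rev, ha.2, inv_one]⟩ }
    have : Ω ≤ zpowers (r * r) := by
      by_contra hne
      obtain ⟨x, x1, x2, -, x4⟩ := H11.exists_central_mod_in (N := zpowers (r * r)) (M := Ω)
        h.syl.isPGroup (fun a ha => (h1 ha.1).1) (le_norm hzn)
        (le_norm fun g hg a ha => ⟨h2 g hg a ha.1, by
          rw [show g * a * g⁻¹ * (g * a * g⁻¹) = g * (a * a) * g⁻¹ by group, ha.2]; simp⟩) hne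
      refine hno x (h1 x1.1) x1.2 (fun e => x2 (e ▸ one_mem _)) (fun e => x2 (e ▸ mem_zpowers _))
        fun g hg => ?_
      rcases h.zp (x4 g hg) with e | e
      · exact Or.inl (mul_inv_eq_one.1 e)
      · right; rw [mul_inv_eq_iff_eq_mul.1 e, h.zc x (h1 x1.1).1]
    exact fun v hv v2 => h.zp (this ⟨hv, v2⟩)
  haveI : IsMulCommutative Y := ⟨⟨fun a b => Subtype.ext (h3 _ a.2 _ b.2)⟩⟩
  have hcyc : IsCyclic Y := H1.isCyclic_subgroup_of_unique_order_p (p := 2)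
    (h.syl.isPGroup.to_le (h1.trans inf_le_left)) fun a ha b hb oa b2 => by
      have e : a = r * r := (hi a ha (by rw [← sq, ← oa, pow_orderOf_eq_one])).resolve_left
        fun e => by simp [e] at oa
      rcases hi b hb (by rwa [← sq]) with e' | e' <;> rw [e']
      · exact one_mem _
      · rw [e]; exact mem_zpowers _
  obtain ⟨y, hy⟩ := IsCyclic.exists_generator (α := Y)
  have hY : Y = zpowers (y : G) := le_antisymm (fun a ha => by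
    obtain ⟨k, hk⟩ := hy ⟨a, ha⟩
    exact ⟨k, congrArg Subtype.val hk⟩) (zpowers_le.2 y.2)
  refine ⟨y, { h with
    hz := rfl, yT := h1 y.2, nY := hY ▸ h2, cY := fun x hx e => ?_, iY := hY ▸ hi,
    zY := hY ▸ h4, hno := hno }⟩
  rw [← hY]
  refine hc ⟨hx, mem_centralizer_iff.2 fun v hv => ?_⟩
  rw [hY] at hv
  obtain ⟨k, rfl⟩ := hv
  exact (Commute.zpow_left e.symm k).eq

theorem cmz {y a b : G} (ha : a ∈ zpowers y) (hb : b ∈ zpowers y) : a * b = b * a := by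
  obtain ⟨i, rfl⟩ := ha
  obtain ⟨j, rfl⟩ := hb
  exact (Commute.zpow_zpow_self _ i j).eq

namespace CY
variable [Finite G] {A S : Subgroup G} {t r z y : G} (h : CY A S t r z y)
include h

theorem zz' : z * z = 1 := h.hz ▸ h.zz
theorem z1' : z ≠ 1 := h.hz ▸ h.z1
theorem zc' : ∀ s ∈ S, s * z = z * s := h.hz ▸ h.zc
theorem zi' : z⁻¹ = z := h.hz ▸ h.zi
theorem YT {v : G} (hv : v ∈ zpowers y) : v ∈ S ⊓ A := zpowers_le.2 h.yT hv

theorem mulA {a b : G} (ha : a ∉ A) (hb : b ∉ A) : a * b ∈ A := by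
  have h1 := (h.cov a).resolve_left ha
  have h2 := (h.cov b).resolve_left hb
  have := A.mul_mem (h.nA.conj_mem _ h1 t) h2
  rw [h.ti] at this
  rwa [show t * (t * a) * t * (t * b) = t * t * a * (t * t) * b by group, h.tt, one_mul,
    mul_one] at this

theorem CM {a b : G} (ha : a ∈ S) (hb : b ∈ S) : a * b * a⁻¹ * b⁻¹ ∈ zpowers y := by
  refine h.cY _ ⟨S.mul_mem (S.mul_mem (S.mul_mem ha hb) (S.inv_mem ha)) (S.inv_mem hb), ?_⟩ ?_
  · by_cases h1 : a ∈ A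
    · rw [show a * b * a⁻¹ * b⁻¹ = a * (b * a⁻¹ * b⁻¹) by group]
      exact A.mul_mem h1 (h.nA.conj_mem _ (A.inv_mem h1) b)
    by_cases h2 : b ∈ A
    · exact A.mul_mem (h.nA.conj_mem _ h2 a) (A.inv_mem h2)
    rw [show a * b * a⁻¹ * b⁻¹ = a * b * (b * a)⁻¹ by group]
    exact A.mul_mem (h.mulA h1 h2) (A.inv_mem (h.mulA h2 h1))
  · obtain ⟨i, hi⟩ := h.nY _ (S.inv_mem ha) y (mem_zpowers y)
    obtain ⟨j, hj⟩ := h.nY _ (S.inv_mem hb) y (mem_zpowers y)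
    simp only [inv_inv] at hi hj
    have e1 : a⁻¹ * (b⁻¹ * y * b) * a = y ^ (i * j) := by
      rw [← hj, zpow_mul, hi, show a⁻¹ * y * a = a⁻¹ * y * a⁻¹⁻¹ by simp, conj_zpow]; simp
    have e2 : b⁻¹ * (a⁻¹ * y * a) * b = y ^ (i * j) := by
      rw [← hi, mul_comm i, zpow_mul, hj, show b⁻¹ * y * b = b⁻¹ * y * b⁻¹⁻¹ by simp, conj_zpow]
      simp
    calc a * b * a⁻¹ * b⁻¹ * y = a * b * (a⁻¹ * (b⁻¹ * y * b) * a) * (a⁻¹ * b⁻¹) := by group
      _ = _ := by rw [e1, ← e2]; group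

theorem root {w : G} (hw : w ∈ zpowers y) (h2 : w * w ≠ 1) : ∃ k : ℕ, w ^ k * w ^ k = z := by
  haveI := two
  obtain ⟨n, hn⟩ := h.syl.isPGroup ⟨w, (h.YT hw).1⟩
  have hn' : w ^ 2 ^ n = 1 := congrArg Subtype.val hn
  obtain ⟨m, -, hm⟩ := (Nat.dvd_prime_pow Nat.prime_two).1 (orderOf_dvd_of_pow_eq_one hn')
  have hm2 : 2 ≤ m := by
    by_contra hlt
    apply h2
    rw [← sq, ← orderOf_dvd_iff_pow_eq_one, hm]
    have : m = 0 ∨ m = 1 := by omega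
    rcases this with rfl | rfl <;> simp
  obtain ⟨k, rfl⟩ := Nat.exists_eq_add_of_le' hm2
  refine ⟨2 ^ k, (h.iY _ (mul_mem (pow_mem hw _) (pow_mem hw _)) ?_).resolve_left ?_⟩
  · rw [← pow_add, ← pow_add, ← orderOf_dvd_iff_pow_eq_one, hm]
    exact ⟨1, by ring⟩
  · rw [← pow_add, ← orderOf_dvd_iff_pow_eq_one, hm]
    intro e
    have := Nat.le_of_dvd (by positivity) e
    have h3 : 0 < 2 ^ k := by positivity
    rw [pow_add] at this
    omega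

theorem uniq {a b : G} (ha : a ∈ zpowers y) (hb : b ∈ zpowers y) (a2 : a * a = z)
    (b2 : b * b = z) : b = a ∨ b = z * a := by
  have := h.iY _ (mul_mem hb (inv_mem ha)) (by
    rw [mul_assoc, ← mul_assoc a⁻¹, cmz (inv_mem ha) hb, mul_assoc, ← mul_assoc, b2,
      ← mul_inv_rev, a2, mul_inv_cancel])
  exact this.imp mul_inv_eq_one.1 mul_inv_eq_iff_eq_mul.1

theorem nz {a : G} (e : z * a = a) : False := h.z1' (by simpa using e)

theorem pm {ρ g : G} (hρ : ρ ∈ zpowers y) (ρ2 : ρ * ρ = z) (hg : g ∈ S) :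
    g * ρ * g⁻¹ = ρ ∨ g * ρ * g⁻¹ = z * ρ :=
  h.uniq hρ (h.nY g hg ρ hρ) ρ2 (by
    rw [show g * ρ * g⁻¹ * (g * ρ * g⁻¹) = g * (ρ * ρ) * g⁻¹ by group, ρ2, h.zc' g hg]; simp)

theorem cj {x a : G} (hx : x ∈ S) : x * (z * a) * x⁻¹ = z * (x * a * x⁻¹) := by
  rw [← mul_assoc, h.zc' x hx]; group

theorem KI {ρ x w : G} (hρ : ρ ∈ zpowers y) (ρ2 : ρ * ρ = z) (hx : x ∈ S)
    (xρ : x * ρ * x⁻¹ = ρ) (hw : w ∈ zpowers y) (hi : x * w * x⁻¹ = w⁻¹) : w = 1 ∨ w = z := by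
  refine h.iY w hw (by_contra fun h2 => ?_)
  obtain ⟨k, hk⟩ := h.root hw h2
  have e1 : x * w ^ k * x⁻¹ = (w ^ k)⁻¹ := by rw [← conj_pow, hi, inv_pow]
  have e2 : x * w ^ k * x⁻¹ = w ^ k := by
    rcases h.uniq hρ (pow_mem hw k) ρ2 hk with e | e <;> rw [e]
    · exact xρ
    · rw [h.cj hx, xρ]
  apply h.z1'
  rw [← hk]
  nth_rewrite 1 [← e2]
  rw [e1, inv_mul_cancel]

theorem KC {ρ x w : G} (hρ : ρ ∈ zpowers y) (ρ2 : ρ * ρ = z) (hx : x ∈ S)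
    (xρ : x * ρ * x⁻¹ = z * ρ) (hw : w ∈ zpowers y) (hi : x * w * x⁻¹ = w) : w = 1 ∨ w = z := by
  refine h.iY w hw (by_contra fun h2 => ?_)
  obtain ⟨k, hk⟩ := h.root hw h2
  have e1 : x * w ^ k * x⁻¹ = w ^ k := by rw [← conj_pow, hi]
  rcases h.uniq hρ (pow_mem hw k) ρ2 hk with e | e <;> rw [e] at e1
  · exact h.nz (xρ.symm.trans e1)
  · rw [h.cj hx, xρ] at e1
    exact h.nz e1

theorem K {ρ x v : G} (hρ : ρ ∈ zpowers y) (ρ2 : ρ * ρ = z) (hx : x ∈ S)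
    (xρ : x * ρ * x⁻¹ = ρ) (x2 : x * x ∈ zpowers y) (hv : v ∈ zpowers y) :
    x * v * x⁻¹ = v ∨ x * v * x⁻¹ = z * v := by
  have hw := h.nY x hx v hv
  have := h.KI hρ ρ2 hx xρ (mul_mem hw (inv_mem hv)) (by
    calc x * (x * v * x⁻¹ * v⁻¹) * x⁻¹ = (x * x * v) * (x * x)⁻¹ * (x * v * x⁻¹)⁻¹ := by group
      _ = _ := by rw [cmz x2 hv]; group)
  exact this.imp mul_inv_eq_one.1 mul_inv_eq_iff_eq_mul.1

theorem SQ {x v : G} (hx : x ∈ S) (e : x * y * x⁻¹ = z * y) (hv : v ∈ zpowers y)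
    (c : x * v * x⁻¹ = v) : ∃ u ∈ zpowers y, v = u * u := by
  obtain ⟨k, rfl⟩ := hv
  have hy : Commute z y := (h.zc' y h.yT.1).symm
  obtain ⟨j, rfl | rfl⟩ := Int.even_or_odd' k
  · exact ⟨y ^ j, ⟨j, rfl⟩, by simp only [two_mul, zpow_add]⟩
  · exfalso
    simp only at c
    rw [← conj_zpow, e, hy.mul_zpow, zpow_add_one z, zpow_mul, zpow_two, h.zz', one_zpow,
      one_mul] at c
    exact h.nz c

/-- conjugates of an involution commuting with `ρ` -/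
theorem cls {ρ x g : G} (hρ : ρ ∈ zpowers y) (ρ2 : ρ * ρ = z) (hx : x ∈ S)
    (xρ : x * ρ * x⁻¹ = ρ) (x2 : x * x = 1) (hg : g ∈ S) :
    g * x * g⁻¹ = x ∨ g * x * g⁻¹ = x * z := by
  have xi : x⁻¹ = x := inv_eq_of_mul_eq_one_right x2
  have := h.KI hρ ρ2 hx xρ (h.CM hg hx) (by
    rw [show x * (g * x * g⁻¹ * x⁻¹) * x⁻¹ = x * g * x * g⁻¹ * (x * x)⁻¹ by group, x2,
      show (g * x * g⁻¹ * x⁻¹)⁻¹ = x * g * x⁻¹ * g⁻¹ by group, xi]; simp)
  refine this.imp mul_inv_eq_one.1 fun e => ?_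
  rw [mul_inv_eq_iff_eq_mul.1 e, h.zc' x hx]

theorem cρ {ρ : G} (hρ : ρ ∈ zpowers y) (ρ2 : ρ * ρ = z) {a : G} (ha : a ∈ S ⊓ A)
    (aρ : a * ρ * a⁻¹ = ρ) : a ∈ zpowers y := by
  haveI := two
  by_contra hne
  obtain ⟨x, x1, x2, x3, -⟩ := H11.exists_central_mod_in (N := zpowers y)
    (M := (S ⊓ A) ⊓ centralizer ({ρ} : Set G)) h.syl.isPGroup (inf_le_left.trans inf_le_left)
    (le_norm h.nY) (le_norm fun g hg a ha => ⟨h.conjT hg ha.1, mem_centralizer_singleton_iff.2 (by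
      have e := mem_centralizer_singleton_iff.1 ha.2
      have e' : a * (g⁻¹ * ρ * g⁻¹⁻¹) = g⁻¹ * ρ * g⁻¹⁻¹ * a := by
        rcases h.pm hρ ρ2 (S.inv_mem hg) with e1 | e1 <;> rw [e1]
        · exact e
        · rw [← mul_assoc, h.zc' a ha.1.1, mul_assoc, e, mul_assoc]
      calc g * a * g⁻¹ * ρ = g * (a * (g⁻¹ * ρ * g⁻¹⁻¹)) * g⁻¹ := by group
        _ = _ := by rw [e']; group)⟩)
    (fun e => hne (e ⟨ha, mem_centralizer_singleton_iff.2 (mul_inv_eq_iff_eq_mul.1 aρ)⟩))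
  rw [sq] at x3
  have xρ : x * ρ * x⁻¹ = ρ := mul_inv_eq_iff_eq_mul.2 (mem_centralizer_singleton_iff.1 x1.2)
  have e := (h.K hρ ρ2 x1.1.1 xρ x3 (mem_zpowers y)).resolve_left
    fun e => x2 (h.cY x x1.1 (mul_inv_eq_iff_eq_mul.1 e))
  obtain ⟨u, hu, eu⟩ := h.SQ x1.1.1 e x3 (by group)
  have fin : ∀ v ∈ zpowers y, x * v * (x * v) = 1 → False := fun v hv e2 => by
    have hT : x * v ∈ S ⊓ A := mul_mem x1.1 (h.YT hv)
    have hn : x * v ∉ zpowers y := fun e => x2 (by simpa using mul_mem e (inv_mem hv))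
    refine h.hno _ hT e2 (fun e => hn (e ▸ one_mem _)) (fun e => hn (e ▸ h.zY))
      fun g hg => h.cls hρ ρ2 hT.1 ?_ e2 hg
    rw [show x * v * ρ * (x * v)⁻¹ = x * (v * ρ * v⁻¹) * x⁻¹ by group, cmz hv hρ,
      mul_inv_cancel_right, xρ]
  have e3 : x * u⁻¹ * (x * u⁻¹) = x * u⁻¹ * x⁻¹ * u := by
    rw [show x * u⁻¹ * (x * u⁻¹) = x * u⁻¹ * x⁻¹ * (x * x) * u⁻¹ by group, eu]; group
  rcases h.K hρ ρ2 x1.1.1 xρ x3 (inv_mem hu) with e4 | e4
  · exact fin _ (inv_mem hu) (by rw [e3, e4]; simp)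
  · refine fin _ (mul_mem (inv_mem hu) hρ) ?_
    have c1 : Commute ρ x := (mul_inv_eq_iff_eq_mul.1 xρ).symm
    have c2 : Commute ρ u⁻¹ := cmz hρ (inv_mem hu)
    rw [← mul_assoc x u⁻¹ ρ, ← sq, (c1.mul_right c2).symm.mul_pow, sq, sq, e3, e4, ρ2,
      inv_mul_cancel_right, h.zz']

end CY

end Cfsg.Agent.H1.Cz
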