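import Cfsg.Agent.H1.Cz2

/-! Reduction of the statement on cyclic fixed Sylow subgroups to the configuration `Cx`. -/

namespace Cfsg.Agent.H1.Cz

open Subgroup
open scoped commutatorElement Pointwise

variable {G : Type*} [Group G]

theorem perf_of_layer {A : Subgroup G} (hA : Cfsg.layer A = ⊤) : ⁅A, A⁆ = A := by
  have : commutator A = ⊤ := by
    rw [eq_top_iff, ← hA, Cfsg.layer, sSup_le_iff]
    intro K hK
    have h1 : commutator K = ⊤ := hK.2.1.commutator_eq_top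
    have h2 := map_subtype_commutator K
    rw [h1, ← MonoidHom.range_eq_map, range_subtype] at h2
    exact h2.le.trans (commutator_mono le_top le_top)
  rw [← map_subtype_commutator, this, ← MonoidHom.range_eq_map, range_subtype]

theorem pg_zpowers {a : G} {n : ℕ} (h : a ^ 2 ^ n = 1) : IsPGroup 2 (zpowers a) := by
  rintro ⟨_, m, rfl⟩
  exact ⟨n, Subtype.ext (by
    show (a ^ m) ^ 2 ^ n = 1
    rw [← zpow_natCast, ← zpow_mul, mul_comm m, zpow_mul, zpow_natCast, h, one_zpow])⟩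

theorem pg_sup {a b : G} {m n : ℕ} (ha : a ^ 2 ^ m = 1) (hb : b ^ 2 ^ n = 1) (h : b * a = a * b) :
    IsPGroup 2 ↥(zpowers a ⊔ zpowers b) :=
  (pg_zpowers ha).to_sup_of_normal_left' (pg_zpowers hb) (le_norm (by
    rintro _ ⟨i, rfl⟩ _ ⟨j, rfl⟩
    rw [((Commute.zpow_zpow h i j)).eq, mul_inv_cancel_right]
    exact ⟨j, rfl⟩))

theorem inv_zp [Finite G] {r x : G} (ho : orderOf r = 4) (hx : x ∈ zpowers r) (x2 : x * x = 1) (x1 : x ≠ 1) :
    x = r * r := by
  classical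
  have r4 : r ^ 4 = 1 := ho ▸ pow_orderOf_eq_one r
  have z1 : r ^ 2 ≠ 1 := pow_ne_one_of_lt_orderOf (by decide) (by omega)
  have := mem_zpowers_iff_mem_range_orderOf.1 hx
  rw [ho] at this
  obtain ⟨i, hi, rfl⟩ := Finset.mem_image.1 this
  rw [Finset.mem_range] at hi
  rw [← pow_add] at x2
  interval_cases i
  · exact absurd (pow_zero r) x1
  · exact absurd x2 z1
  · exact sq r
  · rw [show 3 + 3 = 4 + 2 from rfl, pow_add, r4, one_mul] at x2
    exact absurd x2 z1

theorem uniq_inv [Finite G] {C : Subgroup G} {r a b : G} (hR : IsSylowIn 2 (zpowers r) C) (ho : orderOf r = 4)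
    (ha : a ∈ C) (hb : b ∈ C) (a2 : a * a = 1) (b2 : b * b = 1) (a1 : a ≠ 1) (b1 : b ≠ 1)
    (h : a * b = b * a) : a = b := by
  haveI := two
  obtain ⟨k, -, hk⟩ := hR.exists_le_conj (sup_le (zpowers_le.2 ha) (zpowers_le.2 hb))
    (pg_sup (m := 1) (n := 1) (by rw [pow_one, sq, a2]) (by rw [pow_one, sq, b2]) h.symm)
  have key : ∀ x ∈ zpowers a ⊔ zpowers b, x * x = 1 → x ≠ 1 → k⁻¹ * x * k = r * r := fun x hx x2 x1 => by
    have := hk hx
    rw [mem_pointwise_smul_iff_inv_smul_mem] at this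
    refine inv_zp ho (by simpa [mul_assoc] using this) ?_ fun e => x1 ?_
    · rw [show k⁻¹ * x * k * (k⁻¹ * x * k) = k⁻¹ * (x * x) * k by group, x2]; group
    · rw [show x = k * (k⁻¹ * x * k) * k⁻¹ by group, e]; group
  have := (key a (mem_sup_left (mem_zpowers a)) a2 a1).trans (key b (mem_sup_right (mem_zpowers b)) b2 b1).symm
  simpa using this

theorem rank_of [Finite G] {A T : Subgroup G} (hT : IsSylowIn 2 T A) {z : G} (hz : z ∈ A) (z2 : z * z = 1)
    (z1 : z ≠ 1) (h : ∀ s ∈ T, s * s = 1 → s = 1 ∨ s = z) :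
    Cfsg.PRankLE 2 1 A ∧ ¬ Cfsg.PRankLE 2 0 A := by
  classical
  haveI := two
  have ho : ∀ y : A, y ≠ 1 → y * y = 1 → Nat.card (zpowers y) = 2 := fun y y1 y2 => by
    rw [Nat.card_zpowers]; exact orderOf_eq_prime (by rw [sq, y2]) y1
  refine ⟨fun B _ hB => ?_, fun h0 => ?_⟩
  · obtain ⟨k, hk, h1⟩ := hT.exists_le_conj (map_subtype_le B)
      (IsPGroup.map (fun b => ⟨1, Subtype.ext (by simpa using hB b b.2)⟩) _)
    have y1 : (⟨k * z * k⁻¹, mul_mem (mul_mem hk hz) (inv_mem hk)⟩ : A) ≠ 1 := fun e => z1 (by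
      simpa using congrArg Subtype.val e)
    rw [pow_one, ← ho _ y1 (Subtype.ext (by
      show k * z * k⁻¹ * (k * z * k⁻¹) = 1
      rw [show k * z * k⁻¹ * (k * z * k⁻¹) = k * (z * z) * k⁻¹ by group, z2]; group))]
    refine card_le_of_le fun b hb => ?_
    have h2 := h1 ⟨b, hb, rfl⟩
    rw [mem_pointwise_smul_iff_inv_smul_mem] at h2
    have h3 : k⁻¹ * b * k ∈ T := by simpa [mul_assoc] using h2
    have h4 : (b : G) * b = 1 := by simpa [sq] using congrArg Subtype.val (hB b hb)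
    rcases h _ h3 (by rw [show k⁻¹ * b * k * (k⁻¹ * b * k) = k⁻¹ * (b * b) * k by group, h4]; group) with e | e
    · rw [show b = 1 from Subtype.ext (by
        rw [show (b : G) = k * (k⁻¹ * b * k) * k⁻¹ by group, e]; simp)]
      exact one_mem _
    · rw [show b = ⟨k * z * k⁻¹, mul_mem (mul_mem hk hz) (inv_mem hk)⟩ from Subtype.ext (by
        show (b : G) = k * z * k⁻¹
        rw [← e]; group)]
      exact mem_zpowers _
  · have y2 : (⟨z, hz⟩ : A) * ⟨z, hz⟩ = 1 := Subtype.ext z2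
    have := h0 (zpowers ⟨z, hz⟩) inferInstance (by
      rintro _ ⟨i, rfl⟩
      rw [sq, ← Commute.mul_zpow (Commute.refl _), y2, one_zpow])
    rw [ho _ (fun e => z1 (congrArg Subtype.val e)) y2] at this
    omega

theorem fin.{u} (main : ∀ {G : Type u} [Group G] [Finite G] {A S : Subgroup G} {t r : G}, Cx A S t r →
      ∀ s ∈ S ⊓ A, s * s = 1 → s = 1 ∨ s = r * r)
    {G : Type u} [Group G] [Finite G] (A : Subgroup G) (hA : Cfsg.layer ↥A = ⊤)
    (t : G) (ht : orderOf t = 2) (htA : t ∈ Subgroup.normalizer (A : Set G))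
    (hC : ∀ R : Sylow 2 ↥(A ⊓ Subgroup.centralizer ({t} : Set G)), IsCyclic R ∧ Nat.card R = 4) :
    Cfsg.PRankLE 2 1 A ∧ ¬ Cfsg.PRankLE 2 0 A := by
  haveI := two
  have tt : t * t = 1 := by rw [← sq, ← ht, pow_orderOf_eq_one]
  have t1 : t ≠ 1 := fun e => by simp [e] at ht
  obtain ⟨r, hR, ho⟩ : ∃ r, IsSylowIn 2 (zpowers r) (A ⊓ centralizer ({t} : Set G)) ∧ orderOf r = 4 := by
    let R : Sylow 2 ↥(A ⊓ centralizer ({t} : Set G)) := default
    obtain ⟨⟨g, hg⟩, hc⟩ := hC R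
    refine ⟨g.1.1, ?_, ?_⟩
    · convert isSylowIn_map_subtype R using 1
      refine le_antisymm (zpowers_le.2 ⟨g.1, g.2, rfl⟩) ?_
      rintro _ ⟨x, hx, rfl⟩
      obtain ⟨i, hi⟩ := hg ⟨x, hx⟩
      exact ⟨i, congrArg (fun y : R => y.1.1) hi⟩
    · rw [Subgroup.orderOf_coe, ← hc, ← orderOf_eq_card_of_forall_mem_zpowers hg]
      exact Subgroup.orderOf_coe g
  have mc : ∀ {x : G}, x ∈ A → t * x = x * t → x ∈ A ⊓ centralizer ({t} : Set G) := fun hx e =>
    ⟨hx, mem_centralizer_singleton_iff.2 e.symm⟩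
  have hr := hR.le (mem_zpowers r)
  have tr : t * r = r * t := (mem_centralizer_singleton_iff.1 hr.2).symm
  by_cases tA : t ∈ A
  · obtain ⟨T, hT, h1⟩ := exists_isSylowIn_ge (zpowers_le.2 tA) (pg_zpowers (n := 1) (by rw [pow_one, sq, tt]))
    have tT := h1 (mem_zpowers t)
    obtain ⟨x, x1, x2, x3, x4⟩ := H11.exists_central_mod_in (N := ⊥) (M := T) hT.isPGroup le_rfl
      (by rw [normalizer_eq_top]; exact le_top) le_normalizer (fun e => t1 (mem_bot.1 (e tT)))
    simp only [mem_bot, mul_inv_eq_iff_eq_mul, one_mul] at x2 x3 x4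
    obtain rfl : x = t := uniq_inv hR ho (mc (hT.le x1) (x4 t tT)) (mc tA rfl) (by rw [← sq, x3]) tt x2 t1
      (x4 t tT).symm
    refine rank_of hT tA tt t1 fun s hs s2 => or_iff_not_imp_left.2 fun s1 => ?_
    exact uniq_inv hR ho (mc (hT.le hs) (x4 s hs).symm) (mc tA rfl) s2 tt s1 t1 (x4 s hs)
  have hn : ∀ w ∈ A, t * w * t⁻¹ ∈ A := fun w hw => (mem_normalizer_iff.1 htA w).1 hw
  let K := ext2 A t hn (by rw [tt]; exact one_mem _)
  have AK : A ≤ K := fun a ha => Or.inl ha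
  have tK : t ∈ K := Or.inr (by simp)
  have KN : K ≤ normalizer (A : Set G) := by
    rintro g (hg | hg)
    · exact le_normalizer hg
    · simpa using mul_mem (le_normalizer hg) htA
  have r4 : r ^ 2 ^ 2 = 1 := by rw [show 2 ^ 2 = 4 from rfl, ← ho, pow_orderOf_eq_one]
  obtain ⟨S, hS, h1⟩ := exists_isSylowIn_ge (sup_le (zpowers_le.2 (AK hr.1)) (zpowers_le.2 tK))
    (pg_sup (n := 1) r4 (by rw [pow_one, sq, tt]) tr)
  have rS := h1 (mem_sup_left (mem_zpowers r))
  have h : Cx (A.subgroupOf K) (S.subgroupOf K) ⟨t, tK⟩ ⟨r, AK hr.1⟩ :=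
    { nA := (normal_subgroupOf_iff_le_normalizer AK).2 KN
      perf := map_injective K.subtype_injective (by
        rw [map_commutator, map_subgroupOf_eq_of_le AK, perf_of_layer hA])
      syl := ⟨le_top, hS.isPGroup.comap_subtype, by rw [relIndex_top_right]; exact hS.not_dvd⟩
      tS := h1 (mem_sup_right (mem_zpowers t))
      tA := tA
      tt := Subtype.ext tt
      cov := fun g => g.2.imp_right fun hg => by
        have := hn _ hg
        rw [mul_assoc, mul_assoc, ← mul_inv_rev, tt, inv_one, mul_one] at this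
        exact this
      rS := rS
      rA := hr.1
      ord := by rw [← Subgroup.orderOf_coe, ho]
      tr := Subtype.ext tr
      cen := fun s s1 s2 s3 => by
        have e := hR.eq_of_le (U := S ⊓ (A ⊓ centralizer ({t} : Set G))) (zpowers_le.2 ⟨rS, hr⟩) inf_le_right
          (hS.isPGroup.to_le inf_le_left)
        obtain ⟨i, hi⟩ := e.ge ⟨s1, mc s2 (congrArg Subtype.val s3)⟩
        exact ⟨i, Subtype.ext hi⟩
      nf := fun g a b ha hb a2 b2 a1 b1 ab ta tb => by
        have key : ∀ x : K, x ∈ A.subgroupOf K → x * (g⁻¹ * ⟨t, tK⟩ * g) = g⁻¹ * ⟨t, tK⟩ * g * x →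
            ((g * x * g⁻¹ : K) : G) ∈ A ⊓ centralizer ({t} : Set G) := fun x hx e => by
          refine mc ((mem_normalizer_iff.1 (KN g.2) x).1 hx) ?_
          have e' : x.1 * (g.1⁻¹ * t * g.1) = g.1⁻¹ * t * g.1 * x.1 := congrArg Subtype.val e
          show t * (g.1 * x.1 * g.1⁻¹) = g.1 * x.1 * g.1⁻¹ * t
          rw [show t * (g.1 * x.1 * g.1⁻¹) = g.1 * (g.1⁻¹ * t * g.1 * x.1) * g.1⁻¹ by group, ← e']; group
        have k2 : ∀ x : K, x * x = 1 → ((g * x * g⁻¹ : K) : G) * (g * x * g⁻¹ : K) = 1 := fun x e => by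
          rw [← coe_mul, show g * x * g⁻¹ * (g * x * g⁻¹) = g * (x * x) * g⁻¹ by group, e]; simp
        have k1 : ∀ x : K, x ≠ 1 → ((g * x * g⁻¹ : K) : G) ≠ 1 := fun x e e' => e (by
          simpa using (Subtype.ext e' : g * x * g⁻¹ = 1))
        have := uniq_inv hR ho (key a ha ta) (key b hb tb) (k2 a a2) (k2 b b2) (k1 a a1) (k1 b b1) (by
          rw [← coe_mul, ← coe_mul, show g * a * g⁻¹ * (g * b * g⁻¹) = g * (a * b) * g⁻¹ by group, ab]
          congr 1; group)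
        simpa using (Subtype.ext this : g * a * g⁻¹ = g * b * g⁻¹) }
  refine rank_of (hS.inf AK (hS.le.trans KN)) (mul_mem hr.1 hr.1) (congrArg Subtype.val h.zz)
    (fun e => h.z1 (Subtype.ext e)) fun s hs s2 => ?_
  exact (main h ⟨s, AK hs.2⟩ hs (Subtype.ext s2)).imp (congrArg Subtype.val) (congrArg Subtype.val)

end Cfsg.Agent.H1.Cz
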