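import Mathlib

/-! Linear algebra for the engine: dimensions of centralizers of operators. -/

namespace Cfsg.Agent.H1.Eng

open Module Polynomial

variable {k : Type*} [Field k]

section
variable {U : Type*} [AddCommGroup U] [Module k U]

/-- The common centralizer of two operators. -/
def Cz (A X : End k U) : Submodule k (End k U) where
  carrier := {f | A * f = f * A ∧ X * f = f * X}
  add_mem' := by
    rintro f g ⟨h1, h2⟩ ⟨h3, h4⟩
    exact ⟨by rw [mul_add, add_mul, h1, h3], by rw [mul_add, add_mul, h2, h4]⟩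
  zero_mem' := ⟨by simp, by simp⟩
  smul_mem' := by
    rintro c f ⟨h1, h2⟩
    exact ⟨by rw [mul_smul_comm, smul_mul_assoc, h1], by rw [mul_smul_comm, smul_mul_assoc, h2]⟩

theorem mem_Cz {A X f : End k U} : f ∈ Cz A X ↔ A * f = f * A ∧ X * f = f * X := Iff.rfl

/-- Restriction to an eigenspace. -/
def res (A X : End k U) (h : Commute A X) (μ : k) : End k (A.eigenspace μ) :=
  X.restrict (Module.End.mapsTo_genEigenspace_of_comm h μ 1)

@[simp] theorem coe_res (A X : End k U) (h : Commute A X) (μ : k) (v : A.eigenspace μ) :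
    ((res A X h μ v : A.eigenspace μ) : U) = X v := rfl

theorem card_roots_le (q : ℕ) : (nthRootsFinset q (1 : k)).card ≤ q := by
  classical
  rw [nthRootsFinset_def]
  exact (Multiset.toFinset_card_le _).trans (card_nthRoots q 1)

variable [FiniteDimensional k U] [IsAlgClosed k]

open Classical in
theorem internal (A : End k U) {q : ℕ} (hq : (q : k) ≠ 0) (hA : A ^ q = 1) :
    DirectSum.IsInternal (fun μ : nthRootsFinset q (1 : k) => A.eigenspace (μ : k)) := by
  classical
  have hq0 : 0 < q := Nat.pos_of_ne_zero (by rintro rfl; simp at hq)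
  apply DirectSum.isInternal_submodule_of_iSupIndep_of_iSup_eq_top
  · exact (Module.End.eigenspaces_iSupIndep A).comp Subtype.val_injective
  · have hs : A.IsSemisimple := by
      apply Module.End.isSemisimple_of_squarefree_aeval_eq_zero
        (separable_X_pow_sub_C (1 : k) hq one_ne_zero).squarefree
      simp [hA]
    rw [eq_top_iff, ← hs.iSup_eigenspace_eq_top]
    refine iSup_le fun μ => ?_
    by_cases hμ : μ ∈ nthRootsFinset q (1 : k)
    · exact le_iSup (fun μ : nthRootsFinset q (1 : k) => A.eigenspace (μ : k)) ⟨μ, hμ⟩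
    · intro v hv
      rw [Module.End.mem_eigenspace_iff] at hv
      have h1 : ∀ n : ℕ, (A ^ n) v = μ ^ n • v := by
        intro n
        induction n with
        | zero => simp
        | succ n ih => rw [pow_succ', Module.End.mul_apply, ih, map_smul, hv, smul_smul, pow_succ]
      have h2 := h1 q
      rw [hA, Module.End.one_apply] at h2
      have h3 : (μ ^ q - 1) • v = 0 := by rw [sub_smul, ← h2, one_smul, sub_self]
      rw [mem_nthRootsFinset hq0] at hμ
      rw [(smul_eq_zero.1 h3).resolve_left (sub_ne_zero.2 hμ)]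
      exact Submodule.zero_mem _

theorem finrank_eq_sum (A : End k U) {q : ℕ} (hq : (q : k) ≠ 0) (hA : A ^ q = 1) :
    finrank k U = ∑ μ ∈ nthRootsFinset q (1 : k), finrank k (A.eigenspace μ) := by
  classical
  have e := LinearEquiv.ofBijective (DirectSum.coeLinearMap _) (internal A hq hA)
  rw [← e.finrank_eq, Module.finrank_directSum]
  exact Finset.sum_coe_sort _ (fun μ => finrank k (A.eigenspace μ))

theorem finrank_Cz (A X : End k U) (h : Commute A X) {q : ℕ} (hq : (q : k) ≠ 0)
    (hA : A ^ q = 1) :
    finrank k (Cz A X) = ∑ μ ∈ nthRootsFinset q (1 : k), finrank k (Cz 1 (res A X h μ)) := by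
  classical
  have hint := internal A hq hA
  set R := nthRootsFinset q (1 : k)
  have hext : ∀ f g : End k U, (∀ μ : R, ∀ v ∈ A.eigenspace (μ : k), f v = g v) → f = g := by
    intro f g hfg
    ext v
    have hv : v ∈ ⨆ μ : R, A.eigenspace (μ : k) := by
      rw [hint.submodule_iSup_eq_top]; trivial
    induction hv using Submodule.iSup_induction' with
    | mem μ v hv => exact hfg μ v hv
    | zero => simp
    | add v w _ _ h1 h2 => rw [map_add, map_add, h1, h2]
  let Ψ : Cz A X →ₗ[k] (∀ μ : R, Cz 1 (res A X h μ)) :=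
    { toFun := fun f μ => ⟨res A f.1 f.2.1 μ, by simp, by
        ext v
        exact LinearMap.congr_fun f.2.2 v⟩
      map_add' := fun f g => by ext μ v; rfl
      map_smul' := fun c f => by ext μ v; rfl }
  have hinj : Function.Injective Ψ := by
    rw [injective_iff_map_eq_zero]
    intro f hf
    apply Subtype.ext
    apply hext
    intro μ v hv
    have := congrArg (fun F : (∀ μ : R, Cz 1 (res A X h μ)) => ((F μ).1 ⟨v, hv⟩ : U)) hf
    exact this
  have hsurj : Function.Surjective Ψ := by
    intro F
    let e := LinearEquiv.ofBijective (DirectSum.coeLinearMap _) hint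
    let π : ∀ μ : R, U →ₗ[k] A.eigenspace (μ : k) := fun μ =>
      DirectSum.component k R (fun μ : R => A.eigenspace (μ : k)) μ ∘ₗ e.symm.toLinearMap
    let f : End k U := ∑ μ : R, (A.eigenspace (μ : k)).subtype ∘ₗ (F μ).1 ∘ₗ π μ
    have hf : ∀ μ : R, ∀ v (hv : v ∈ A.eigenspace (μ : k)), f v = (F μ).1 ⟨v, hv⟩ := by
      intro μ v hv
      simp only [f, LinearMap.sum_apply, LinearMap.comp_apply]
      rw [Finset.sum_eq_single μ]
      · have : π μ v = ⟨v, hv⟩ := hint.ofBijective_coeLinearMap_of_mem hv
        rw [this]; rfl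
      · intro ν _ hne
        have : π ν v = 0 := hint.ofBijective_coeLinearMap_of_mem_ne hne.symm hv
        rw [this]; simp
      · simp
    refine ⟨⟨f, ?_, ?_⟩, ?_⟩
    · apply hext
      intro μ v hv
      have h1 := Module.End.mem_eigenspace_iff.1 hv
      have h2 := Module.End.mem_eigenspace_iff.1 ((F μ).1 ⟨v, hv⟩).2
      rw [Module.End.mul_apply, Module.End.mul_apply, h1, map_smul, hf μ v hv, h2]
    · apply hext
      intro μ v hv
      have h1 : X v ∈ A.eigenspace (μ : k) := Module.End.mapsTo_genEigenspace_of_comm h μ 1 hv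
      have h2 := congrArg (fun w : A.eigenspace (μ : k) => (w : U))
        (LinearMap.congr_fun (F μ).2.2 ⟨v, hv⟩)
      rw [Module.End.mul_apply, Module.End.mul_apply, hf μ v hv, hf μ _ h1]
      exact h2
    · ext μ v
      exact hf μ v.1 v.2
  rw [(LinearEquiv.ofBijective Ψ ⟨hinj, hsurj⟩).finrank_eq, Module.finrank_pi_fintype]
  exact Finset.sum_coe_sort _ (fun μ => finrank k (Cz 1 (res A X h μ)))

omit [IsAlgClosed k] in
theorem finrank_Cz_top {X : End k U} (hX : ∀ f : End k U, X * f = f * X) :
    finrank k (Cz 1 X) = finrank k U ^ 2 := by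
  have : Cz 1 X = ⊤ := by
    rw [eq_top_iff]; intro f _; exact ⟨by simp, hX f⟩
  rw [this, finrank_top, Module.finrank_linearMap, sq]

theorem finrank_Cz_one (A : End k U) {q : ℕ} (hq : (q : k) ≠ 0) (hA : A ^ q = 1) :
    finrank k (Cz A 1) = ∑ μ ∈ nthRootsFinset q (1 : k), finrank k (A.eigenspace μ) ^ 2 := by
  rw [finrank_Cz A 1 (Commute.one_right A) hq hA]
  refine Finset.sum_congr rfl fun μ _ => finrank_Cz_top fun f => ?_
  have : res A 1 (Commute.one_right A) μ = 1 := by ext v; rfl
  rw [this]; simp

omit [IsAlgClosed k] in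
theorem finrank_ker_mul_le (f g : End k U) :
    finrank k (LinearMap.ker (f * g)) ≤ finrank k (LinearMap.ker f) + finrank k (LinearMap.ker g) := by
  let φ : LinearMap.ker (f * g) →ₗ[k] LinearMap.ker f :=
    (g ∘ₗ (LinearMap.ker (f * g)).subtype).codRestrict _ (fun v => v.2)
  have h1 := φ.finrank_range_add_finrank_ker
  have h2 : finrank k (LinearMap.range φ) ≤ finrank k (LinearMap.ker f) := Submodule.finrank_le _
  have h3 : finrank k (LinearMap.ker φ) ≤ finrank k (LinearMap.ker g) := by
    let ψ : LinearMap.ker φ →ₗ[k] LinearMap.ker g :=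
      ((LinearMap.ker (f * g)).subtype ∘ₗ (LinearMap.ker φ).subtype).codRestrict _ (fun v =>
        congrArg Subtype.val (LinearMap.mem_ker.1 v.2))
    apply LinearMap.finrank_le_finrank_of_injective (f := ψ)
    intro v w hvw
    have := congrArg Subtype.val hvw
    exact Subtype.ext (Subtype.ext this)
  omega

omit [IsAlgClosed k] in
theorem finrank_le_of_nilpotent (N : End k U) {y : ℕ} (hN : N ^ y = 0) :
    finrank k U ≤ y * finrank k (LinearMap.ker N) := by
  have : ∀ j : ℕ, finrank k (LinearMap.ker (N ^ j)) ≤ j * finrank k (LinearMap.ker N) := by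
    intro j
    induction j with
    | zero => simp [Module.End.one_eq_id]
    | succ j ih =>
      rw [pow_succ]
      have := finrank_ker_mul_le (N ^ j) N
      nlinarith
  have h := this y
  rwa [hN, LinearMap.ker_zero, finrank_top] at h

/-- If `X ^ y` is a nonzero scalar then the centralizer of `X` has dimension at least `n²/y`. -/
theorem sq_le_mul_finrank_Cz (X : End k U) {y : ℕ} (hy : y.Prime) {c : k} (hc : c ≠ 0)
    (hX : X ^ y = c • 1) : finrank k U ^ 2 ≤ y * finrank k (Cz 1 X) := by
  obtain ⟨d, hd⟩ := IsAlgClosed.exists_pow_nat_eq c hy.pos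
  have hd0 : d ≠ 0 := by rintro rfl; rw [zero_pow hy.ne_zero] at hd; exact hc hd.symm
  have hX' : (d⁻¹ • X) ^ y = 1 := by
    rw [_root_.smul_pow, hX, smul_smul, inv_pow, hd, inv_mul_cancel₀ hc, one_smul]
  set X' := d⁻¹ • X with hX'def
  have hCz : Cz 1 X = Cz X' 1 := by
    ext f
    simp only [mem_Cz, one_mul, mul_one, true_and, and_true, hX'def, smul_mul_assoc,
      mul_smul_comm]
    exact ⟨fun h => by rw [h], fun h => smul_right_injective _ (inv_ne_zero hd0) h⟩
  rw [hCz]
  by_cases hyk : (y : k) = 0
  · haveI := Fact.mk hy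
    haveI : CharP k y := (CharP.charP_iff_prime_eq_zero hy).2 hyk
    let L : End k (End k U) := LinearMap.mulLeft k X'
    let Rr : End k (End k U) := LinearMap.mulRight k X'
    have hcomm : Commute L Rr := by
      ext f : 1; simp [L, Rr, mul_assoc]
    rcases subsingleton_or_nontrivial U with hU | hU
    · simp [Module.finrank_zero_of_subsingleton]
    haveI : CharP (End k (End k U)) y := charP_of_injective_algebraMap (algebraMap k _).injective y
    have hN : (L - Rr) ^ y = 0 := by
      rw [sub_pow_char_of_commute y hcomm]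
      simp only [L, Rr]
      rw [LinearMap.pow_mulLeft, LinearMap.pow_mulRight, hX']
      ext f : 1; simp
    have h := finrank_le_of_nilpotent _ hN
    have hk : LinearMap.ker (L - Rr) = Cz X' 1 := by
      ext f; simp [L, Rr, mem_Cz, sub_eq_zero]
    rwa [hk, Module.finrank_linearMap, ← sq] at h
  · rw [finrank_Cz_one X' hyk hX', finrank_eq_sum X' hyk hX']
    refine (sq_sum_le_card_mul_sum_sq).trans ?_
    exact Nat.mul_le_mul_right _ (card_roots_le y)

omit [IsAlgClosed k] in
theorem le_finrank_Cz (X : End k U) (h : finrank k U ≤ 2) : finrank k U ≤ finrank k (Cz 1 X) := by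
  by_cases hs : ∃ c : k, X = c • 1
  · obtain ⟨c, rfl⟩ := hs
    rw [finrank_Cz_top (by simp)]
    nlinarith [Nat.zero_le (finrank k U)]
  · rcases subsingleton_or_nontrivial U with hU | hU
    · simp [Module.finrank_zero_of_subsingleton]
    have hli : LinearIndependent k ![(⟨1, by simp [mem_Cz]⟩ : Cz 1 X), ⟨X, by simp [mem_Cz]⟩] := by
      rw [LinearIndependent.pair_iff]
      intro s t hst
      have h1 : s • (1 : End k U) + t • X = 0 := congrArg Subtype.val hst
      by_cases ht : t = 0
      · rw [ht, zero_smul, add_zero] at h1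
        exact ⟨(smul_eq_zero.1 h1).resolve_right one_ne_zero, ht⟩
      · exfalso
        apply hs
        refine ⟨-(t⁻¹ * s), ?_⟩
        have h2 : t • X = -(s • 1) := eq_neg_of_add_eq_zero_right h1
        rw [neg_smul, mul_smul, ← smul_neg, ← h2, smul_smul, inv_mul_cancel₀ ht, one_smul]
    have := hli.fintype_card_le_finrank
    simp at this
    omega

end

end Cfsg.Agent.H1.Eng
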