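import Cfsg.Agent.H1.Eng1

/-! Fixed spaces of monomial operators, and numerical lemmas for the engine. -/

namespace Cfsg.Agent.H1.Eng

open Module

variable {k : Type*} [Field k]

theorem basis_smul_eq {E V : Type*} [AddCommGroup E] [Module k E] (b : Basis V k E) {v w : V}
    {c d : k} (hc : c ≠ 0) (h : c • b v = d • b w) : v = w := by
  classical
  by_contra hne
  have := congrArg (fun f => b.repr f v) h
  simp [Finsupp.single_apply, Ne.symm hne] at this
  exact hc this

theorem count_fixed {E V : Type*} [AddCommGroup E] [Module k E] [Finite V] [Nontrivial V]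
    (b : Basis V k E) (φ : End k E) {q : ℕ} (hq : 0 < q) (hφ : φ ^ q = 1) (v0 : V)
    (h0 : φ (b v0) = b v0) (hb : ∀ v, ∃ w, ∃ c : k, φ (b v) = c • b w)
    (hfree : ∀ i, 0 < i → i < q → ∀ (v : V) (c : k), (φ ^ i) (b v) = c • b v → v = v0) :
    q * finrank k (LinearMap.ker (φ - 1)) + 1 = Nat.card V + q := by
  classical
  haveI := Fintype.ofFinite V
  choose σ0 c hσ using hb
  have hinj : Function.Injective φ := by
    intro v w h
    have := congrArg (φ ^ (q - 1)) h
    rwa [← Module.End.mul_apply, ← Module.End.mul_apply, ← pow_succ, Nat.sub_add_cancel hq, hφ,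
      Module.End.one_apply, Module.End.one_apply] at this
  have hc : ∀ v, c v ≠ 0 := by
    intro v h
    have h1 := hσ v
    rw [h, zero_smul] at h1
    exact b.ne_zero v (hinj (h1.trans (map_zero φ).symm))
  have hσi : Function.Injective σ0 := by
    intro v w h
    have : φ (c w • b v) = φ (c v • b w) := by
      rw [map_smul, map_smul, hσ, hσ, h, smul_smul, smul_smul, mul_comm]
    exact basis_smul_eq b (hc w) (hinj this)
  let σ : Equiv.Perm V := Equiv.ofBijective σ0 (Finite.injective_iff_bijective.1 hσi)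
  have hσ' : ∀ v, φ (b v) = c v • b (σ v) := hσ
  have hpow : ∀ (i : ℕ) v, ∃ d : k, d ≠ 0 ∧ (φ ^ i) (b v) = d • b ((σ ^ i) v) := by
    intro i v
    induction i with
    | zero => exact ⟨1, one_ne_zero, by simp⟩
    | succ i ih =>
      obtain ⟨d, hd, h⟩ := ih
      refine ⟨d * c ((σ ^ i) v), mul_ne_zero hd (hc _), ?_⟩
      rw [pow_succ', Module.End.mul_apply, h, map_smul, hσ', smul_smul, pow_succ',
        Equiv.Perm.mul_apply]
  have hfree' : ∀ i, 0 < i → i < q → ∀ v, (σ ^ i) v = v → v = v0 := by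
    intro i h1 h2 v hv
    obtain ⟨d, -, h⟩ := hpow i v
    rw [hv] at h
    exact hfree i h1 h2 v d h
  have hσq : σ ^ q = 1 := by
    ext v
    obtain ⟨d, hd, h⟩ := hpow q v
    rw [hφ, Module.End.one_apply] at h
    exact basis_smul_eq b hd (h.symm.trans (one_smul k _).symm)
  have hσ0 : σ v0 = v0 := basis_smul_eq b (hc v0) ((hσ' v0).symm.trans (h0.trans (one_smul k _).symm))
  have hord : orderOf σ = q := by
    rw [orderOf_eq_iff hq]
    refine ⟨hσq, fun m hm hm0 h => ?_⟩
    obtain ⟨v, hv⟩ := exists_ne v0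
    exact hv (hfree' m hm0 hm v (by rw [h]; rfl))
  let C := Subgroup.zpowers σ
  have hC : ∀ g : C, ∃ i < q, (g : Equiv.Perm V) = σ ^ i := by
    intro g
    have h := (isOfFinOrder_of_finite σ).mem_zpowers_iff_mem_range_orderOf.1 g.2
    obtain ⟨i, hi, h⟩ := Finset.mem_image.1 h
    exact ⟨i, hord ▸ Finset.mem_range.1 hi, h.symm⟩
  let Ω := MulAction.orbitRel.Quotient C V
  haveI : Fintype Ω := Fintype.ofFinite Ω
  have hB := MulAction.sum_card_fixedBy_eq_card_orbits_mul_card_group C V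
  have hCq : Fintype.card C = q := by
    rw [← Nat.card_eq_fintype_card, Nat.card_zpowers, hord]
  have hsum : (∑ g : C, Fintype.card (MulAction.fixedBy V g)) + 1 = Nat.card V + q := by
    rw [← Finset.add_sum_erase _ _ (Finset.mem_univ (1 : C))]
    have h1 : Fintype.card (MulAction.fixedBy V (1 : C)) = Nat.card V := by
      rw [← Nat.card_eq_fintype_card, MulAction.fixedBy_one_eq_univ]; simp
    have h2 : ∀ g ∈ Finset.univ.erase (1 : C), Fintype.card (MulAction.fixedBy V g) = 1 := by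
      intro g hg
      obtain ⟨i, hi, hgi⟩ := hC g
      have hi0 : 0 < i := by
        rcases Nat.eq_zero_or_pos i with rfl | h
        · exact absurd (Subtype.ext hgi) (Finset.ne_of_mem_erase hg)
        · exact h
      rw [Fintype.card_eq_one_iff]
      refine ⟨⟨v0, ?_⟩, fun v => Subtype.ext (hfree' i hi0 hi _ ?_)⟩
      · show (g : Equiv.Perm V) v0 = v0
        rw [hgi]; exact Equiv.Perm.pow_apply_eq_self_of_apply_eq_self hσ0 i
      · rw [← hgi]; exact v.2
    rw [h1, Finset.sum_congr rfl h2, Finset.sum_const, Finset.card_erase_of_mem (Finset.mem_univ _),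
      Finset.card_univ, hCq, smul_eq_mul]
    omega
  have hdim : finrank k (LinearMap.ker (φ - 1)) = Fintype.card Ω := by
    let Φ : LinearMap.ker (φ - 1) →ₗ[k] (Ω → k) :=
      LinearMap.pi fun ω => b.coord (Quotient.out ω) ∘ₗ (LinearMap.ker (φ - 1)).subtype
    have hfix : ∀ f : LinearMap.ker (φ - 1), φ f = f := fun f => by
      have := LinearMap.mem_ker.1 f.2
      rwa [LinearMap.sub_apply, Module.End.one_apply, sub_eq_zero] at this
    have hi : Function.Injective Φ := by
      rw [injective_iff_map_eq_zero]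
      intro f hf
      have h1 : ∀ v, b.repr f (σ v) = b.repr f v * c v := by
        intro v
        conv_lhs => rw [← hfix f, ← b.sum_repr f]
        simp only [map_sum, map_smul, hσ', Basis.repr_self, Finsupp.coe_finset_sum,
          Finset.sum_apply, Finsupp.smul_apply, Finsupp.single_apply, smul_eq_mul,
          EmbeddingLike.apply_eq_iff_eq]
        rw [Finset.sum_eq_single v] <;> simp +contextual
      have h2 : ∀ (i : ℕ) v, b.repr f v = 0 → b.repr f ((σ ^ i) v) = 0 := by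
        intro i v hv
        induction i with
        | zero => simpa using hv
        | succ i ih => rw [pow_succ', Equiv.Perm.mul_apply, h1, ih, zero_mul]
      apply Subtype.ext
      apply b.repr.injective
      ext v
      have h3 : v ∈ MulAction.orbit C (Quotient.out (Quotient.mk'' v : Ω)) :=
        MulAction.orbitRel_apply.1 (Quotient.exact (Quotient.out_eq' (Quotient.mk'' v : Ω)).symm)
      obtain ⟨g, hg⟩ := h3
      obtain ⟨i, -, hgi⟩ := hC g
      have h4 : (σ ^ i) (Quotient.out (Quotient.mk'' v : Ω)) = v := by rw [← hgi]; exact hg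
      rw [← h4, h2 i _ (congrFun hf _)]
      simp
    have hs : Function.Surjective Φ := by
      rw [← LinearMap.range_eq_top, eq_top_iff, ← (Pi.basisFun k Ω).span_eq, Submodule.span_le]
      rintro _ ⟨ω, rfl⟩
      have hne : ∀ (i : ℕ) (ω' : Ω), ω' ≠ ω → (σ ^ i) (Quotient.out ω) ≠ Quotient.out ω' := by
        intro i ω' h1 h2
        apply h1
        rw [← Quotient.out_eq' ω', ← Quotient.out_eq' ω]
        apply Quotient.sound'
        exact MulAction.orbitRel_apply.2 ⟨⟨σ ^ i, Subgroup.npow_mem_zpowers σ i⟩, h2⟩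
      by_cases hω : Quotient.out ω = v0
      · refine ⟨⟨b v0, by simp [h0]⟩, ?_⟩
        ext ω'
        by_cases h : ω' = ω
        · subst h; simp [Φ, hω]
        · have := hne 0 ω' h
          rw [pow_zero, hω] at this
          simp [Φ, Pi.single_apply, h, Finsupp.single_apply]
          exact this
      · refine ⟨⟨∑ i ∈ Finset.range q, (φ ^ i) (b (Quotient.out ω)), ?_⟩, ?_⟩
        · rw [LinearMap.mem_ker, ← LinearMap.sum_apply, ← Module.End.mul_apply,
            mul_geom_sum, hφ, sub_self, LinearMap.zero_apply]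
        · ext ω'
          simp only [Φ, LinearMap.pi_apply, LinearMap.comp_apply, Submodule.subtype_apply,
            map_sum, Basis.coord_apply, Pi.basisFun_apply]
          by_cases h : ω' = ω
          · subst h
            rw [Finset.sum_eq_single 0]
            · simp
            · intro i hi hi0
              obtain ⟨d, -, hd⟩ := hpow i (Quotient.out ω')
              have : (σ ^ i) (Quotient.out ω') ≠ Quotient.out ω' := fun h =>
                hω (hfree' i (Nat.pos_of_ne_zero hi0) (Finset.mem_range.1 hi) _ h)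
              simp [hd, Finsupp.single_apply, this]
            · intro h; exact absurd (Finset.mem_range.2 hq) h
          · rw [Pi.single_eq_of_ne h]
            refine Finset.sum_eq_zero fun i _ => ?_
            obtain ⟨d, -, hd⟩ := hpow i (Quotient.out ω)
            simp [hd, Finsupp.single_apply, hne i ω' h]
    rw [(LinearEquiv.ofBijective Φ ⟨hi, hs⟩).finrank_eq, Module.finrank_fintype_fun_eq_card]
  rw [hdim, ← hsum, hB, hCq, mul_comm]

section numerics
variable {ι : Type*} {R : Finset ι} {o : ι} {m c : ι → ℕ} {n r y : ℕ}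

theorem num_zero (ho : o ∈ R) (hR : R.card ≤ r) (hn : n = ∑ i ∈ R, m i)
    (h1 : r * ∑ i ∈ R, m i ^ 2 + 1 = n ^ 2 + r) (hn2 : 2 ≤ n) (h0 : m o = 0) :
    n + 1 = r ∧ ∑ i ∈ R, m i ^ 2 = n := by
  classical
  have hcs : (∑ i ∈ R.erase o, m i) ^ 2 ≤ (R.erase o).card * ∑ i ∈ R.erase o, m i ^ 2 :=
    sq_sum_le_card_mul_sum_sq
  have e1 : ∑ i ∈ R.erase o, m i = n := by
    rw [hn, ← Finset.add_sum_erase _ _ ho, h0, zero_add]
  have e2 : ∑ i ∈ R.erase o, m i ^ 2 = ∑ i ∈ R, m i ^ 2 := by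
    rw [← Finset.add_sum_erase _ _ ho, h0]; simp
  have e3 : n ≤ ∑ i ∈ R, m i ^ 2 := by
    rw [hn]; exact Finset.sum_le_sum fun i _ => by nlinarith [Nat.zero_le (m i)]
  rw [e1, e2, Finset.card_erase_of_mem ho] at hcs
  set S := ∑ i ∈ R, m i ^ 2
  have hpos : 0 < R.card := Finset.card_pos.2 ⟨o, ho⟩
  obtain ⟨r', rfl⟩ : ∃ r', r = r' + 1 := ⟨r - 1, by omega⟩
  have hcs' : n ^ 2 ≤ r' * S := hcs.trans (Nat.mul_le_mul_right _ (by omega))
  have a1 : S ≤ r' := by nlinarith
  have a2 : n ≤ r' := by nlinarith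
  have a3 : r' ≤ n := by
    obtain ⟨n', rfl⟩ : ∃ n', n = n' + 2 := ⟨n - 2, by omega⟩
    by_contra hlt
    push Not at hlt
    nlinarith
  have : r' = n := le_antisymm a3 a2
  subst this
  exact ⟨rfl, le_antisymm a1 e3⟩

theorem num_main (ho : o ∈ R) (hR : R.card ≤ r) (hn : n = ∑ i ∈ R, m i)
    (h1 : r * ∑ i ∈ R, m i ^ 2 + 1 = n ^ 2 + r) (hn2 : 2 ≤ n) (hy : y.Prime)
    (h2 : r * y * ∑ i ∈ R, c i + 1 ≤ n ^ 2 + r * y) (h3 : ∀ i, m i ^ 2 ≤ y * c i)
    (h4 : ∀ i, m i ≤ 2 → m i ≤ c i) (h0 : c o = m o ^ 2) : y = 2 ∧ n + 1 = 2 * r := by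
  classical
  have hy2 := hy.two_le
  have hpos : 0 < R.card := Finset.card_pos.2 ⟨o, ho⟩
  have hr : 0 < r := by omega
  -- y Σ c + 1 ≤ Σ m² + y
  have h5 : y * ∑ i ∈ R, c i + 1 ≤ ∑ i ∈ R, m i ^ 2 + y := by
    apply Nat.le_of_mul_le_mul_left _ hr
    nlinarith
  have h6 : ∑ i ∈ R.erase o, m i ^ 2 ≤ ∑ i ∈ R.erase o, y * c i :=
    Finset.sum_le_sum fun i _ => h3 i
  have h7 : y * ∑ i ∈ R, c i = y * m o ^ 2 + ∑ i ∈ R.erase o, y * c i := by
    rw [← Finset.add_sum_erase _ _ ho, mul_add, h0, Finset.mul_sum]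
  have h8 : ∑ i ∈ R, m i ^ 2 = m o ^ 2 + ∑ i ∈ R.erase o, m i ^ 2 :=
    (Finset.add_sum_erase _ (fun i => m i ^ 2) ho).symm
  have h9 : m o ≤ 1 := by
    by_contra hlt
    push Not at hlt
    have : 4 ≤ m o ^ 2 := by nlinarith
    obtain ⟨y', rfl⟩ : ∃ y', y = y' + 2 := ⟨y - 2, by omega⟩
    nlinarith
  rcases Nat.le_one_iff_eq_zero_or_eq_one.1 h9 with h | h
  · exfalso
    obtain ⟨a1, a2⟩ := num_zero ho hR hn h1 hn2 h
    have a3 : ∀ i ∈ R, m i ^ 2 = m i := by
      have := (Finset.sum_eq_sum_iff_of_le (s := R) (f := m) (g := fun i => m i ^ 2)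
        (fun i _ => by nlinarith [Nat.zero_le (m i)])).1 (by rw [a2, hn])
      exact fun i hi => (this i hi).symm
    have a4 : n ≤ ∑ i ∈ R, c i := by
      rw [hn]
      refine Finset.sum_le_sum fun i hi => h4 i ?_
      have := a3 i hi
      nlinarith
    rw [a2] at h5
    nlinarith
  · rw [h] at h7 h8
    have a1 : ∑ i ∈ R.erase o, m i ^ 2 = ∑ i ∈ R.erase o, y * c i := by omega
    have a2 := (Finset.sum_eq_sum_iff_of_le (fun i _ => h3 i)).1 a1
    have a3 : ∑ i ∈ R.erase o, y * m i ≤ ∑ i ∈ R.erase o, m i ^ 2 := by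
      refine Finset.sum_le_sum fun i hi => ?_
      have : y ∣ m i := hy.dvd_of_dvd_pow ⟨_, a2 i hi⟩
      rcases Nat.eq_zero_or_pos (m i) with h | h
      · simp [h]
      · rw [sq]; exact Nat.mul_le_mul_right _ (Nat.le_of_dvd h this)
    rw [← Finset.mul_sum] at a3
    have hcs : (∑ i ∈ R.erase o, m i) ^ 2 ≤ (R.erase o).card * ∑ i ∈ R.erase o, m i ^ 2 :=
      sq_sum_le_card_mul_sum_sq
    have e1 : n = 1 + ∑ i ∈ R.erase o, m i := by
      rw [hn, ← Finset.add_sum_erase _ _ ho, h]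
    rw [Finset.card_erase_of_mem ho] at hcs
    rw [h8] at h1
    set S := ∑ i ∈ R.erase o, m i ^ 2
    set N := ∑ i ∈ R.erase o, m i
    obtain ⟨r', rfl⟩ : ∃ r', r = r' + 1 := ⟨r - 1, by omega⟩
    have hcs' : N ^ 2 ≤ r' * S := hcs.trans (Nat.mul_le_mul_right _ (by omega))
    subst e1
    have hN : 0 < N := by omega
    have b0 : (r' + 1) * S = N * (N + 2) := by nlinarith
    have b1 : N ≤ 2 * r' := by
      have : N * N ≤ N * (2 * r') := by nlinarith
      exact Nat.le_of_mul_le_mul_left this hN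
    have b2 : (r' + 1) * y ≤ N + 2 := by
      have : N * ((r' + 1) * y) ≤ N * (N + 2) := by nlinarith
      exact Nat.le_of_mul_le_mul_left this hN
    have b3 : y = 2 := by nlinarith
    subst b3
    exact ⟨rfl, by omega⟩

theorem num_last (hR : R.card ≤ r) (hn : n = ∑ i ∈ R, m i)
    (h1 : r * ∑ i ∈ R, m i ^ 2 + 1 = n ^ 2 + r) (hr : 2 ≤ r) (hy : 3 ≤ y)
    (h2 : r * y * ∑ i ∈ R, c i + 1 ≤ n ^ 2 + r * y)
    (h4 : ∀ i, m i ≤ 2 → m i ≤ c i) (hnr : n + 1 = 2 * r) : False := by
  have a1 : ∑ i ∈ R, m i ^ 2 + 3 = 4 * r := by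
    apply Nat.eq_of_mul_eq_mul_left (show 0 < r by omega)
    nlinarith
  have a2 : ∑ i ∈ R, (m i ^ 2 + 2) ≤ ∑ i ∈ R, 3 * m i := by
    rw [Finset.sum_add_distrib, ← Finset.mul_sum, ← hn, Finset.sum_const, smul_eq_mul]
    omega
  have a3 : ∀ i, 3 * m i ≤ m i ^ 2 + 2 := by
    intro i
    rcases Nat.lt_or_ge (m i) 2 with h | h
    · interval_cases (m i) <;> norm_num
    · nlinarith
  have a4 := (Finset.sum_eq_sum_iff_of_le (s := R) (fun i _ => a3 i)).1
    (le_antisymm (Finset.sum_le_sum fun i _ => a3 i) a2)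
  have a5 : n ≤ ∑ i ∈ R, c i := by
    rw [hn]
    refine Finset.sum_le_sum fun i hi => h4 i ?_
    have := a4 i hi
    nlinarith
  obtain ⟨r', rfl⟩ : ∃ r', r = r' + 2 := ⟨r - 2, by omega⟩
  obtain ⟨y', rfl⟩ : ∃ y', y = y' + 3 := ⟨y - 3, by omega⟩
  have : n = 2 * r' + 3 := by omega
  subst this
  have := Nat.mul_le_mul_left ((r' + 2) * (y' + 3)) a5
  nlinarith [Nat.zero_le (r' * r' * y'), Nat.zero_le (r' * y')]

end numerics

end Cfsg.Agent.H1.Eng
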