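import Cfsg.Agent.H1.Eng2

/-! The core count for a nondegenerate class two group acting with normalizing operators. -/

namespace Cfsg.Agent.H1.Eng

open Module Polynomial
open scoped commutatorElement

universe w

variable {k : Type*} [Field k]

theorem eig_pow {E : Type*} [AddCommGroup E] [Module k E] {φ : End k E} {e : E} {c : k}
    (h : φ e = c • e) (j : ℕ) : (φ ^ j) e = c ^ j • e := by
  induction j with
  | zero => simp
  | succ j ih => rw [pow_succ', Module.End.mul_apply, ih, map_smul, h, smul_smul, pow_succ]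

theorem eig_of_pow {E : Type*} [AddCommGroup E] [Module k E] {φ : End k E} {e : E} {c : k}
    {r i : ℕ} (hr : r.Prime) (hφ : φ ^ r = 1) (hi : ¬ r ∣ i) (h : (φ ^ i) e = c • e) :
    ∃ d : k, φ e = d • e := by
  obtain ⟨j, -, hj⟩ := Nat.exists_mul_mod_eq_one_of_coprime
    ((Nat.Prime.coprime_iff_not_dvd hr).2 hi).symm hr.one_lt
  refine ⟨c ^ j, ?_⟩
  rw [← eig_pow h j, ← pow_mul, pow_eq_pow_mod _ hφ, hj, pow_one]

theorem eig_or {E : Type*} [AddCommGroup E] [Module k E] {φ ψ : End k E} {e : E} {c : k}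
    {r y i : ℕ} (hr : r.Prime) (hy : y.Prime) (hry : y ≠ r) (hc : Commute φ ψ) (hφ : φ ^ r = 1)
    (hψ : ψ ^ y = 1) (h0 : 0 < i) (h1 : i < r * y) (h : ((φ * ψ) ^ i) e = c • e) :
    (∃ d : k, φ e = d • e) ∨ ∃ d : k, ψ e = d • e := by
  by_cases hri : r ∣ i
  · right
    have hyi : ¬ y ∣ i := fun hyi => absurd (Nat.le_of_dvd h0
      (((Nat.coprime_primes hr hy).2 hry.symm).mul_dvd_of_dvd_of_dvd hri hyi)) (by omega)
    have h2 := eig_pow h r
    rw [← pow_mul, hc.mul_pow, pow_mul' φ, hφ, one_pow, one_mul] at h2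
    refine eig_of_pow hy hψ ?_ h2
    intro h3
    rcases (Nat.Prime.dvd_mul hy).1 h3 with h4 | h4
    · exact hyi h4
    · exact hry ((Nat.prime_dvd_prime_iff_eq hy hr).1 h4)
  · left
    have h2 := eig_pow h y
    rw [← pow_mul, hc.mul_pow, pow_mul' ψ, hψ, one_pow, mul_one] at h2
    refine eig_of_pow hr hφ ?_ h2
    intro h3
    rcases (Nat.Prime.dvd_mul hr).1 h3 with h4 | h4
    · exact hri h4
    · exact hry ((Nat.prime_dvd_prime_iff_eq hr hy).1 h4).symm

section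
variable {W : Type*} [AddCommGroup W] [Module k W]

/-- Conjugation by a unit. -/
def Ad : (End k W)ˣ →* End k (End k W) where
  toFun u := LinearMap.mulLeftRight k ((u : End k W), ((u⁻¹ : (End k W)ˣ) : End k W))
  map_one' := by ext f : 1; simp
  map_mul' u v := by ext f : 1; simp [mul_assoc]

theorem Ad_apply (u : (End k W)ˣ) (f : End k W) :
    Ad u f = (u : End k W) * f * ((u⁻¹ : (End k W)ˣ) : End k W) := by
  simp [Ad]

theorem Ad_eq_iff (u : (End k W)ˣ) (f g : End k W) : Ad u f = g ↔ u * f = g * u := by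
  rw [Ad_apply, Units.mul_inv_eq_iff_eq_mul]

theorem schur [FiniteDimensional k W] [IsAlgClosed k] [Nontrivial W] (S : Set (End k W))
    (hirr : ∀ U : Submodule k W, (∀ g ∈ S, ∀ v ∈ U, g v ∈ U) → U = ⊥ ∨ U = ⊤) {f : End k W}
    (hf : ∀ g ∈ S, f * g = g * f) : ∃ c : k, f = c • 1 := by
  obtain ⟨c, hc⟩ := Module.End.exists_eigenvalue f
  refine ⟨c, ?_⟩
  have := (hirr (f.eigenspace c) (fun g hg v hv =>
    Module.End.mapsTo_genEigenspace_of_comm (hf g hg) c 1 hv)).resolve_left hc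
  ext v
  exact Module.End.mem_eigenspace_iff.1 (this ▸ Submodule.mem_top : v ∈ f.eigenspace c)

variable {T : Type*} [Group T]

/-- Nondegenerate class two data. -/
structure Hyp (ρ : T →* End k W) (Z : Subgroup T) : Prop where
  card : (Nat.card T : k) ≠ 0
  sc : ∀ z ∈ Z, ∃ c : k, ρ z = c • 1
  comm : ∀ s t : T, ⁅s, t⁆ ∈ Z
  nd : ∀ t, (∀ s, ρ ⁅t, s⁆ = 1) → t ∈ Z

variable {ρ : T →* End k W} {Z : Subgroup T}

theorem rho_mul_inv (ρ : T →* End k W) (t : T) : ρ t * ρ t⁻¹ = 1 := by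
  rw [← map_mul, mul_inv_cancel, map_one]

theorem conj_of_scalar {w : T} {c : k} (h : ρ w = c • 1) (s : T) : ρ (s * w * s⁻¹) = ρ w := by
  rw [map_mul, map_mul, h, mul_smul_comm, mul_one, smul_mul_assoc, rho_mul_inv]

theorem Hyp.mem_of_scalar (H : Hyp ρ Z) {w : T} {c : k} (h : ρ w = c • 1) : w ∈ Z := by
  apply H.nd
  intro s
  have h1 : ⁅w, s⁆ = w * (s * w * s⁻¹)⁻¹ := by group
  have h2 := conj_of_scalar h s
  rw [h1, map_mul, ← h2, rho_mul_inv]

theorem Hyp.sum_conj_zero [Fintype T] (H : Hyp ρ Z) {w : T} (hw : w ∉ Z) :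
    ∑ s : T, ρ (s * w * s⁻¹) = 0 := by
  have : ∃ s, ρ ⁅w, s⁆ ≠ 1 := by
    by_contra h; push Not at h; exact hw (H.nd w h)
  obtain ⟨s0, hs0⟩ := this
  obtain ⟨c, hc⟩ := H.sc _ (H.comm s0 w)
  have hc1 : c ≠ 1 := by
    rintro rfl
    apply hs0
    have := rho_mul_inv ρ ⁅s0, w⁆
    rwa [hc, one_smul, one_mul, commutatorElement_inv] at this
  have h1 : ∑ s : T, ρ (s * w * s⁻¹) = c • ∑ s : T, ρ (s * w * s⁻¹) := by
    conv_lhs => rw [← Equiv.sum_comp (Equiv.mulRight s0)]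
    rw [Finset.smul_sum]
    refine Finset.sum_congr rfl fun s _ => ?_
    have : (Equiv.mulRight s0) s * w * ((Equiv.mulRight s0) s)⁻¹ = s * ⁅s0, w⁆ * (w * s⁻¹) := by
      simp only [Equiv.coe_mulRight]; group
    rw [this, map_mul, map_mul, hc, mul_smul_comm, mul_one, smul_mul_assoc, ← map_mul, mul_assoc]
  have h2 : (1 - c) • ∑ s : T, ρ (s * w * s⁻¹) = 0 := by rw [sub_smul, one_smul, ← h1, sub_self]
  exact (smul_eq_zero.1 h2).resolve_left (sub_ne_zero.2 hc1.symm)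

theorem Hyp.sum_conj_mem [Fintype T] (H : Hyp ρ Z) {w : T} (hw : w ∈ Z) :
    ∑ s : T, ρ (s * w * s⁻¹) = (Nat.card T : k) • ρ w := by
  obtain ⟨c, hc⟩ := H.sc w hw
  simp only [conj_of_scalar hc]
  rw [Finset.sum_const, Finset.card_univ, Nat.card_eq_fintype_card, Nat.cast_smul_eq_nsmul]

open Classical in
theorem Hyp.sum_conj [Fintype T] (H : Hyp ρ Z) (w : T) :
    ∑ s : T, ρ (s * w * s⁻¹) = if w ∈ Z then (Nat.card T : k) • ρ w else 0 := by
  split_ifs with h
  · exact H.sum_conj_mem h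
  · exact H.sum_conj_zero h

theorem Hyp.cardZ [Finite T] (H : Hyp ρ Z) : (Nat.card Z : k) ≠ 0 := by
  intro h
  apply H.card
  rw [← Z.card_mul_index, Nat.cast_mul, h, zero_mul]

theorem Hyp.out_eq (H : Hyp ρ Z) (t : T) :
    ∃ c : k, ρ t = c • ρ (Quotient.out (t : T ⧸ Z)) := by
  obtain ⟨z, hz⟩ := QuotientGroup.mk_out_eq_mul Z t
  obtain ⟨c, hc⟩ := H.sc _ (Z.inv_mem z.2)
  refine ⟨c, ?_⟩
  rw [hz, ← mul_one (ρ (t * z)), ← mul_smul_comm, ← hc, ← map_mul]
  simp

theorem Hyp.indep [Finite T] [Nontrivial W] (H : Hyp ρ Z) :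
    LinearIndependent k (fun v : T ⧸ Z => ρ (Quotient.out v)) := by
  classical
  haveI := Fintype.ofFinite T
  haveI := Fintype.ofFinite (T ⧸ Z)
  rw [Fintype.linearIndependent_iff]
  intro g hg w
  have h1 : ∑ s : T, ρ s * ρ (Quotient.out w)⁻¹ * (∑ v, g v • ρ (Quotient.out v)) * ρ s⁻¹ = 0 := by
    simp [hg]
  simp only [Finset.mul_sum, Finset.sum_mul, mul_smul_comm, smul_mul_assoc, ← map_mul] at h1
  rw [Finset.sum_comm] at h1
  simp only [← Finset.smul_sum, mul_assoc _ (Quotient.out w)⁻¹, H.sum_conj] at h1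
  rw [Finset.sum_eq_single w] at h1
  · have hc := H.card
    rw [Nat.card_eq_fintype_card] at hc
    simpa [Z.one_mem, hc] using h1
  · intro v _ hv
    rw [if_neg, smul_zero]
    intro h
    apply hv
    rw [← QuotientGroup.out_eq' v, ← QuotientGroup.out_eq' w]
    exact (QuotientGroup.eq.2 h).symm
  · simp

theorem Hyp.span [Finite T] [FiniteDimensional k W] [IsAlgClosed k] [Nontrivial W] (H : Hyp ρ Z)
    (hirr : ∀ U : Submodule k W, (∀ t, ∀ v ∈ U, ρ t v ∈ U) → U = ⊥ ∨ U = ⊤) :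
    ⊤ ≤ Submodule.span k (Set.range fun v : T ⧸ Z => ρ (Quotient.out v)) := by
  classical
  haveI := Fintype.ofFinite T
  intro f _
  have hE : ∀ g : End k W, ∃ c : k, ∑ s : T, ρ s * g * ρ s⁻¹ = c • 1 := by
    intro g
    apply schur (Set.range ρ) (fun U hU => hirr U fun t => hU _ ⟨t, rfl⟩)
    rintro _ ⟨t, rfl⟩
    rw [Finset.sum_mul, Finset.mul_sum, ← Equiv.sum_comp (Equiv.mulLeft t)]
    refine Finset.sum_congr rfl fun s _ => ?_
    simp only [Equiv.coe_mulLeft, map_mul, mul_inv_rev, mul_assoc]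
    rw [← map_mul ρ t⁻¹, inv_mul_cancel, map_one, mul_one]
  have h1 : ∑ t : T, ρ t * ∑ s : T, ρ s * (ρ t⁻¹ * f) * ρ s⁻¹ =
      ((Nat.card Z : k) * Nat.card T) • f := by
    simp only [Finset.mul_sum]
    rw [Finset.sum_comm]
    have : ∀ s : T, ∑ t : T, ρ t * (ρ s * (ρ t⁻¹ * f) * ρ s⁻¹) =
        if s ∈ Z then (Nat.card T : k) • f else 0 := by
      intro s
      have : ∑ t : T, ρ t * (ρ s * (ρ t⁻¹ * f) * ρ s⁻¹) = (∑ t : T, ρ (t * s * t⁻¹)) * f * ρ s⁻¹ := by
        simp only [Finset.sum_mul, map_mul, mul_assoc]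
      rw [this, H.sum_conj]
      split_ifs with hs
      · obtain ⟨c, hc⟩ := H.sc s hs
        have h2 := rho_mul_inv ρ s
        rw [smul_mul_assoc, smul_mul_assoc, hc, smul_mul_assoc, one_mul, smul_mul_assoc,
          ← mul_smul_comm]
        rw [hc, smul_mul_assoc, one_mul] at h2
        rw [h2, mul_one]
      · simp
    simp only [this]
    rw [← Finset.sum_filter, Finset.sum_const, mul_smul, Nat.cast_smul_eq_nsmul k (Nat.card Z)]
    congr 1
    rw [Nat.card_eq_fintype_card, Fintype.card_subtype]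
  have h2 : f = ((Nat.card Z : k) * Nat.card T)⁻¹ • ∑ t : T, ρ t * ∑ s : T, ρ s * (ρ t⁻¹ * f) * ρ s⁻¹ := by
    rw [h1, smul_smul, inv_mul_cancel₀ (mul_ne_zero H.cardZ H.card), one_smul]
  rw [h2]
  refine Submodule.smul_mem _ _ (Submodule.sum_mem _ fun t _ => ?_)
  obtain ⟨c, hc⟩ := hE (ρ t⁻¹ * f)
  obtain ⟨d, hd⟩ := H.out_eq t
  rw [hc, mul_smul_comm, mul_one, hd]
  exact Submodule.smul_mem _ _ (Submodule.smul_mem _ _ (Submodule.subset_span ⟨_, rfl⟩))

theorem sum_conj_comm [Fintype T] (A B : End k W) (hAB : B * A = A * B) {β : T →* T}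
    (hβ : Function.Injective β) (h : ∀ t, B * ρ t = ρ (β t) * B) :
    (∑ t : T, ρ t * A * ρ t⁻¹) * B = B * ∑ t : T, ρ t * A * ρ t⁻¹ := by
  rw [Finset.sum_mul, Finset.mul_sum,
    ← Equiv.sum_comp (Equiv.ofBijective β (Finite.injective_iff_bijective.1 hβ))]
  refine Finset.sum_congr rfl fun t _ => ?_
  rw [Equiv.ofBijective_apply, ← mul_assoc, ← mul_assoc, h, mul_assoc _ B A, hAB, ← map_inv,
    mul_assoc, ← h]
  simp only [mul_assoc]

theorem Hyp.inv_of_fpf [Fintype T] [Nontrivial W] (H : Hyp ρ Z) {A : End k W} {N : ℕ} (hN : 0 < N)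
    (hAN : A ^ N = 1) {α : T →* T} (hα : ∀ t, A * ρ t = ρ (α t) * A)
    (hf : ∀ t, α t * t⁻¹ ∈ Z → t ∈ Z) {c : k} (he : ∑ t : T, ρ t * A * ρ t⁻¹ = c • 1)
    (U : Submodule k W) (hU : ∀ t, ∀ v ∈ U, ρ t v ∈ U) : ∀ v ∈ U, A v ∈ U := by
  classical
  have hA1 : A * A ^ (N - 1) = 1 := by rw [← pow_succ', Nat.sub_add_cancel hN, hAN]
  let u : End k W := ∑ t : T, ρ (t * (α t)⁻¹)
  have h1 : u * A = c • 1 := by
    rw [← he, Finset.sum_mul]
    refine Finset.sum_congr rfl fun t _ => ?_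
    rw [mul_assoc, hα, map_mul, map_inv α, mul_assoc]
  have hu : u ≠ 0 := by
    intro h0
    have h2 : ∑ s : T, ρ s * u * ρ s⁻¹ = 0 := by simp [h0]
    simp only [u, Finset.mul_sum, Finset.sum_mul, ← map_mul] at h2
    rw [Finset.sum_comm] at h2
    simp only [H.sum_conj] at h2
    have h3 : ∀ t : T, (if t * (α t)⁻¹ ∈ Z then (Nat.card T : k) • ρ (t * (α t)⁻¹) else 0) =
        if t ∈ Z then (Nat.card T : k) • (1 : End k W) else 0 := by
      intro t
      by_cases ht : t ∈ Z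
      · obtain ⟨d, hd⟩ := H.sc t ht
        have h4 : ρ (α t) = ρ t := by
          have := congrArg (· * A ^ (N - 1)) (hα t)
          simp only [mul_assoc, hA1, mul_one] at this
          rw [← this, hd, smul_mul_assoc, one_mul, mul_smul_comm, hA1]
        have h5 : ρ (t * (α t)⁻¹) = 1 := by rw [map_mul, ← h4, rho_mul_inv]
        rw [if_pos ht, if_pos (H.mem_of_scalar (h5.trans (one_smul k _).symm)), h5]
      · rw [if_neg ht, if_neg]
        intro h
        exact ht (hf t (by simpa using Z.inv_mem h))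
    simp only [h3] at h2
    rw [← Finset.sum_filter, Finset.sum_const, ← Fintype.card_subtype,
      ← Nat.card_eq_fintype_card, ← Nat.cast_smul_eq_nsmul k, smul_smul] at h2
    exact mul_ne_zero H.cardZ H.card ((smul_eq_zero.1 h2).resolve_right one_ne_zero)
  have h2 : u = c • A ^ (N - 1) := by
    rw [← mul_one u, ← hA1, ← mul_assoc, h1, smul_mul_assoc, one_mul]
  have hc : c ≠ 0 := by rintro rfl; exact hu (by rw [h2, zero_smul])
  have h3 : ∀ v ∈ U, (A ^ (N - 1)) v ∈ U := by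
    intro v hv
    have : u v ∈ U := by
      simp only [u, LinearMap.sum_apply]
      exact U.sum_mem fun t _ => hU _ v hv
    rw [h2, LinearMap.smul_apply] at this
    exact (U.smul_mem_iff hc).1 this
  have h4 : ∀ j : ℕ, ∀ v ∈ U, ((A ^ (N - 1)) ^ j) v ∈ U := by
    intro j
    induction j with
    | zero => simp
    | succ j ih => intro v hv; rw [pow_succ', Module.End.mul_apply]; exact h3 _ (ih v hv)
  have h5 : (A ^ (N - 1)) ^ (N - 1) * A ^ N = A * (A ^ N) ^ (N - 1) * A ^ N ∨ N = 1 := by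
    rcases Nat.lt_or_ge 1 N with h | h
    · left
      obtain ⟨M, rfl⟩ : ∃ M, N = M + 2 := ⟨N - 2, by omega⟩
      have e : (A ^ (M + 2 - 1)) ^ (M + 2 - 1) = A * (A ^ (M + 2)) ^ M := by
        rw [← pow_mul, ← pow_mul, ← pow_succ']; congr 1
        simp only [Nat.add_one_sub_one]; ring
      rw [e, hAN]; simp
    · right; omega
  rcases h5 with h5 | rfl
  · rw [hAN, one_pow, mul_one, mul_one, mul_one] at h5
    intro v hv
    rw [← h5]; exact h4 _ v hv
  · rw [pow_one] at hAN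
    intro v hv; rw [hAN]; exact hv

end

end Cfsg.Agent.H1.Eng
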