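import Cfsg.Agent.H1.Eng3

/-! The core count, by passing to an irreducible constituent. -/

namespace Cfsg.Agent.H1.Eng

open Module Polynomial
open scoped commutatorElement

universe w

variable {k : Type*} [Field k]

/-- The numerical output of the core count. -/
def Out (k : Type*) [Field k] (r y N : ℕ) (P Q S : Prop) : Prop :=
  ∃ (n : ℕ) (R : Finset k) (m c : k → ℕ), 1 ∈ R ∧ R.card ≤ r ∧ n = ∑ i ∈ R, m i ∧ n ^ 2 = N ∧
    r * ∑ i ∈ R, m i ^ 2 + 1 = n ^ 2 + r ∧ (P → r * y * ∑ i ∈ R, c i + 1 ≤ n ^ 2 + r * y) ∧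
    (∀ i, m i ^ 2 ≤ y * c i) ∧ (∀ i, m i ≤ 2 → m i ≤ c i) ∧ (Q → c 1 = m 1 ^ 2) ∧ (S → m 1 = 0)

theorem Out.mono {r y N : ℕ} {P Q S Q' S' : Prop} (h : Out k r y N P Q S) (hQ : Q' → Q)
    (hS : S' → S) : Out k r y N P Q' S' := by
  obtain ⟨n, R, m, c, h1, h2, h3, h4, h5, h6, h7, h8, h9, h10⟩ := h
  exact ⟨n, R, m, c, h1, h2, h3, h4, h5, h6, h7, h8, fun h => h9 (hQ h), fun h => h10 (hS h)⟩

variable {T : Type*} [Group T] [Finite T] {Z : Subgroup T}

theorem core_irr [IsAlgClosed k] {W : Type*} [AddCommGroup W] [Module k W] [FiniteDimensional k W]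
    [Nontrivial W] {ρ : T →* End k W} (H : Hyp ρ Z) (hZ : ∃ t, t ∉ Z) {r y N : ℕ} (hr : r.Prime)
    (hy : y.Prime) (hyr : y ≠ r) (hrk : (r : k) ≠ 0) (hN : 0 < N) {A X : End k W}
    {α ξ : T →* T} (hαi : Function.Injective α) (hξi : Function.Injective ξ)
    (hα : ∀ t, A * ρ t = ρ (α t) * A) (hξ : ∀ t, X * ρ t = ρ (ξ t) * X) (hAX : Commute A X)
    (hAr : A ^ r = 1) (hXN : X ^ N = 1) (hXy : ∀ t, X ^ y * ρ t = ρ t * X ^ y)
    (hfa : ∀ t, α t * t⁻¹ ∈ Z → t ∈ Z) (hX : X = 1 ∨ ∀ t, ξ t * t⁻¹ ∈ Z → t ∈ Z)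
    (hirr : ∀ U : Submodule k W, (∀ t, ∀ v ∈ U, ρ t v ∈ U) → (∀ v ∈ U, A v ∈ U) →
      (∀ v ∈ U, X v ∈ U) → U = ⊥ ∨ U = ⊤) :
    Out k r y Z.index (∀ t, ξ t * t⁻¹ ∈ Z → t ∈ Z) (∀ v, A v = v → X v = v)
      (∀ v, A v = v → v = 0) := by
  classical
  haveI := Fintype.ofFinite T
  have hsch : ∀ f : End k W, (∀ t, f * ρ t = ρ t * f) → f * A = A * f → f * X = X * f →
      ∃ c : k, f = c • 1 := by
    intro f h1 h2 h3
    apply schur (Set.range ρ ∪ {A, X}) (fun U hU => hirr U (fun t => hU _ (Or.inl ⟨t, rfl⟩))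
      (hU _ (by simp)) (hU _ (by simp)))
    rintro _ (⟨t, rfl⟩ | rfl | rfl)
    exacts [h1 t, h2, h3]
  have hconj : ∀ B : End k W, ∀ t, (∑ s : T, ρ s * B * ρ s⁻¹) * ρ t = ρ t * ∑ s : T, ρ s * B * ρ s⁻¹ := by
    intro B t
    rw [Finset.sum_mul, Finset.mul_sum, ← Equiv.sum_comp (Equiv.mulLeft t)]
    refine Finset.sum_congr rfl fun s _ => ?_
    simp only [Equiv.coe_mulLeft, map_mul, mul_inv_rev, mul_assoc]
    rw [← map_mul ρ t⁻¹, inv_mul_cancel, map_one, mul_one]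
  have hirrT : ∀ U : Submodule k W, (∀ t, ∀ v ∈ U, ρ t v ∈ U) → U = ⊥ ∨ U = ⊤ := by
    intro U hU
    apply hirr U hU
    · obtain ⟨c, hc⟩ := hsch _ (hconj A) (sum_conj_comm A A rfl hαi hα)
        (sum_conj_comm A X hAX.symm hξi hξ)
      exact H.inv_of_fpf hr.pos hAr hα hfa hc U hU
    · rcases hX with rfl | hX
      · exact fun v hv => hv
      obtain ⟨c, hc⟩ := hsch _ (hconj X) (sum_conj_comm X A hAX hαi hα)
        (sum_conj_comm X X rfl hξi hξ)
      exact H.inv_of_fpf hN hXN hξ hX hc U hU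
  let b : Basis (T ⧸ Z) k (End k W) := Basis.mk H.indep (H.span hirrT)
  have hb : ∀ v, b v = ρ (Quotient.out v) := fun v => Basis.mk_apply _ _ v
  haveI : Nontrivial (T ⧸ Z) := by
    obtain ⟨t, ht⟩ := hZ
    exact ⟨⟨(1 : T), t, fun h => ht (by simpa using QuotientGroup.eq.1 h)⟩⟩
  obtain ⟨Au, rfl⟩ : IsUnit A := IsUnit.of_pow_eq_one hAr hr.ne_zero
  obtain ⟨Xu, rfl⟩ : IsUnit X := IsUnit.of_pow_eq_one hXN hN.ne'
  obtain ⟨c0, hc0⟩ : ∃ c : k, (Xu : End k W) ^ y = c • 1 :=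
    schur (Set.range ρ) (fun U hU => hirrT U fun t => hU _ ⟨t, rfl⟩) (by
      rintro _ ⟨t, rfl⟩; exact hXy t)
  have hc00 : c0 ≠ 0 := by
    rintro rfl
    rw [zero_smul] at hc0
    exact (Xu ^ y).ne_zero (by simpa using hc0)
  let v0 : T ⧸ Z := ((1 : T) : T ⧸ Z)
  have hv0 : ∀ u : (End k W)ˣ, Ad u (b v0) = b v0 := by
    intro u
    have : Quotient.out v0 ∈ Z := by
      simpa using QuotientGroup.eq.1 (QuotientGroup.out_eq' v0).symm
    obtain ⟨c, hc⟩ := H.sc _ this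
    rw [Ad_eq_iff, hb, hc]; simp
  have hmon : ∀ (u : (End k W)ˣ) (β : T →* T), (∀ t, u * ρ t = ρ (β t) * u) →
      ∀ v, ∃ w, ∃ c : k, Ad u (b v) = c • b w := by
    intro u β hβ v
    obtain ⟨c, hc⟩ := H.out_eq (β (Quotient.out v))
    exact ⟨(β (Quotient.out v) : T ⧸ Z), c, by rw [Ad_eq_iff, hb, hb, ← hc, hβ]⟩
  have hfr : ∀ (u : (End k W)ˣ) (β : T →* T), (∀ t, u * ρ t = ρ (β t) * u) →
      (∀ t, β t * t⁻¹ ∈ Z → t ∈ Z) → ∀ v (c : k), Ad u (b v) = c • b v → v = v0 := by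
    intro u β hβ hf v c h
    rw [Ad_eq_iff, hb, hβ, Units.mul_left_inj] at h
    have h1 : ρ (β (Quotient.out v) * (Quotient.out v)⁻¹) = c • 1 := by
      rw [map_mul, h, smul_mul_assoc, rho_mul_inv]
    have h2 := hf _ (H.mem_of_scalar h1)
    rw [← QuotientGroup.out_eq' v]
    exact (QuotientGroup.eq.2 (by simpa using h2)).symm
  have hAd1 : Ad Au ^ r = 1 := by
    rw [← map_pow, show Au ^ r = 1 from Units.ext (by simpa using hAr), map_one]
  have hAd2 : Ad Xu ^ y = 1 := by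
    rw [← map_pow]
    ext f : 1
    rw [Ad_eq_iff, Units.val_pow_eq_pow_val, hc0]; simp
  have hcomm : Commute Au Xu := Units.ext (by simpa using hAX.eq)
  have hn : finrank k W ^ 2 = Z.index := by
    rw [sq, ← Module.finrank_linearMap, Subgroup.index, Module.finrank_eq_nat_card_basis b]
  have hD1 := count_fixed b (Ad Au) hr.pos hAd1 v0 (hv0 _) (hmon _ _ hα) (fun i h0 h1 v c h => by
    obtain ⟨d, hd⟩ := eig_of_pow hr hAd1 (fun h2 => absurd (Nat.le_of_dvd h0 h2) (by omega)) h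
    exact hfr _ _ hα hfa v d hd)
  have hk1 : LinearMap.ker (Ad Au - 1) = Cz (Au : End k W) 1 := by
    ext f
    rw [LinearMap.mem_ker, LinearMap.sub_apply, Module.End.one_apply, sub_eq_zero, Ad_eq_iff]
    simp [mem_Cz]
  rw [hk1, finrank_Cz_one _ hrk hAr, ← Subgroup.index, ← hn] at hD1
  refine ⟨finrank k W, nthRootsFinset r 1, fun μ => finrank k (Module.End.eigenspace (Au : End k W) μ),
    fun μ => finrank k (Cz 1 (res _ _ hAX μ)), one_mem_nthRootsFinset hr.pos, card_roots_le r,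
    finrank_eq_sum _ hrk hAr, hn, hD1, fun hP => ?_, fun μ => ?_, fun μ => le_finrank_Cz _,
    fun hQ => ?_, fun hS => ?_⟩
  · have hc : Commute (Ad Au) (Ad Xu) := hcomm.map Ad
    have hD3 := count_fixed b (Ad Au * Ad Xu) (Nat.mul_pos hr.pos hy.pos)
      (by rw [hc.mul_pow, pow_mul, hAd1, one_pow, pow_mul', hAd2, one_pow, one_mul]) v0
      (by rw [← map_mul]; exact hv0 _)
      (by
        rw [← map_mul]
        refine hmon _ (α.comp ξ) fun t => ?_
        rw [Units.val_mul, mul_assoc, hξ, ← mul_assoc, hα, mul_assoc]; rfl)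
      (fun i h0 h1 v c h => by
        rcases eig_or hr hy hyr hc hAd1 hAd2 h0 h1 h with ⟨d, hd⟩ | ⟨d, hd⟩
        · exact hfr _ _ hα hfa v d hd
        · exact hfr _ _ hξ hP v d hd)
    rw [← Subgroup.index, ← hn] at hD3
    rw [← finrank_Cz _ _ hAX hrk hAr, ← hD3]
    have hle : Cz (Au : End k W) Xu ≤ LinearMap.ker (Ad Au * Ad Xu - 1) := by
      intro f hf
      rw [LinearMap.mem_ker, LinearMap.sub_apply, Module.End.one_apply, sub_eq_zero,
        Module.End.mul_apply, (Ad_eq_iff _ _ _).2 hf.2, (Ad_eq_iff _ _ _).2 hf.1]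
    exact Nat.add_le_add_right (Nat.mul_le_mul_left _ (Submodule.finrank_mono hle)) 1
  · refine sq_le_mul_finrank_Cz _ hy hc00 ?_
    have : ∀ (j : ℕ) v, (((res _ _ hAX μ ^ j) v : Module.End.eigenspace (Au : End k W) μ) : W) =
        ((Xu : End k W) ^ j) v := by
      intro j v
      induction j with
      | zero => rfl
      | succ j ih => rw [pow_succ', pow_succ', Module.End.mul_apply, Module.End.mul_apply, coe_res, ih]
    ext v
    rw [this, hc0]; rfl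
  · apply finrank_Cz_top
    have : res _ _ hAX 1 = 1 := by
      ext v
      exact hQ _ (by simpa using Module.End.mem_eigenspace_iff.1 v.2)
    intro f; rw [this]; simp
  · rw [Submodule.finrank_eq_zero, eq_bot_iff]
    intro v hv
    exact hS _ (by simpa using Module.End.mem_eigenspace_iff.1 hv)

/-- Restriction of a representation to an invariant subspace. -/
def resRep {W : Type*} [AddCommGroup W] [Module k W] {T : Type*} [Group T] (ρ : T →* End k W)
    (U : Submodule k W) (hU : ∀ t, ∀ v ∈ U, ρ t v ∈ U) : T →* End k U where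
  toFun t := (ρ t).restrict (hU t)
  map_one' := by ext v; simp
  map_mul' s t := by ext v; simp

theorem coe_pow_restrict {W : Type*} [AddCommGroup W] [Module k W] (A : End k W)
    {U : Submodule k W} (hA : ∀ v ∈ U, A v ∈ U) (j : ℕ) (v : U) :
    (((show End k U from A.restrict hA) ^ j) v : W) = (A ^ j) v := by
  induction j with
  | zero => rfl
  | succ j ih =>
    rw [pow_succ', pow_succ', Module.End.mul_apply, Module.End.mul_apply, ← ih]; rfl

omit [Finite T] in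
theorem Hyp.res {W : Type*} [AddCommGroup W] [Module k W] {ρ : T →* End k W} (H : Hyp ρ Z)
    {U : Submodule k W} (hU : ∀ t, ∀ v ∈ U, ρ t v ∈ U) (h0 : U ≠ ⊥) : Hyp (resRep ρ U hU) Z where
  card := H.card
  sc z hz := by
    obtain ⟨c, hc⟩ := H.sc z hz
    exact ⟨c, by ext v; simp [resRep, hc]⟩
  comm := H.comm
  nd t ht := by
    refine H.nd t fun s => ?_
    obtain ⟨c, hc⟩ := H.sc _ (H.comm t s)
    obtain ⟨v, hv, hv0⟩ := (Submodule.ne_bot_iff U).1 h0
    have h1 : ρ ⁅t, s⁆ v = v := congrArg Subtype.val (LinearMap.congr_fun (ht s) ⟨v, hv⟩)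
    rw [hc, LinearMap.smul_apply, Module.End.one_apply] at h1
    have h2 : (c - 1) • v = 0 := by rw [sub_smul, h1, one_smul, sub_self]
    rw [hc, sub_eq_zero.1 ((smul_eq_zero.1 h2).resolve_right hv0), one_smul]

theorem core [IsAlgClosed k] (hZ : ∃ t, t ∉ Z) {r y N : ℕ} (hr : r.Prime)
    (hy : y.Prime) (hyr : y ≠ r) (hrk : (r : k) ≠ 0) (hN : 0 < N)
    {α ξ : T →* T} (hαi : Function.Injective α) (hξi : Function.Injective ξ)
    (hfa : ∀ t, α t * t⁻¹ ∈ Z → t ∈ Z) (d : ℕ) :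
    ∀ {W : Type w} [AddCommGroup W] [Module k W] [FiniteDimensional k W]
    [Nontrivial W] {ρ : T →* End k W} (_ : Hyp ρ Z) {A X : End k W} (_ : finrank k W = d)
    (_ : ∀ t, A * ρ t = ρ (α t) * A) (_ : ∀ t, X * ρ t = ρ (ξ t) * X) (_ : Commute A X)
    (_ : A ^ r = 1) (_ : X ^ N = 1) (_ : ∀ t, X ^ y * ρ t = ρ t * X ^ y)
    (_ : X = 1 ∨ ∀ t, ξ t * t⁻¹ ∈ Z → t ∈ Z),
    Out k r y Z.index (∀ t, ξ t * t⁻¹ ∈ Z → t ∈ Z) (∀ v, A v = v → X v = v)
      (∀ v, A v = v → v = 0) := by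
  induction d using Nat.strong_induction_on with
  | _ d ih =>
  intro W _ _ _ _ ρ H A X hd hα hξ hAX hAr hXN hXy hX
  by_cases hirr : ∀ U : Submodule k W, (∀ t, ∀ v ∈ U, ρ t v ∈ U) → (∀ v ∈ U, A v ∈ U) →
      (∀ v ∈ U, X v ∈ U) → U = ⊥ ∨ U = ⊤
  · exact core_irr H hZ hr hy hyr hrk hN hαi hξi hα hξ hAX hAr hXN hXy hfa hX hirr
  push Not at hirr
  obtain ⟨U, hU, hUA, hUX, h0, h1⟩ := hirr
  haveI : Nontrivial U := Submodule.nontrivial_iff_ne_bot.2 h0
  refine (ih (finrank k U) (hd ▸ Submodule.finrank_lt h1) (H.res hU h0) (A := A.restrict hUA)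
    (X := X.restrict hUX) rfl ?_ ?_ ?_ ?_ ?_ ?_ ?_).mono ?_ ?_
  · intro t; ext v; exact LinearMap.congr_fun (hα t) v
  · intro t; ext v; exact LinearMap.congr_fun (hξ t) v
  · ext v; exact LinearMap.congr_fun hAX.eq v
  · ext v; rw [coe_pow_restrict, hAr]; rfl
  · ext v; rw [coe_pow_restrict, hXN]; rfl
  · intro t; ext v
    rw [Module.End.mul_apply, Module.End.mul_apply, coe_pow_restrict]
    refine (LinearMap.congr_fun (hXy t) v).trans ?_
    rw [Module.End.mul_apply, ← coe_pow_restrict X hUX]; rfl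
  · rcases hX with rfl | hX
    · left; ext v; rfl
    · exact Or.inr hX
  · intro h v hv; exact Subtype.ext (h _ (congrArg Subtype.val hv))
  · intro h v hv; exact Subtype.ext (h _ (congrArg Subtype.val hv))

end Cfsg.Agent.H1.Eng
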