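import Cfsg.Agent.H1.Eng4
import Cfsg.Agent.H1.Coprime

/-! The engine for the Turull bound. -/

namespace Cfsg.Agent.H1.Eng

open Module Subgroup
open scoped commutatorElement

variable {H : Type*} [Group H] {k : Type*} [Field k] {W : Type*} [AddCommGroup W] [Module k W]

/-- Conjugation on an invariant subgroup. -/
def conjHom (S : Subgroup H) (a : H) (h : ∀ t ∈ S, a * t * a⁻¹ ∈ S) : S →* S :=
  ((MulAut.conj a).toMonoidHom.comp S.subtype).codRestrict S (fun t => h t t.2)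

theorem coe_conjHom (S : Subgroup H) (a : H) (h : ∀ t ∈ S, a * t * a⁻¹ ∈ S) (t : S) :
    (conjHom S a h t : H) = a * t * a⁻¹ := rfl

theorem conjHom_inj (S : Subgroup H) (a : H) (h : ∀ t ∈ S, a * t * a⁻¹ ∈ S) :
    Function.Injective (conjHom S a h) := by
  intro s t hst
  have := congrArg Subtype.val hst
  rw [coe_conjHom, coe_conjHom] at this
  exact Subtype.ext (by simpa using this)

theorem conjHom_rho (ρ : H →* End k W) (S : Subgroup H) (a : H) (h : ∀ t ∈ S, a * t * a⁻¹ ∈ S)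
    (t : S) : ρ a * (ρ.comp S.subtype) t = (ρ.comp S.subtype) (conjHom S a h t) * ρ a := by
  show ρ a * ρ t = ρ (a * t * a⁻¹) * ρ a
  rw [← map_mul, ← map_mul]; simp

/-- Elements whose image commutes with the image of `s`. -/
def Cr (ρ : H →* End k W) (s : H) : Subgroup H where
  carrier := {g | ρ g * ρ s = ρ s * ρ g}
  one_mem' := by simp
  mul_mem' := by
    intro a b ha hb
    simp only [Set.mem_setOf_eq, map_mul] at *
    rw [mul_assoc, hb, ← mul_assoc, ha, mul_assoc]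
  inv_mem' := by
    intro a ha
    simp only [Set.mem_setOf_eq] at *
    have h1 : ρ a⁻¹ * ρ a = 1 := by rw [← map_mul]; simp
    calc ρ a⁻¹ * ρ s = ρ a⁻¹ * (ρ s * ρ a) * ρ a⁻¹ := by
          rw [mul_assoc, mul_assoc, rho_mul_inv, mul_one]
      _ = ρ s * ρ a⁻¹ := by rw [← ha, ← mul_assoc, h1, one_mul]

theorem mem_Cr {ρ : H →* End k W} {s g : H} : g ∈ Cr ρ s ↔ ρ g * ρ s = ρ s * ρ g := Iff.rfl

theorem Cr_symm {ρ : H →* End k W} {s g : H} (h : g ∈ Cr ρ s) : s ∈ Cr ρ g := Eq.symm h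

theorem conj_mem_Cr {ρ : H →* End k W} {s g t : H} (h : g ∈ Cr ρ (t⁻¹ * s * t)) :
    t * g * t⁻¹ ∈ Cr ρ s := by
  rw [mem_Cr, ← map_mul, ← map_mul] at *
  rw [show t * g * t⁻¹ * s = t * (g * (t⁻¹ * s * t)) * t⁻¹ by group, map_mul, map_mul, h,
    ← map_mul, ← map_mul]
  congr 1; group

theorem mem_Cr_iff {ρ : H →* End k W} {s t : H} : ρ ⁅t, s⁆ = 1 ↔ t ∈ Cr ρ s := by
  rw [mem_Cr, ← map_mul, ← map_mul]
  constructor
  · intro h
    rw [show t * s = ⁅t, s⁆ * (s * t) by group, map_mul, h, one_mul]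
  · intro h
    rw [show ⁅t, s⁆ = t * s * (s * t)⁻¹ by group, map_mul, h, rho_mul_inv]

/-- Elements of `T` fixed by `h` modulo `Z`. -/
def Fx (T Z : Subgroup H) [Z.Normal] (h : H) : Subgroup H where
  carrier := {t | t ∈ T ∧ ⁅h, t⁆ ∈ Z}
  one_mem' := ⟨T.one_mem, by simp⟩
  mul_mem' := by
    rintro a b ⟨h1, h2⟩ ⟨h3, h4⟩
    refine ⟨T.mul_mem h1 h3, ?_⟩
    rw [show ⁅h, a * b⁆ = ⁅h, a⁆ * (a * ⁅h, b⁆ * a⁻¹) by group]
    exact Z.mul_mem h2 (‹Z.Normal›.conj_mem _ h4 _)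
  inv_mem' := by
    rintro a ⟨h1, h2⟩
    refine ⟨T.inv_mem h1, ?_⟩
    rw [show ⁅h, a⁻¹⁆ = a⁻¹ * ⁅h, a⁆⁻¹ * a⁻¹⁻¹ by group]
    exact ‹Z.Normal›.conj_mem _ (Z.inv_mem h2) _

theorem Fx_conj {T Z : Subgroup H} [T.Normal] [Z.Normal] {h g : H} (hg : Commute g h) :
    ∀ t ∈ Fx T Z h, g * t * g⁻¹ ∈ Fx T Z h := by
  rintro t ⟨h1, h2⟩
  refine ⟨‹T.Normal›.conj_mem _ h1 _, ?_⟩
  have : ⁅h, g * t * g⁻¹⁆ = g * ⁅h, t⁆ * g⁻¹ := by
    have e : h = g * h * g⁻¹ := by rw [hg.eq]; simp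
    conv_lhs => rw [e]
    group
  rw [this]
  exact ‹Z.Normal›.conj_mem _ h2 _

theorem le_Fx {T Z : Subgroup H} [Z.Normal] (hZ : Z ≤ T) (h : H) : Z ≤ Fx T Z h := fun z hz =>
  ⟨hZ hz, Z.mul_mem (‹Z.Normal›.conj_mem _ hz _) (Z.inv_mem hz)⟩

theorem reduce {T Z : Subgroup H} {x : H} {y : ℕ} (hx : ∃ n, x ^ y ^ n = 1)
    (hxT : ∃ t ∈ T, ⁅x, t⁆ ∉ Z) :
    ∃ j, (∃ t ∈ T, ⁅x ^ y ^ j, t⁆ ∉ Z) ∧ ∀ t ∈ T, ⁅(x ^ y ^ j) ^ y, t⁆ ∈ Z := by
  classical
  have hex : ∃ j, ∀ t ∈ T, ⁅x ^ y ^ j, t⁆ ∈ Z := by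
    obtain ⟨n, hn⟩ := hx
    exact ⟨n, fun t _ => by rw [hn]; simp⟩
  have h0 : Nat.find hex ≠ 0 := by
    intro h
    have := Nat.find_spec hex
    rw [h, pow_zero, pow_one] at this
    obtain ⟨t, h1, h2⟩ := hxT
    exact h2 (this t h1)
  obtain ⟨j, hj⟩ := Nat.exists_eq_succ_of_ne_zero h0
  refine ⟨j, ?_, ?_⟩
  · have := Nat.find_min hex (show j < Nat.find hex by omega)
    push Not at this
    exact this
  · have := Nat.find_spec hex
    rwa [hj, pow_succ, pow_mul] at this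

theorem relIndex_modEq [Finite H] {S Z : Subgroup H} [Z.Normal] {h : H} {p n : ℕ} (hp : p.Prime)
    (hh : h ^ p ^ n = 1) (hS : ∀ t ∈ S, h * t * h⁻¹ ∈ S) (hf : ∀ t ∈ S, ⁅h, t⁆ ∈ Z → t ∈ Z) :
    Z.relIndex S ≡ 1 [MOD p] := by
  classical
  haveI := Fact.mk hp
  haveI := Fintype.ofFinite (S ⧸ Z.subgroupOf S)
  let f0 := QuotientGroup.map (Z.subgroupOf S) (Z.subgroupOf S) (conjHom S h hS) (fun t ht =>
      ‹Z.Normal›.conj_mem _ ht h)
  let f : Function.End (S ⧸ Z.subgroupOf S) := fun v => f0 v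
  have hpow : ∀ (m : ℕ) (t : S), ∃ u : S, (u : H) = h ^ m * t * (h ^ m)⁻¹ ∧
      (f ^ m) (t : S ⧸ Z.subgroupOf S) = u := by
    intro m t
    induction m with
    | zero => exact ⟨t, by simp, rfl⟩
    | succ m ih =>
      obtain ⟨u, h1, h2⟩ := ih
      refine ⟨conjHom S h hS u, by rw [coe_conjHom, h1, pow_succ']; group, ?_⟩
      rw [pow_succ']
      show f ((f ^ m) _) = _
      rw [h2]; rfl
  have hf1 : f ^ p ^ n = 1 := by
    funext v
    induction v using QuotientGroup.induction_on with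
    | H t =>
      obtain ⟨u, h1, h2⟩ := hpow (p ^ n) t
      rw [h2, show u = t from Subtype.ext (by rw [h1, hh]; simp)]; rfl
  have h1 := Equiv.Perm.card_fixedPoints_modEq hf1
  have h2 : Fintype.card (Function.fixedPoints f) = 1 := by
    rw [Fintype.card_eq_one_iff]
    refine ⟨⟨1, map_one f0⟩, ?_⟩
    rintro ⟨v, hv⟩
    apply Subtype.ext
    induction v using QuotientGroup.induction_on with
    | H t =>
      show (t : S ⧸ Z.subgroupOf S) = 1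
      rw [QuotientGroup.eq_one_iff]
      have h3 : ((conjHom S h hS t : S) : S ⧸ Z.subgroupOf S) = t := hv
      have h5 := QuotientGroup.eq.1 h3
      have h4 : (h * t * h⁻¹)⁻¹ * t ∈ Z := h5
      apply hf t t.2
      rw [show ⁅h, (t : H)⁆ = t * ((h * t * h⁻¹)⁻¹ * t)⁻¹ * (t : H)⁻¹ by group]
      exact ‹Z.Normal›.conj_mem _ (Z.inv_mem h4) _
  rwa [h2, ← Nat.card_eq_fintype_card] at h1

theorem mem_Cr_of [Nontrivial W] (ρ : H →* End k W) {l y : ℕ} (hl : l.Prime) (hy : y.Prime)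
    (hyl : y ≠ l) {T Z : Subgroup H} (hT : IsPGroup l T) (hZs : ∀ z ∈ Z, ∃ c : k, ρ z = c • 1)
    {h t : H} (hh : ∃ n, h ^ y ^ n = 1) (ht : t ∈ T) (hc : ⁅h, t⁆ ∈ Z) : h ∈ Cr ρ t := by
  obtain ⟨c, hc⟩ := hZs _ hc
  obtain ⟨n, hn⟩ := hh
  obtain ⟨j, hj⟩ := hT ⟨t, ht⟩
  have hj' : t ^ l ^ j = 1 := congrArg Subtype.val hj
  have h1 : ρ h * ρ t = c • (ρ t * ρ h) := by
    rw [← map_mul, show h * t = ⁅h, t⁆ * (t * h) by group, map_mul, hc, smul_mul_assoc, one_mul,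
      map_mul]
  have h2 : ∀ m : ℕ, ρ h ^ m * ρ t = c ^ m • (ρ t * ρ h ^ m) := by
    intro m
    induction m with
    | zero => simp
    | succ m ih =>
      rw [pow_succ', mul_assoc, ih, mul_smul_comm, ← mul_assoc, h1, smul_mul_assoc, smul_smul,
        mul_assoc, pow_succ c]
  have h3 : ∀ m : ℕ, ρ h * ρ t ^ m = c ^ m • (ρ t ^ m * ρ h) := by
    intro m
    induction m with
    | zero => simp
    | succ m ih =>
      rw [pow_succ, ← mul_assoc, ih, smul_mul_assoc, mul_assoc, h1, mul_smul_comm, smul_smul,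
        ← mul_assoc, pow_succ c]
  have key : ∀ (g : H) (d : k), ρ g = d • ρ g → d = 1 := by
    intro g d hd
    have h4 : (d - 1) • ρ g = 0 := by rw [sub_smul, ← hd, one_smul, sub_self]
    refine sub_eq_zero.1 ((smul_eq_zero.1 h4).resolve_right fun h5 => ?_)
    have := rho_mul_inv ρ g
    rw [h5, zero_mul] at this
    exact zero_ne_one this
  have h4 := h2 (y ^ n)
  rw [← map_pow, hn, map_one, one_mul, mul_one] at h4
  have h5 := h3 (l ^ j)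
  rw [← map_pow, hj', map_one, one_mul, mul_one] at h5
  have h6 := (pow_gcd_eq_one (a := c)).2 ⟨key _ _ h4, key _ _ h5⟩
  rw [Nat.Coprime.gcd_eq_one (Nat.Coprime.pow _ _ ((Nat.coprime_primes hy hl).2 hyl)), pow_one] at h6
  rw [mem_Cr, h1, h6, one_smul]

theorem hyp_sub [Finite H] (ρ : H →* End k W) {l : ℕ} (hl : l.Prime) (hlk : (l : k) ≠ 0)
    {T Z S : Subgroup H} (hT : IsPGroup l T) (hZs : ∀ z ∈ Z, ∃ c : k, ρ z = c • 1)
    (hTT : ⁅T, T⁆ ≤ Z) (hS : S ≤ T) (hnd : ∀ t ∈ S, (∀ s ∈ S, t ∈ Cr ρ s) → t ∈ Z) :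
    Hyp (ρ.comp S.subtype) (Z.subgroupOf S) where
  card := by
    haveI := Fact.mk hl
    obtain ⟨j, hj⟩ := IsPGroup.iff_card.1 (hT.to_le hS)
    rw [hj, Nat.cast_pow]; exact pow_ne_zero _ hlk
  sc z hz := hZs z hz
  comm s t := hTT (commutator_mem_commutator (hS s.2) (hS t.2))
  nd t ht := hnd t t.2 fun s hs => mem_Cr_iff.1 (ht ⟨s, hs⟩)

theorem prime_dvd_relIndex [Finite H] {l q : ℕ} (hl : l.Prime) (hq : q.Prime) {Z S : Subgroup H}
    (hS : IsPGroup l S) (h : q ∣ Z.relIndex S) : q = l := by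
  haveI := Fact.mk hl
  obtain ⟨j, hj⟩ := IsPGroup.iff_card.1 hS
  have : q ∣ l ^ j := hj ▸ h.trans (Subgroup.index_dvd_card _)
  exact (Nat.prime_dvd_prime_iff_eq hq hl).1 (hq.dvd_of_dvd_pow this)

theorem two_le_of_sq [Finite H] {Z S : Subgroup H} {n : ℕ} (hn : n ^ 2 = (Z.subgroupOf S).index)
    (h : ∃ t : S, t ∉ Z.subgroupOf S) : 2 ≤ n := by
  by_contra hlt
  have h0 : (Z.subgroupOf S).index ≠ 0 := Subgroup.index_ne_zero_of_finite
  have h1 : (Z.subgroupOf S).index ≠ 1 := by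
    rw [Ne, Subgroup.index_eq_one]
    obtain ⟨t, ht⟩ := h
    intro e; rw [e] at ht; exact ht trivial
  have : n < 2 := by omega
  interval_cases n <;> simp at hn <;> omega

theorem step1 [Finite H] [IsAlgClosed k] [FiniteDimensional k W] [Nontrivial W]
    (ρ : H →* Module.End k W) {l r y : ℕ} (hl : l.Prime) (hr : r.Prime) (hy : y.Prime)
    (hlk : (l : k) ≠ 0) (hrk : (r : k) ≠ 0) (hyl : y ≠ l) (hyr : y ≠ r) {T Z : Subgroup H}
    [T.Normal] [Z.Normal] (hT : IsPGroup l T) (hZ : Z ≤ T) (hZs : ∀ z ∈ Z, ∃ c : k, ρ z = c • 1)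
    (hTT : ⁅T, T⁆ ≤ Z) (hnd : ∀ t ∈ T, (∀ s ∈ T, ρ ⁅t, s⁆ = 1) → t ∈ Z) {a x : H}
    (ha : a ^ r = 1) (hfa : ∀ t ∈ T, ⁅a, t⁆ ∈ Z → t ∈ Z) (hax : Commute a x)
    (hx : ∃ n, x ^ y ^ n = 1) (hxT : ∃ t ∈ T, ⁅x, t⁆ ∉ Z) (hxy : ∀ t ∈ T, ⁅x ^ y, t⁆ ∈ Z)
    (hK : ∀ v, ρ a v = v → ρ x v = v) :
    y = 2 ∧ ∃ n, n + 1 = 2 * r ∧ n ^ 2 = Z.relIndex T := by
  haveI := Fact.mk hl
  haveI := Fact.mk hy
  let T2 := Fx T Z x
  let T1 : Subgroup H := T ⊓ ⨅ s ∈ T2, Cr ρ s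
  have m1 : ∀ t, t ∈ T1 ↔ t ∈ T ∧ ∀ s ∈ T2, t ∈ Cr ρ s := by
    intro t; simp only [T1, mem_inf, mem_iInf]
  have hZ2 : Z ≤ T2 := le_Fx hZ x
  have hZ1 : Z ≤ T1 := fun z hz => (m1 z).2 ⟨hZ hz, fun s _ => by
    obtain ⟨c, hc⟩ := hZs z hz
    rw [mem_Cr, hc]; simp⟩
  have hx2 : ∀ s ∈ T2, x ∈ Cr ρ s := fun s hs => mem_Cr_of ρ hl hy hyl hT hZs hx hs.1 hs.2
  have hconj2 : ∀ t ∈ T, ∀ s ∈ T2, t⁻¹ * s * t ∈ T2 := by
    intro t ht s hs
    rw [show t⁻¹ * s * t = s * ⁅s⁻¹, t⁻¹⁆ by group]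
    exact T2.mul_mem hs (hZ2 (hTT (commutator_mem_commutator (T.inv_mem hs.1) (T.inv_mem ht))))
  have hcomm : ⁅T, zpowers x⁆ ≤ T1 := by
    rw [commutator_le]
    intro t ht g hg
    have hg2 : ∀ s ∈ T2, g ∈ Cr ρ s := fun s hs => (zpowers_le.2 (hx2 s hs)) hg
    refine (m1 _).2 ⟨commutator_le_left T _ (commutator_mem_commutator ht hg), fun s hs => ?_⟩
    exact (Cr ρ s).mul_mem (conj_mem_Cr (hg2 _ (hconj2 t ht s hs))) ((Cr ρ s).inv_mem (hg2 s hs))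
  have hdec : ∀ t ∈ T, ∃ n ∈ T1, ∃ c ∈ T2, n * c = t := by
    intro t ht
    have hxp : IsPGroup y (zpowers x) := by
      obtain ⟨n, hn⟩ := hx
      rintro ⟨g, m, rfl⟩
      exact ⟨n, Subtype.ext (by
        show (x ^ m) ^ y ^ n = 1
        rw [← zpow_natCast, ← zpow_mul, mul_comm, zpow_mul, zpow_natCast, hn, one_zpow])⟩
    obtain ⟨n, hn, c, hc, h⟩ := exists_commutator_mul_centralizer (A := zpowers x) (K := T)
      (IsPGroup.coprime_card_of_ne y l hyl _ _ hxp (hT.to_le (commutator_le_left T _)))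
      (Or.inl (isSolvable_of_comm fun a b => mul_comm' a b)) ht
    refine ⟨n, hcomm hn, c, ⟨?_, ?_⟩, h⟩
    · rw [show c = n⁻¹ * t by rw [← h]; group]
      exact T.mul_mem (T.inv_mem (commutator_le_left T _ hn)) ht
    · rw [commutatorElement_eq_one_iff_mul_comm.2 (hc x (mem_zpowers x))]; exact Z.one_mem
  have hperp : ∀ t ∈ T, (∀ s ∈ T1, t ∈ Cr ρ s) → (∀ s ∈ T2, t ∈ Cr ρ s) → t ∈ Z := by
    intro t ht h1 h2
    refine hnd t ht fun s hs => mem_Cr_iff.2 (Cr_symm ?_)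
    obtain ⟨n, hn, c, hc, rfl⟩ := hdec s hs
    exact (Cr ρ t).mul_mem (Cr_symm (h1 n hn)) (Cr_symm (h2 c hc))
  have hinv1 : ∀ g, Commute g x → ∀ t ∈ T1, g * t * g⁻¹ ∈ T1 := by
    intro g hg t ht
    obtain ⟨h1, h2⟩ := (m1 t).1 ht
    refine (m1 _).2 ⟨‹T.Normal›.conj_mem _ h1 _, fun s hs => conj_mem_Cr (h2 _ ?_)⟩
    simpa using Fx_conj hg.inv_left s hs
  have hT1 : T1 ≤ T := inf_le_left
  have hT2 : T2 ≤ T := fun t ht => ht.1
  have H1 := hyp_sub ρ hl hlk hT hZs hTT hT1 fun t ht h => hperp t (hT1 ht) h ((m1 t).1 ht).2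
  have hne1 : ∃ t : T1, t ∉ Z.subgroupOf T1 := by
    obtain ⟨t, h1, h2⟩ := hxT
    obtain ⟨n, hn, c, hc, rfl⟩ := hdec t h1
    exact ⟨⟨n, hn⟩, fun h => h2 (T2.mul_mem (hZ2 h) hc).2⟩
  obtain ⟨n0, hn0⟩ := id hx
  have hAr : ρ a ^ r = 1 := by rw [← map_pow, ha, map_one]
  have hfx : ∀ t : T1, conjHom T1 x (hinv1 x (Commute.refl x)) t * t⁻¹ ∈ Z.subgroupOf T1 →
      t ∈ Z.subgroupOf T1 := fun t ht =>
    hperp t (hT1 t.2) (fun s hs => Cr_symm (((m1 s).1 hs).2 t ⟨hT1 t.2, ht⟩)) ((m1 t).1 t.2).2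
  obtain ⟨n, R, m, c, a1, a2, a3, a4, a5, a6, a7, a8, a9, -⟩ := core hne1 hr hy hyr hrk
    (pow_pos hy.pos n0) (conjHom_inj T1 a (hinv1 a hax)) (conjHom_inj T1 x (hinv1 x (Commute.refl x)))
    (fun t ht => hfa t (hT1 t.2) ht) _ H1 rfl (conjHom_rho ρ T1 a _) (conjHom_rho ρ T1 x _)
    (hax.map ρ) hAr (by rw [← map_pow, hn0, map_one]) (fun t => by
      rw [← map_pow]
      exact mem_Cr_of ρ hl hy hyl hT hZs ⟨n0, by rw [← pow_mul, mul_comm, pow_mul, hn0, one_pow]⟩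
        (hT1 t.2) (hxy t (hT1 t.2))) (Or.inr hfx)
  have hn2 := two_le_of_sq a4 hne1
  obtain ⟨b1, b2⟩ := num_main a1 a2 a3 a5 hn2 hy (a6 hfx) a7 a8 (a9 hK)
  refine ⟨b1, n, b2, ?_⟩
  have h2Z : T2 ≤ Z := by
    by_contra hcon
    have hne2 : ∃ t : T2, t ∉ Z.subgroupOf T2 := by
      obtain ⟨t, h1, h2⟩ := SetLike.not_le_iff_exists.1 hcon
      exact ⟨⟨t, h1⟩, h2⟩
    have H2 := hyp_sub ρ hl hlk hT hZs hTT hT2 fun t ht h =>
      hperp t (hT2 ht) (fun s hs => Cr_symm (((m1 s).1 hs).2 t ht)) h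
    let U : Submodule k W := LinearMap.range (ρ x - 1)
    have hUinv : ∀ g, x ∈ Cr ρ g → ∀ v ∈ U, ρ g v ∈ U := by
      rintro g hg _ ⟨v, rfl⟩
      refine ⟨ρ g v, ?_⟩
      have := LinearMap.congr_fun (mem_Cr.1 hg) v
      simp only [Module.End.mul_apply] at this
      simp [this]
    have hU2 : ∀ t : T2, ∀ v ∈ U, (ρ.comp T2.subtype) t v ∈ U := fun t => hUinv t (hx2 t t.2)
    have hUa : ∀ v ∈ U, ρ a v ∈ U := hUinv a (hax.symm.map ρ)
    have hU0 : U ≠ ⊥ := by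
      intro h
      rw [LinearMap.range_eq_bot, sub_eq_zero] at h
      obtain ⟨t, h1, h2⟩ := hxT
      have : ρ ⁅x, t⁆ = 1 := mem_Cr_iff.2 (by rw [mem_Cr, h]; simp)
      refine h2 (hnd _ (commutator_le_right ⊤ T (commutator_mem_commutator trivial h1)) fun s _ => ?_)
      rw [mem_Cr_iff, mem_Cr, this]; simp
    haveI : Nontrivial U := Submodule.nontrivial_iff_ne_bot.2 hU0
    obtain ⟨n', R', m', c', d1, d2, d3, d4, d5, -, -, -, -, d6⟩ := core hne2 hr hy hyr hrk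
      one_pos (conjHom_inj T2 a (Fx_conj hax)) (ξ := MonoidHom.id _) Function.injective_id
      (fun t ht => hfa t (hT2 t.2) ht) _ (H2.res hU2 hU0) (A := (ρ a).restrict hUa) (X := 1) rfl
      (fun t => by ext v; exact LinearMap.congr_fun (conjHom_rho ρ T2 a (Fx_conj hax) t) v)
      (fun t => by simp) (Commute.one_right _) (by ext v; rw [coe_pow_restrict, hAr]; rfl)
      (one_pow _) (fun t => by simp) (Or.inl rfl)
    have hm0 : m' 1 = 0 := by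
      apply d6
      rintro ⟨_, w, rfl⟩ hv
      have hv' : ρ a ((ρ x - 1) w) = (ρ x - 1) w := congrArg Subtype.val hv
      apply Subtype.ext
      let N : End k W := ∑ i ∈ Finset.range r, ρ a ^ i
      have e1 : N ((ρ x - 1) w) = (r : k) • (ρ x - 1) w := by
        simp only [N, LinearMap.sum_apply]
        rw [Finset.sum_congr rfl fun i _ => eig_pow (hv'.trans (one_smul k _).symm) i]
        simp [Nat.cast_smul_eq_nsmul, smul_sub]
      have e2 : ρ a (N w) = N w := by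
        have := LinearMap.congr_fun (mul_geom_sum (ρ a) r) w
        rw [hAr, sub_self, Module.End.mul_apply, LinearMap.sub_apply, Module.End.one_apply,
          LinearMap.zero_apply, sub_eq_zero] at this
        exact this
      have e3 : Commute N (ρ x - 1) :=
        Commute.sum_left _ _ _ fun i _ => ((hax.map ρ).sub_right (Commute.one_right _)).pow_left i
      have e4 := LinearMap.congr_fun e3.eq w
      rw [Module.End.mul_apply, Module.End.mul_apply, e1, LinearMap.sub_apply _ _ (N w), hK _ e2,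
        Module.End.one_apply, sub_self] at e4
      exact (smul_eq_zero.1 e4).resolve_left hrk
    obtain ⟨f1, -⟩ := num_zero d1 d2 d3 d5 (two_le_of_sq d4 hne2) hm0
    have hro : Odd r := hr.odd_of_ne_two (b1 ▸ hyr.symm)
    have h2n : 2 ∣ n' := by obtain ⟨j, hj⟩ := hro; omega
    have : 2 = l := prime_dvd_relIndex hl Nat.prime_two (hT.to_le hT2)
      (show 2 ∣ (Z.subgroupOf T2).index from d4 ▸ dvd_pow h2n two_ne_zero)
    exact hyl (b1.trans this)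
  have : T1 = T := le_antisymm hT1 fun t ht => by
    obtain ⟨n, hn, c, hc, rfl⟩ := hdec t ht
    exact T1.mul_mem hn (hZ1 (h2Z hc))
  rw [← this]; exact a4

theorem engine {H : Type*} [Group H] [Finite H] {k : Type*} [Field k] [IsAlgClosed k] {W : Type*}
    [AddCommGroup W] [Module k W] [FiniteDimensional k W] [Nontrivial W]
    (ρ : H →* Module.End k W) {l r y : ℕ} (hl : l.Prime) (hr : r.Prime) (hy : y.Prime)
    (hlk : (l : k) ≠ 0) (hrk : (r : k) ≠ 0) (hlr : l ≠ r) (hyl : y ≠ l) (hyr : y ≠ r)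
    {T Z : Subgroup H} [T.Normal] [Z.Normal] (hT : IsPGroup l T) (hZ : Z ≤ T)
    (hZs : ∀ z ∈ Z, ∃ c : k, ρ z = c • 1) (hTT : ⁅T, T⁆ ≤ Z)
    (hnd : ∀ t ∈ T, (∀ s ∈ T, ρ ⁅t, s⁆ = 1) → t ∈ Z) {a x : H} (ha : a ^ r = 1)
    (hfa : ∀ t ∈ T, ⁅a, t⁆ ∈ Z → t ∈ Z) (hax : Commute a x) (hx : ∃ n, x ^ y ^ n = 1)
    (hxT : ∃ t ∈ T, ⁅x, t⁆ ∉ Z) (hK : ∀ v, ρ a v = v → ρ x v = v) :
    y = 2 ∧ ∀ (c : H) (s : ℕ), s.Prime → s ≠ 2 → s ≠ r → (∃ n, c ^ s ^ n = 1) → Commute a c →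
      ∀ t ∈ T, ⁅c, t⁆ ∈ Z := by
  obtain ⟨j, hj1, hj2⟩ := reduce hx hxT
  obtain ⟨hy2, n, hn1, hn2⟩ := step1 ρ hl hr hy hlk hrk hyl hyr hT hZ hZs hTT hnd ha hfa
    (hax.pow_right (y ^ j)) (by
      obtain ⟨n, hn⟩ := hx
      exact ⟨n, by rw [← pow_mul, mul_comm, pow_mul, hn, one_pow]⟩) hj1 hj2 (fun v hv => by
      rw [map_pow, eig_pow ((hK v hv).trans (one_smul k _).symm), one_pow, one_smul])
  refine ⟨hy2, fun c s hs hs2 hsr hc hac => ?_⟩
  have hr2 := hr.two_le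
  have hro : Odd r := hr.odd_of_ne_two (hy2 ▸ hyr.symm)
  have hirr : ∀ h, Commute a h → (∃ t ∈ T, ⁅h, t⁆ ∉ Z) → ∀ t ∈ T, ⁅h, t⁆ ∈ Z → t ∈ Z := by
    intro h hah ⟨t0, h1, h2⟩
    let S := Fx T Z h
    have hST : S ≤ T := fun t ht => ht.1
    have e1 : Z.relIndex S * S.relIndex T = n ^ 2 := by
      rw [relIndex_mul_relIndex Z S T (le_Fx hZ h) hST, hn2]
    have e2 : Z.relIndex S ≡ 1 [MOD r] :=
      relIndex_modEq (n := 1) hr (by rw [pow_one, ha]) (Fx_conj hah) fun t ht => hfa t ht.1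
    have e3 : Z.relIndex T ≡ 1 [MOD r] :=
      relIndex_modEq (n := 1) hr (by rw [pow_one, ha])
        (fun t ht => ‹T.Normal›.conj_mem t ht a) hfa
    have e4 : S.relIndex T ≡ 1 [MOD r] := by
      have := e2.mul_right (S.relIndex T)
      rw [e1, hn2, one_mul] at this
      exact this.symm.trans e3
    have e5 : S.relIndex T ≠ 1 := fun e => h2 (relIndex_eq_one.1 e h1).2
    have key : ∀ i : ℕ, i ≡ 1 [MOD r] → i ∣ n ^ 2 → i ≤ n → i = 1 := by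
      intro i h1 h2 h3
      have h0 : 0 < i := Nat.pos_of_dvd_of_pos h2 (pow_pos (by omega) 2)
      obtain ⟨q, hq⟩ := (Nat.modEq_iff_dvd' h0).1 h1.symm
      have hq2 : q < 2 := by
        by_contra hcon
        have : r * 2 ≤ r * q := Nat.mul_le_mul_left r (by omega)
        omega
      interval_cases q
      · omega
      · exfalso
        obtain ⟨u, hu⟩ := hro
        have : 2 ∣ n := Nat.prime_two.dvd_of_dvd_pow (Dvd.dvd.trans (by omega) h2)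
        omega
    have e6 : Z.relIndex S = 1 := by
      rcases le_total (Z.relIndex S) n with h | h
      · exact key _ e2 ⟨_, e1.symm⟩ h
      · refine absurd (key _ e4 (Dvd.intro_left _ e1) ?_) e5
        have : n * S.relIndex T ≤ n * n := by nlinarith
        exact Nat.le_of_mul_le_mul_left this (by omega)
    exact fun t ht h => relIndex_eq_one.1 e6 ⟨ht, h⟩
  by_contra hcon
  push Not at hcon
  by_cases hsl : s = l
  · subst hsl
    obtain ⟨m, hm⟩ := hc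
    have e1 := relIndex_modEq hs hm (fun t ht => ‹T.Normal›.conj_mem t ht c) (hirr c hac hcon)
    have e2 : Z.relIndex T ≠ 1 := by rw [← hn2]; nlinarith
    have e3 := prime_dvd_relIndex hs (Nat.minFac_prime e2) hT (Nat.minFac_dvd _)
    have e4 : s ∣ Z.relIndex T := e3 ▸ Nat.minFac_dvd _
    exact hs.one_lt.ne' (Nat.dvd_one.1 ((e1.dvd_iff dvd_rfl).1 e4))
  · obtain ⟨i, hi1, hi2⟩ := reduce hc hcon
    obtain ⟨m, hm⟩ := hc
    have hm' : (c ^ s ^ i) ^ s ^ m = 1 := by rw [← pow_mul, mul_comm, pow_mul, hm, one_pow]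
    have hf := hirr _ (hac.pow_right (s ^ i)) hi1
    have hne : ∃ t : T, t ∉ Z.subgroupOf T := by
      obtain ⟨t, h1, h2⟩ := hcon
      exact ⟨⟨t, h1⟩, fun h => h2 (le_Fx hZ c h).2⟩
    have hfc : ∀ t : T, conjHom T (c ^ s ^ i) (fun t ht => ‹T.Normal›.conj_mem t ht _) t * t⁻¹ ∈
        Z.subgroupOf T → t ∈ Z.subgroupOf T := fun t ht => hf t t.2 ht
    obtain ⟨n', R, m', c', a1, a2, a3, a4, a5, a6, a7, a8, -, -⟩ := core hne hr hs hsr hrk
      (pow_pos hs.pos m) (conjHom_inj T a (fun t ht => ‹T.Normal›.conj_mem t ht _))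
      (conjHom_inj T (c ^ s ^ i) (fun t ht => ‹T.Normal›.conj_mem t ht _))
      (fun t ht => hfa t t.2 ht) _
      (hyp_sub ρ hl hlk hT hZs hTT le_rfl fun t ht h => hnd t ht fun s hs => mem_Cr_iff.2 (h s hs))
      rfl (conjHom_rho ρ T a _) (conjHom_rho ρ T _ _) ((hac.pow_right (s ^ i)).map ρ)
      (by rw [← map_pow, ha, map_one]) (by rw [← map_pow, hm', map_one]) (fun t => by
        rw [← map_pow]
        exact mem_Cr_of ρ hl hs hsl hT hZs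
          ⟨m, by rw [← pow_mul, mul_comm, pow_mul, hm', one_pow]⟩ t.2 (hi2 t t.2)) (Or.inr hfc)
    have : n' = n := Nat.pow_left_injective two_ne_zero (a4.trans hn2.symm)
    subst this
    exact num_last a2 a3 a5 hr2 (by have := hs.two_le; omega) (a6 hfc) a8 hn1

end Cfsg.Agent.H1.Eng
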