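import Mathlib

/-! The theorems of Kreknin and Higman-Kreknin-Kostrikin on graded Lie rings. -/

set_option autoImplicit false

namespace Cfsg.Agent.H1.Lie

open AddSubgroup

variable {L : Type*} [LieRing L]

/-- Bracket of additive subgroups. -/
def br (A B : AddSubgroup L) : AddSubgroup L := closure {z | ∃ a ∈ A, ∃ b ∈ B, ⁅a, b⁆ = z}

theorem mem_br {A B : AddSubgroup L} {a b : L} (ha : a ∈ A) (hb : b ∈ B) : ⁅a, b⁆ ∈ br A B :=
  subset_closure ⟨a, ha, b, hb, rfl⟩

theorem br_le {A B C : AddSubgroup L} (h : ∀ a ∈ A, ∀ b ∈ B, ⁅a, b⁆ ∈ C) : br A B ≤ C :=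
  (closure_le _).mpr (by rintro _ ⟨a, ha, b, hb, rfl⟩; exact h a ha b hb)

theorem br_mono {A B C D : AddSubgroup L} (h1 : A ≤ C) (h2 : B ≤ D) : br A B ≤ br C D :=
  br_le fun _ ha _ hb => mem_br (h1 ha) (h2 hb)

/-- Right multiplication. -/
def adr (y : L) : L →+ L := AddMonoidHom.mk' (fun x => ⁅x, y⁆) fun a b => add_lie a b y

/-- Left multiplication. -/
def adl (x : L) : L →+ L := AddMonoidHom.mk' (fun y => ⁅x, y⁆) fun a b => lie_add x a b

theorem lie_mem_of_iSup {ι κ : Sort*} {A : ι → AddSubgroup L} {B : κ → AddSubgroup L}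
    {C : AddSubgroup L} (h : ∀ i j, ∀ a ∈ A i, ∀ b ∈ B j, ⁅a, b⁆ ∈ C) :
    ∀ a ∈ ⨆ i, A i, ∀ b ∈ ⨆ j, B j, ⁅a, b⁆ ∈ C := fun _ ha b hb =>
  (iSup_le fun i a ha => (iSup_le fun j b hb => h i j a ha b hb : _ ≤ C.comap (adl a)) hb :
    _ ≤ C.comap (adr b)) ha

/-- `[A, S, …, S]`. -/
def itr (A S : AddSubgroup L) : ℕ → AddSubgroup L
  | 0 => A
  | m + 1 => br (itr A S m) S

theorem itr_add (A S : AddSubgroup L) (m n : ℕ) : itr A S (m + n) = itr (itr A S m) S n := by
  induction n with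
  | zero => rfl
  | succ n ih => rw [← add_assoc, itr, ih, itr]

theorem itr_mono {A B : AddSubgroup L} (h : A ≤ B) (S : AddSubgroup L) (m : ℕ) :
    itr A S m ≤ itr B S m := by
  induction m with
  | zero => exact h
  | succ m ih => exact br_mono ih le_rfl

section Graded

variable {n : ℕ}

/-- `M` acts on the graded family `A`. -/
def Gr (A M : ZMod n → AddSubgroup L) : Prop := ∀ i j, ∀ x ∈ A i, ∀ y ∈ M j, ⁅x, y⁆ ∈ A (i + j)

/-- Bracket of graded families. -/
def brF (A B : ZMod n → AddSubgroup L) (k : ZMod n) : AddSubgroup L := ⨆ i, br (A i) (B (k - i))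

theorem mem_brF {A B : ZMod n → AddSubgroup L} {i j : ZMod n} {a b : L} (ha : a ∈ A i)
    (hb : b ∈ B j) : ⁅a, b⁆ ∈ brF A B (i + j) :=
  mem_iSup_of_mem i (mem_br ha (by rwa [add_sub_cancel_left]))

theorem brF_le {A B : ZMod n → AddSubgroup L} {k : ZMod n} {C : AddSubgroup L}
    (h : ∀ i j, i + j = k → ∀ a ∈ A i, ∀ b ∈ B j, ⁅a, b⁆ ∈ C) : brF A B k ≤ C :=
  iSup_le fun i => br_le (h i _ (add_sub_cancel _ _))

theorem iSup_brF (A B : ZMod n → AddSubgroup L) : ⨆ k, brF A B k = br (⨆ i, A i) (⨆ i, B i) :=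
  le_antisymm (iSup_le fun _ => brF_le fun i j _ _ ha _ hb =>
    mem_br (mem_iSup_of_mem i ha) (mem_iSup_of_mem j hb))
    (br_le (lie_mem_of_iSup fun _ _ _ ha _ hb => mem_iSup_of_mem _ (mem_brF ha hb)))

theorem Gr.brF_le {A M : ZMod n → AddSubgroup L} (h : Gr A M) (k : ZMod n) : brF A M k ≤ A k :=
  Lie.brF_le fun i j e a ha b hb => e ▸ h i j a ha b hb

theorem Gr.brF {A B M : ZMod n → AddSubgroup L} (h1 : Gr A M) (h2 : Gr B M) : Gr (brF A B) M :=
  fun i j x hx y hy => (Lie.brF_le fun u v e a ha b hb => by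
    show ⁅⁅a, b⁆, y⁆ ∈ Lie.brF A B (i + j)
    rw [← lie_skew, leibniz_lie, ← lie_skew y a, ← lie_skew y b, neg_lie, lie_neg, ← neg_add, neg_neg]
    refine add_mem ?_ ?_
    · simpa only [← e, add_right_comm] using mem_brF (h1 _ _ a ha y hy) hb
    · simpa only [← e, add_assoc] using mem_brF ha (h2 _ _ b hb y hy) :
    _ ≤ (Lie.brF A B (i + j)).comap (adr y)) hx

theorem Gr.mono {A M N : ZMod n → AddSubgroup L} (h : Gr A M) (hN : ∀ i, N i ≤ M i) : Gr A N :=
  fun i j x hx y hy => h i j x hx y (hN j hy)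

/-- The derived family. -/
def der (M : ZMod n → AddSubgroup L) : ZMod n → AddSubgroup L := brF M M

theorem Gr.der {M : ZMod n → AddSubgroup L} (h : Gr M M) (k : ℕ) :
    Gr (der^[k] M) (der^[k] M) ∧ ∀ i, der^[k] M i ≤ M i := by
  induction k with
  | zero => exact ⟨h, fun _ => le_rfl⟩
  | succ k ih =>
    rw [Function.iterate_succ_apply']
    exact ⟨(ih.1.brF ih.1).mono ih.1.brF_le, fun i => (ih.1.brF_le i).trans (ih.2 i)⟩

/-- The graded subring generated by the components of index `> k`. -/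
inductive Gen (k : ℕ) (M : ZMod n → AddSubgroup L) : ZMod n → L → Prop
  | base {i x} : k < i.val → x ∈ M i → Gen k M i x
  | lie {i j x y} : Gen k M i x → Gen k M j y → Gen k M (i + j) ⁅x, y⁆
  | zero (i) : Gen k M i 0
  | sub {i x y} : Gen k M i x → Gen k M i y → Gen k M i (x - y)

/-- `Gen` as a subgroup. -/
def genS (k : ℕ) (M : ZMod n → AddSubgroup L) (i : ZMod n) : AddSubgroup L where
  carrier := {x | Gen k M i x}
  zero_mem' := .zero i
  add_mem' ha hb := by simpa using ha.sub ((Gen.zero i).sub hb)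
  neg_mem' ha := by simpa using (Gen.zero i).sub ha

theorem Gen.mem {k : ℕ} {M : ZMod n → AddSubgroup L} (h : Gr M M) {i x} (hx : Gen k M i x) :
    x ∈ M i := by
  induction hx with
  | base _ h => exact h
  | lie _ _ h1 h2 => exact h _ _ _ h1 _ h2
  | zero => exact zero_mem _
  | sub _ _ h1 h2 => exact sub_mem h1 h2

variable [NeZero n]

theorem Gen.lie_succ {k : ℕ} {M : ZMod n → AddSubgroup L} (h : Gr M M) (h0 : M 0 = ⊥) {u a}
    (ha : Gen k M u a) : ∀ v, ∀ w ∈ M v, (v + u).val = k + 1 → Gen (k + 1) M (v + u) ⁅w, a⁆ := by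
  induction ha with
  | @base j x h1 h2 =>
    intro v w hw e
    by_cases hv : v = 0
    · rw [hv, h0, mem_bot] at hw
      rw [hw, zero_lie]; exact .zero _
    have h3 := ZMod.val_lt v
    have h4 := ZMod.val_lt j
    have h5 : v.val ≠ 0 := by simpa using hv
    have h6 : n ≤ v.val + j.val := by
      by_contra h6
      rw [ZMod.val_add_of_lt (by omega)] at e
      rcases (by omega : j.val = k + 1 ∨ k + 1 < j.val) with _ | _ <;> omega
    rw [ZMod.val_add_of_le h6] at e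
    exact (Gen.base (by omega) hw).lie (.base (by omega) h2)
  | @lie i j x y hx hy h1 h2 =>
    intro v w hw e
    rw [leibniz_lie, ← lie_skew x, ← sub_eq_add_neg]
    refine Gen.sub ?_ ?_
    · rw [← add_assoc] at e ⊢
      exact h2 _ _ (h _ _ _ hw _ (hx.mem h)) e
    · rw [add_comm i, ← add_assoc] at e ⊢
      exact h1 _ _ (h _ _ _ hw _ (hy.mem h)) e
  | zero => intro v w _ _; rw [lie_zero]; exact .zero _
  | sub _ _ h1 h2 => intro v w hw e; rw [lie_sub]; exact (h1 v w hw e).sub (h2 v w hw e)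

theorem kreknin_aux (k : ℕ) : ∀ {M : ZMod n → AddSubgroup L}, Gr M M → M 0 = ⊥ →
    ∀ u, ∀ x ∈ der^[2 ^ k - 1] M u, Gen k M u x := by
  induction k with
  | zero =>
    intro M _ h0 u x hx
    by_cases hu : u = 0
    · rw [show x = 0 by simpa [hu, h0] using hx]; exact .zero _
    · exact .base (by simpa [Nat.pos_iff_ne_zero] using hu) hx
  | succ k ih =>
    intro M h h0 u x hx
    have h1 := Nat.one_le_two_pow (n := k)
    rw [show 2 ^ (k + 1) - 1 = 2 ^ k - 1 + (2 ^ k - 1 + 1) by omega, Function.iterate_add_apply] at hx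
    obtain ⟨h2, h3⟩ := h.der (2 ^ k - 1 + 1)
    have h4 := ih h2 (eq_bot_iff.mpr (h0 ▸ h3 0)) u x hx
    clear hx
    induction h4 with
    | @base i x h4 h5 =>
      rcases (by omega : k + 1 < i.val ∨ i.val = k + 1) with h6 | h6
      · exact .base h6 (h3 i h5)
      rw [Function.iterate_succ_apply'] at h5
      exact (brF_le (C := genS (k + 1) M i) fun u v e a ha b hb =>
        e ▸ (ih h h0 v b hb).lie_succ h h0 u a ((h.der _).2 u ha) (e ▸ h6)) h5
    | lie _ _ h4 h5 => exact h4.lie h5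
    | zero => exact .zero _
    | sub _ _ h4 h5 => exact h4.sub h5

/-- Kreknin's theorem. -/
theorem kreknin {M : ZMod n → AddSubgroup L} (h : Gr M M) (h0 : M 0 = ⊥) (u : ZMod n) :
    der^[2 ^ (n - 1) - 1] M u = ⊥ := eq_bot_iff.mpr fun x hx => by
  have h1 := kreknin_aux _ h h0 u x hx
  clear hx
  induction h1 with
  | @base i _ h1 => have := ZMod.val_lt i; omega
  | lie _ _ h1 => rw [mem_bot.mp h1, zero_lie]; exact zero_mem _
  | zero => exact zero_mem _
  | sub _ _ h1 h2 => exact sub_mem h1 h2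

end Graded

/-- Left-normed commutators. -/
def ad {ι : Type*} : List (ι × L) → L →+ L
  | [] => AddMonoidHom.id L
  | y :: l => (ad l).comp (adr y.2)

theorem ad_cons {ι : Type*} (y : ι × L) (l : List (ι × L)) (a : L) : ad (y :: l) a = ad l ⁅a, y.2⁆ := rfl

theorem ad_concat {ι : Type*} (l : List (ι × L)) (y : ι × L) (a : L) :
    ad (l ++ [y]) a = ⁅ad l a, y.2⁆ := by
  induction l generalizing a with
  | nil => rfl
  | cons z l ih => rw [List.cons_append, ad_cons, ih, ad_cons]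

section Prime

variable {p : ℕ}

/-- `0` is reachable from `i` by adding some of the degrees. -/
def Reach : List (ZMod p × L) → ZMod p → Prop
  | [], i => i = 0
  | y :: l, i => y.1 = 0 ∨ Reach l i ∨ Reach l (i + y.1)

omit [LieRing L] in
theorem reach_card [hp : Fact p.Prime] (l : List (ZMod p × L)) :
    (∀ i, Reach l i) ∨ l.length < {i | Reach l i}.ncard := by
  induction l with
  | nil => exact Or.inr (by simp [Reach])
  | cons y l ih =>
    rcases ih with ih | ih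
    · exact Or.inl fun i => Or.inr (Or.inl (ih i))
    by_cases h : ∀ i, Reach (y :: l) i → Reach l i
    · by_cases hy : y.1 = 0
      · exact Or.inl fun i => Or.inl hy
      obtain ⟨j, hj⟩ := (Set.ncard_pos (Set.toFinite _)).mp (Nat.zero_lt_of_lt ih)
      have h1 : ∀ m : ℕ, Reach l (j - m * y.1) := fun m => by
        induction m with
        | zero => simpa using hj
        | succ m ih => exact h _ (Or.inr (Or.inr (by convert ih using 1; push_cast; ring)))
      refine Or.inl fun i => Or.inr (Or.inl ?_)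
      convert h1 ((j - i) / y.1).val using 1
      rw [ZMod.natCast_zmod_val]; field_simp; ring
    · push Not at h
      obtain ⟨i, h1, h2⟩ := h
      exact Or.inr (Nat.lt_of_le_of_lt ih (Set.ncard_lt_ncard (t := {i | Reach (y :: l) i})
        ⟨fun j hj => Or.inr (Or.inl hj), fun h4 => h2 (h4 h1)⟩ (Set.toFinite _)))

omit [LieRing L] in
theorem reach_of_length [hp : Fact p.Prime] {l : List (ZMod p × L)} (h : l.length = p - 1) (i : ZMod p) :
    Reach l i := by
  rcases reach_card l with h1 | h1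
  · exact h1 i
  · have : {i | Reach l i} = Set.univ := Set.eq_of_subset_of_ncard_le (Set.subset_univ _)
      (by rw [Set.ncard_univ, Nat.card_zmod]; omega)
    exact (this ▸ Set.mem_univ i : i ∈ {i | Reach l i})

theorem itr_le {A M : ZMod p → AddSubgroup L} {B : AddSubgroup L} (m : ℕ)
    (h : ∀ i, ∀ a ∈ A i, ∀ l : List (ZMod p × L), l.length = m → (∀ y ∈ l, y.2 ∈ M y.1) → ad l a ∈ B) :
    itr (⨆ i, A i) (⨆ i, M i) m ≤ B := by
  induction m generalizing B with
  | zero => exact iSup_le fun i a ha => h i a ha [] rfl (by simp)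
  | succ m ih =>
    refine br_le fun a ha b hb => (iSup_le fun j b hb => ?_ : _ ≤ B.comap (adl a)) hb
    refine ih (B := B.comap (adr b)) (fun i a ha l h1 h2 => ?_) ha
    show ⁅ad l a, (j, b).2⁆ ∈ B
    rw [← ad_concat]
    exact h i a ha _ (by simp [h1]) (by simpa [or_imp, forall_and, hb] using h2)

theorem itr_pred_le [Fact p.Prime] {A M : ZMod p → AddSubgroup L} {B : AddSubgroup L} (h : Gr A M)
    (h0 : M 0 = ⊥) (hA : A 0 = ⊥) (hB : ∀ j, ∀ b ∈ B, ∀ y ∈ M j, ⁅b, y⁆ ∈ B)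
    (hc : ∀ i j k, ∀ a ∈ A i, ∀ y ∈ M j, ∀ z ∈ M k, ⁅a, ⁅y, z⁆⁆ ∈ B) :
    itr (⨆ i, A i) (⨆ i, M i) (p - 1) ≤ B := by
  have h1 : ∀ l : List (ZMod p × L), (∀ y ∈ l, y.2 ∈ M y.1) → ∀ b ∈ B, ad l b ∈ B := fun l => by
    induction l with
    | nil => exact fun _ b hb => hb
    | cons y l ih => exact fun h b hb => ih (fun z hz => h z (by simp [hz])) _ (hB _ b hb _ (h y (by simp)))
  have h2 : ∀ l : List (ZMod p × L), (∀ y ∈ l, y.2 ∈ M y.1) → ∀ j, ∀ z ∈ M j, ∀ i, ∀ a ∈ A i,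
      ad l ⁅a, z⁆ - ⁅ad l a, z⁆ ∈ B := fun l => by
    induction l with
    | nil => exact fun _ j z _ i a _ => by simp [ad]
    | cons y l ih =>
      intro h3 j z hz i a ha
      have h4 := h3 y (by simp)
      have h5 : ∀ w ∈ l, w.2 ∈ M w.1 := fun z hz => h3 z (by simp [hz])
      have h6 := add_mem (ih h5 j z hz _ _ (h _ _ a ha _ h4)) (h1 l h5 _ (hc _ _ _ a ha z hz _ h4))
      rw [leibniz_lie, ← lie_skew z, map_add, map_neg] at h6
      convert h6 using 1
      rw [ad_cons, ad_cons]; abel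
  have h3 : ∀ l : List (ZMod p × L), (∀ y ∈ l, y.2 ∈ M y.1) → ∀ i, Reach l i → ∀ a ∈ A i,
      ad l a ∈ B := fun l => by
    induction l with
    | nil => rintro - _ rfl a ha; rw [hA, mem_bot] at ha; rw [ha, map_zero]; exact zero_mem _
    | cons y l ih =>
      intro h3 i h4 a ha
      have h5 := h3 y (by simp)
      have h6 : ∀ w ∈ l, w.2 ∈ M w.1 := fun z hz => h3 z (by simp [hz])
      rw [ad_cons]
      rcases h4 with h4 | h4 | h4
      · rw [h4, h0, mem_bot] at h5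
        rw [h5, lie_zero, map_zero]; exact zero_mem _
      · simpa using add_mem (h2 l h6 _ _ h5 i a ha) (hB _ _ (ih h6 i h4 a ha) _ h5)
      · exact ih h6 _ h4 _ (h _ _ a ha _ h5)
  exact itr_le _ fun i a ha l h4 h5 => h3 l h5 i (reach_of_length h4 i) a ha

theorem kostrikin [Fact p.Prime] (s : ℕ) : ∀ {M : ZMod p → AddSubgroup L}, Gr M M → M 0 = ⊥ →
    (∀ u, der^[s] M u = ⊥) →
    itr (⨆ i, M i) (⨆ i, M i) (∑ i ∈ Finset.range s, (p - 1) ^ i) = ⊥ := by
  induction s with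
  | zero => exact fun _ _ h => iSup_eq_bot.mpr h
  | succ s ih =>
    intro M h h0 h1
    obtain ⟨h2, h3⟩ := h.der 1
    have h4 := ih h2 (eq_bot_iff.mpr (h0 ▸ h3 0)) h1
    set N := der^[1] M
    let Γ : ℕ → ZMod p → AddSubgroup L := fun c => (fun A => brF A N)^[c] N
    have hΓ : ∀ c, Γ (c + 1) = brF (Γ c) N := fun c => Function.iterate_succ_apply' _ _ _
    have h5 : ∀ c, Gr (Γ c) M ∧ Γ c 0 = ⊥ ∧ ⨆ i, Γ c i = itr (⨆ i, N i) (⨆ i, N i) c := fun c => by
      induction c with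
      | zero => exact ⟨h.brF h, eq_bot_iff.mpr (h0 ▸ h3 0), rfl⟩
      | succ c ih => exact hΓ c ▸ ⟨ih.1.brF (h.brF h), eq_bot_iff.mpr
          (ih.2.1 ▸ (ih.1.mono h3).brF_le 0), by rw [iSup_brF, ih.2.2]; rfl⟩
    have h6 : ∀ c, itr (⨆ i, N i) (⨆ i, M i) ((p - 1) * c) ≤ ⨆ i, Γ c i := fun c => by
      induction c with
      | zero => exact le_rfl
      | succ c ih =>
        rw [mul_add, mul_one, itr_add]
        refine (itr_mono ih _ _).trans (itr_pred_le (h5 c).1 h0 (h5 c).2.1 (fun j b hb y hy => ?_)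
          fun i j k a ha y hy z hz => mem_iSup_of_mem _ (hΓ c ▸ mem_brF ha (mem_brF hy hz)))
        exact (iSup_le fun i b hb => mem_iSup_of_mem _ ((h5 _).1 i j b hb y hy) :
          _ ≤ (⨆ i, Γ (c + 1) i).comap (adr y)) hb
    rw [Finset.sum_range_succ', pow_zero, add_comm, itr_add, eq_bot_iff, ← h4, ← (h5 _).2.2]
    simp only [pow_succ', ← Finset.mul_sum]
    refine le_trans (itr_mono (iSup_brF M M).ge _ _) (h6 _)

/-- The Higman-Kreknin-Kostrikin theorem. -/
theorem higman [Fact p.Prime] {M : ZMod p → AddSubgroup L} (h : Gr M M) (h0 : M 0 = ⊥) :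
    itr (⨆ i, M i) (⨆ i, M i) (∑ i ∈ Finset.range (2 ^ (p - 1) - 1), (p - 1) ^ i) = ⊥ :=
  kostrikin _ h h0 (kreknin h h0)

theorem higman_three {M : ZMod 3 → AddSubgroup L} (h : Gr M M) (h0 : M 0 = ⊥) :
    itr (⨆ i, M i) (⨆ i, M i) 2 = ⊥ := by
  have h1 : ∀ i j, i + j = 0 → ∀ x ∈ M i, ∀ y ∈ M j, ⁅x, y⁆ = 0 := fun i j e x hx y hy => by
    simpa [e, h0] using h i j x hx y hy
  have h2 : ∀ x ∈ M 0, x = 0 := by simp [h0]
  refine eq_bot_iff.mpr (itr_le 2 fun i a ha l hl h3 => ?_)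
  obtain ⟨⟨j, y⟩, ⟨k, z⟩, rfl⟩ := List.length_eq_two.mp hl
  have hy : y ∈ M j := h3 (j, y) (by simp)
  have hz : z ∈ M k := h3 (k, z) (by simp)
  show ⁅⁅a, y⁆, z⁆ = 0
  rcases (by decide : ∀ i j k : ZMod 3, i = 0 ∨ j = 0 ∨ k = 0 ∨ i + j = 0 ∨ i + j + k = 0 ∨
    (i + k = 0 ∧ j + k = 0)) i j k with rfl | rfl | rfl | e | e | ⟨e, e'⟩
  · simp [h2 a ha]
  · simp [h2 y hy]
  · simp [h2 z hz]
  · simp [h1 _ _ e a ha y hy]
  · exact h1 _ _ e _ (h _ _ a ha y hy) z hz
  · simp [lie_lie, h1 _ _ e a ha z hz, h1 _ _ e' y hy z hz]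

end Prime

end Cfsg.Agent.H1.Lie
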