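import Cfsg.Agent.H1.Kreknin

/-! Lie rings with an automorphism of prime order. -/

set_option autoImplicit false

namespace Cfsg.Agent.H1.Lie

open AddSubgroup TensorProduct

universe u

/-- `c` bounds the class of `ZMod p`-graded Lie rings with trivial zero component. -/
def Bound (p c : ℕ) : Prop := ∀ (L : Type u) [LieRing L] (M : ZMod p → AddSubgroup L), Gr M M →
  M 0 = ⊥ → itr (⨆ i, M i) (⨆ i, M i) c = ⊥

theorem Bound.tors {p c : ℕ} (hc : Bound.{u} p c) {L : Type u} [LieRing L]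
    {M : ZMod p → AddSubgroup L} (h : Gr M M) (e : ℕ) (h0 : ∀ x ∈ M 0, e • x = 0) :
    ∀ x ∈ itr (⨆ i, M i) (⨆ i, M i) c, e • x = 0 := by
  let T : LieIdeal ℤ L :=
    { carrier := {x | e • x = 0}
      add_mem' := fun {a b} (ha : _ = _) (hb : _ = _) => show _ = _ by rw [smul_add, ha, hb, add_zero]
      zero_mem' := smul_zero e
      smul_mem' := fun c x (hx : _ = _) => show _ = _ by rw [smul_comm, hx, smul_zero]
      lie_mem := fun {x m} (hm : _ = _) => show _ = _ by rw [← lie_nsmul, hm, lie_zero] }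
  let φ : L →+ L ⧸ T := (T : Submodule ℤ L).mkQ.toAddMonoidHom
  have hφ : ∀ a b, φ ⁅a, b⁆ = ⁅φ a, φ b⁆ := fun a b => LieSubmodule.Quotient.mk_bracket T a b
  have h1 := hc (L ⧸ T) (fun i => (M i).map φ) (by
    rintro i j _ ⟨x, hx, rfl⟩ _ ⟨y, hy, rfl⟩
    exact ⟨_, h i j x hx y hy, hφ x y⟩) (by
    refine eq_bot_iff.mpr ?_
    rintro _ ⟨x, hx, rfl⟩
    exact (LieSubmodule.Quotient.mk_eq_zero' (N := T)).mpr (h0 x hx))
  rw [← AddSubgroup.map_iSup] at h1
  have h2 : ∀ (S : AddSubgroup L) (m : ℕ), itr S S m ≤ (itr (S.map φ) (S.map φ) m).comap φ := by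
    intro S m
    induction m with
    | zero => exact le_comap_map _ _
    | succ m ih =>
      refine br_le fun a ha b hb => ?_
      rw [mem_comap, hφ]
      exact mem_br (ih ha) (mem_map_of_mem _ hb)
  intro x hx
  have h3 := h2 _ c hx
  rw [h1] at h3
  exact (LieSubmodule.Quotient.mk_eq_zero' (N := T)).mp h3

theorem lie_aut_aux {p c : ℕ} [hp : Fact p.Prime] (hc : Bound.{u} p c) {L : Type u} [LieRing L]
    {R A : Type} [CommRing R] [LieAlgebra R L] [CommRing A] [Algebra R A] [Module.Flat R A] (t : ZMod p → A) (ht0 : t 0 = 1)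
    (ht : ∀ i j, t (i + j) = t i * t j) (l : A →ₗ[R] R) (hl : l (p - ∑ i, t i) = -1) (α : L →ₗ[R] L) (hα : ∀ x y, α ⁅x, y⁆ = ⁅α x, α y⁆) (h1 : α ^ p = 1) (e : ℕ)
    (he : ∀ x, α x = x → e • x = 0) : ∀ x ∈ itr (⊤ : AddSubgroup L) ⊤ c, (e * p ^ c) • x = 0 := by
  let N : A := ∑ i, t i
  have hN : ∀ i, t i * N = N := fun i => by
    rw [Finset.mul_sum]
    simp only [← ht]
    exact Fintype.sum_equiv (Equiv.addLeft i) _ _ fun _ => rfl
  have hNN : N * N = p * N := by
    rw [Finset.sum_mul]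
    simp [hN]
  let β : A ⊗[R] L →ₗ[A] A ⊗[R] L := α.baseChange A
  have hβ : ∀ x y, β ⁅x, y⁆ = ⁅β x, β y⁆ := fun x y => by
    induction x with
    | zero => simp
    | add a b ha hb => simp [add_lie, ha, hb]
    | tmul a x => induction y with
      | zero => simp
      | add a b ha hb => simp [lie_add, ha, hb]
      | tmul b y => simp [β, hα]
  let M : ZMod p → AddSubgroup (A ⊗[R] L) := fun i =>
    (LinearMap.ker (β - t i • LinearMap.id)).toAddSubgroup
  have hM : ∀ i x, x ∈ M i ↔ β x = t i • x := fun i x => by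
    simp [M, sub_eq_zero]
  have h2 := hc.tors (M := M) (fun i j x hx y hy => by
    rw [hM] at *
    rw [hβ, hx, hy, smul_lie, lie_smul, ht, mul_smul]) e (fun x hx => by
    have h3 : (α - 1).lTensor A x = 0 := by
      rw [hM] at hx
      rw [LinearMap.lTensor_sub, LinearMap.sub_apply, sub_eq_zero]
      refine hx.trans ?_
      rw [ht0, one_smul, Module.End.one_eq_id, LinearMap.lTensor_id]; rfl
    obtain ⟨z, rfl⟩ := (Module.Flat.lTensor_exact A (LinearMap.exact_subtype_ker_map (α - 1)) x).mp h3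
    suffices e • z = 0 by rw [← map_nsmul, this, map_zero]
    clear hx h3
    induction z with
    | zero => simp
    | add a b ha hb => rw [smul_add, ha, hb, add_zero]
    | tmul a x =>
      rw [← tmul_smul, show e • x = 0 from Subtype.ext (he x (sub_eq_zero.mp x.2)),
        tmul_zero])
  set S := ⨆ i, M i
  let a : ZMod p → Module.End R L := fun k => α ^ k.val
  have ha : ∀ k x, α (a k x) = a (k + 1) x := fun k x => by
    simp only [a, ZMod.val_add, ZMod.val_one]
    rw [← pow_eq_pow_mod _ h1, pow_succ']; rfl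
  have h4 : ∀ x : L, (p - N) ⊗ₜ[R] x ∈ S := fun x => by
    have h5 : ∀ i, ∑ k, t (-(i * k)) ⊗ₜ[R] a k x ∈ M i := fun i => by
      rw [hM, map_sum, Finset.smul_sum]
      refine Fintype.sum_equiv (Equiv.addRight 1) _ _ fun k => ?_
      simp only [β, LinearMap.baseChange_tmul, ha, Equiv.coe_addRight, smul_tmul', smul_eq_mul, ← ht]
      congr 2; ring
    have h6 : N ⊗ₜ[R] ∑ k, a k x ∈ M 0 := by
      rw [hM, ht0, one_smul]
      simp only [β, LinearMap.baseChange_tmul, map_sum, ha]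
      congr 1
      exact Fintype.sum_equiv (Equiv.addRight 1) _ _ fun k => rfl
    convert sub_mem (sum_mem fun i (_ : i ∈ Finset.univ) => mem_iSup_of_mem i (h5 i))
      (mem_iSup_of_mem 0 h6) using 1
    rw [Finset.sum_comm, tmul_sum, ← Finset.sum_sub_distrib, Finset.sum_eq_single 0]
    · simp [a, ← sum_tmul, sub_tmul, ht0, smul_tmul']
    · intro k _ hk
      rw [← sum_tmul, sub_eq_zero]
      congr 1
      exact Fintype.sum_equiv (Equiv.mulRight₀ (-k) (neg_ne_zero.mpr hk)) _ _ fun i => by simp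
    · simp
  have h7 : ∀ m, ∀ x ∈ itr (⊤ : AddSubgroup L) ⊤ m, p ^ m • (p - N) ⊗ₜ[R] x ∈ itr S S m := fun m => by
    induction m with
    | zero => simpa [itr] using h4
    | succ m ih =>
      refine fun x hx => (br_le fun x hx y _ => ?_ : _ ≤ (itr S S (m + 1)).comap
        (p ^ (m + 1) • (TensorProduct.mk R A L (p - N)).toAddMonoidHom)) hx
      convert (mem_br (ih x hx) (h4 y) : _ ∈ itr S S (m + 1))
      rw [mem_comap, nsmul_lie, LieAlgebra.ExtendScalars.bracket_tmul,
        show (p - N) * (p - N) = p • (p - N) by rw [nsmul_eq_mul]; linear_combination hNN,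
        ← smul_tmul', smul_smul, ← pow_succ]
      rfl
  intro x hx
  have h8 := congrArg (TensorProduct.lift (LinearMap.lsmul R L ∘ₗ l)) (h2 _ (h7 c x hx))
  simp only [map_nsmul, lift.tmul, LinearMap.comp_apply, show l (p - N) = -1 from hl] at h8
  simpa [mul_smul] using h8

theorem lie_aut {p c : ℕ} [hp : Fact p.Prime] (hc : Bound.{u} p c) {L : Type u} [LieRing L]
    (α : L →ₗ[ℤ] L) (hα : ∀ x y, α ⁅x, y⁆ = ⁅α x, α y⁆) (h1 : α ^ p = 1) (e : ℕ)
    (he : ∀ x, α x = x → e • x = 0) : ∀ x ∈ itr (⊤ : AddSubgroup L) ⊤ c, (e * p ^ c) • x = 0 := by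
  haveI : Module.Free ℤ (AddMonoidAlgebra ℤ (ZMod p)) :=
    Module.Free.of_basis (AddMonoidAlgebra.basis (ZMod p) ℤ)
  refine lie_aut_aux hc (A := AddMonoidAlgebra ℤ (ZMod p)) (fun i => AddMonoidAlgebra.single i 1) rfl
    (fun i j => by simp) (Finsupp.lapply 1 ∘ₗ (AddMonoidAlgebra.coeffLinearEquiv ℤ).toLinearMap)
    ?_ α hα h1 e he
  simp [AddMonoidAlgebra.natCast_def, Finsupp.single_apply]

end Cfsg.Agent.H1.Lie
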