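import Cfsg.Agent.H1.LieAut
import Cfsg.Agent.H9.HallPet

/-! The Lie ring of the lower central series of a group. -/

set_option autoImplicit false

namespace Cfsg.Agent.H1.Lie

open Subgroup DirectSum
open scoped commutatorElement

universe u

variable {G : Type u} [Group G]

variable (G) in
/-- The lower central series. -/
abbrev lcs (i : ℕ) : Subgroup G := (⊤ : Subgroup G).lowerCentralSeries i

theorem lcs_comm {i j : ℕ} {x y : G} (hx : x ∈ lcs G i) (hy : y ∈ lcs G j) :
    ⁅x, y⁆ ∈ lcs G (i + j + 1) :=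
  H9.commutator_lowerCentralSeries_le ⊤ i j (commutator_mem_commutator hx hy)

theorem lcs_anti {i j : ℕ} (h : i ≤ j) : lcs G j ≤ lcs G i := Subgroup.lowerCentralSeries_antitone _ h

variable (G) in
/-- Factors of the lower central series. -/
def Sec (i : ℕ) : Type u := lcs G i ⧸ (lcs G (i + 1)).subgroupOf (lcs G i)

instance instCommGroupSec (i : ℕ) : CommGroup (Sec G i) :=
  { QuotientGroup.Quotient.group ((lcs G (i + 1)).subgroupOf (lcs G i)) with
    mul_comm := fun a b => by
      obtain ⟨a, rfl⟩ := QuotientGroup.mk_surjective a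
      obtain ⟨b, rfl⟩ := QuotientGroup.mk_surjective b
      refine QuotientGroup.eq.mpr (mem_subgroupOf.mpr ?_)
      show (a * b : G)⁻¹ * (b * a) ∈ _
      rw [show (a * b : G)⁻¹ * (b * a) = ⁅(b : G)⁻¹, (a : G)⁻¹⁆ by simp [commutatorElement_def, mul_assoc]]
      exact commutator_mem_commutator (inv_mem b.2) (mem_top _) }

variable (G) in
/-- The associated graded ring. -/
def LR : Type u := ⨁ i, Additive (Sec G i)

instance instAddCommGroupLR : AddCommGroup (LR G) :=
  inferInstanceAs (AddCommGroup (⨁ i, Additive (Sec G i)))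

/-- Inclusion of a factor. -/
def LR.of (i : ℕ) : Additive (Sec G i) →+ LR G := DirectSum.of (fun i => Additive (Sec G i)) i

open Classical in
/-- The image of `x` in degree `i`. -/
noncomputable def mk (i : ℕ) (x : G) : LR G :=
  if h : x ∈ lcs G i then LR.of i (Additive.ofMul (QuotientGroup.mk ⟨x, h⟩)) else 0

theorem mk_def {i : ℕ} (x : lcs G i) : mk i x.1 = LR.of i (Additive.ofMul (QuotientGroup.mk x)) :=
  dif_pos x.2

theorem mk_mul {i : ℕ} {x y : G} (hx : x ∈ lcs G i) (hy : y ∈ lcs G i) :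
    mk i (x * y) = mk i x + mk i y := by
  rw [mk_def ⟨x, hx⟩, mk_def ⟨y, hy⟩, ← map_add]; exact mk_def (⟨x, hx⟩ * ⟨y, hy⟩)

theorem mk_pow {i : ℕ} {x : G} (hx : x ∈ lcs G i) (n : ℕ) : mk i (x ^ n) = n • mk i x := by
  rw [mk_def ⟨x, hx⟩, ← map_nsmul]; exact mk_def (⟨x, hx⟩ ^ n)

theorem mk_inv {i : ℕ} {x : G} (hx : x ∈ lcs G i) : mk i x⁻¹ = - mk i x := by
  rw [mk_def ⟨x, hx⟩, ← map_neg]; exact mk_def (⟨x, hx⟩⁻¹)

theorem mk_eq_zero {i : ℕ} {x : G} (hx : x ∈ lcs G i) : mk i x = 0 ↔ x ∈ lcs G (i + 1) := by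
  rw [mk_def ⟨x, hx⟩]
  exact (map_eq_zero_iff _ (DirectSum.of_injective i)).trans (QuotientGroup.eq_one_iff _)

theorem mk_zero {i : ℕ} {x : G} (hx : x ∈ lcs G (i + 1)) : mk i x = 0 :=
  (mk_eq_zero (lcs_anti i.le_succ hx)).mpr hx

theorem mk_conj {i : ℕ} {x : G} (hx : x ∈ lcs G i) (g : G) : mk i (g * x * g⁻¹) = mk i x := by
  have h : ⁅x⁻¹, g⁆ ∈ lcs G (i + 1) := commutator_mem_commutator (inv_mem hx) (mem_top g)
  rw [show g * x * g⁻¹ = x * ⁅x⁻¹, g⁆ by group, mk_mul hx (lcs_anti i.le_succ h), mk_zero h, add_zero]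

theorem LR.ind {P : LR G → Prop} (h0 : P 0) (h1 : ∀ i, ∀ x ∈ lcs G i, P (mk i x))
    (h2 : ∀ a b, P a → P b → P (a + b)) (z : LR G) : P z := by
  refine DirectSum.induction_on (β := fun i => Additive (Sec G i)) z h0 (fun i a => ?_) h2
  obtain ⟨a, rfl⟩ := QuotientGroup.mk_surjective (show Sec G i from a)
  exact mk_def a ▸ h1 i a.1 a.2

variable {B : Type*} [AddCommGroup B]

theorem LR.ext {f g : LR G →+ B} (h : ∀ i, ∀ x ∈ lcs G i, f (mk i x) = g (mk i x)) : f = g :=
  AddMonoidHom.ext (LR.ind (by simp) h fun a b ha hb => by simp [ha, hb])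

/-- The universal property. -/
def LR.lift (f : ∀ i, lcs G i → B) (hm : ∀ i x y, f i (x * y) = f i x + f i y)
    (h0 : ∀ i x, x.1 ∈ lcs G (i + 1) → f i x = 0) : LR G →+ B :=
  DirectSum.toAddMonoid fun i => MonoidHom.toAdditiveLeft (QuotientGroup.lift _
    (MonoidHom.mk' (fun x => Multiplicative.ofAdd (f i x)) (hm i)) (h0 i))

theorem LR.lift_mk {f : ∀ i, lcs G i → B} (hm h0) {i : ℕ} {x : G} (hx : x ∈ lcs G i) :
    LR.lift f hm h0 (mk i x) = f i ⟨x, hx⟩ := by
  rw [mk_def ⟨x, hx⟩]; exact DirectSum.toAddMonoid_of _ _ _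

/-- The bracket. -/
noncomputable def LR.brk : LR G →+ LR G →+ LR G :=
  LR.lift (fun i x => LR.lift (fun j y => mk (i + j + 1) ⁅x.1, y.1⁆) (fun j y z => by
      rw [← mk_conj (lcs_comm x.2 z.2) y, ← mk_mul (lcs_comm x.2 y.2)
        (Normal.conj_mem inferInstance _ (lcs_comm x.2 z.2) _), coe_mul]
      congr 1; group) fun j y hy => mk_zero (lcs_comm x.2 hy :))
    (fun i x y => LR.ext fun j z hz => by
      simp only [AddMonoidHom.add_apply, LR.lift_mk _ _ hz]
      rw [← mk_conj (lcs_comm y.2 hz) x, add_comm (mk _ _), ← mk_mul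
        (Normal.conj_mem inferInstance _ (lcs_comm y.2 hz) _) (lcs_comm x.2 hz), coe_mul]
      congr 1; group)
    fun i x hx => LR.ext fun j z hz => by
      rw [LR.lift_mk _ _ hz]
      exact mk_zero (lcs_anti (by omega) (lcs_comm hx hz))

theorem LR.brk_mk {i j : ℕ} {x y : G} (hx : x ∈ lcs G i) (hy : y ∈ lcs G j) :
    LR.brk (mk i x) (mk j y) = mk (i + j + 1) ⁅x, y⁆ := by
  rw [LR.brk, LR.lift_mk _ _ hx, LR.lift_mk _ _ hy]

theorem LR.brk_skew (a b : LR G) : LR.brk a b = - LR.brk b a := by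
  have : (LR.brk : LR G →+ _) = - LR.brk.flip := LR.ext fun i x hx => LR.ext fun j y hy => by
    rw [LR.brk_mk hx hy, AddMonoidHom.neg_apply, AddMonoidHom.neg_apply, AddMonoidHom.flip_apply,
      LR.brk_mk hy hx, ← mk_inv (lcs_comm hy hx), commutatorElement_inv, add_comm i]
  exact DFunLike.congr_fun (DFunLike.congr_fun this a) b

theorem LR.jacobi (a b c : LR G) :
    LR.brk (LR.brk a b) c + LR.brk (LR.brk b c) a + LR.brk (LR.brk c a) b = 0 := by
  induction a using LR.ind with
  | h0 => simp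
  | h2 a a' h h' => linear_combination (norm := (simp; abel)) h + h'
  | h1 i x hx => induction b using LR.ind with
    | h0 => simp
    | h2 a a' h h' => linear_combination (norm := (simp; abel)) h + h'
    | h1 j y hy => induction c using LR.ind with
      | h0 => simp
      | h2 a a' h h' => linear_combination (norm := (simp; abel)) h + h'
      | h1 k z hz =>
        have h : ∀ {i} {x : G}, x ∈ lcs G i → ∀ g, g * x * g⁻¹ ∈ lcs G i := fun hx g =>
          Normal.conj_mem inferInstance _ hx g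
        have h1 := lcs_comm (lcs_comm hx hy) (h hz y)
        have h2 := lcs_comm (lcs_comm hy hz) (h hx z)
        have h3 := lcs_comm (lcs_comm hz hx) (h hy x)
        rw [LR.brk_mk hx hy, LR.brk_mk hy hz, LR.brk_mk hz hx, ← mk_conj hz y, ← mk_conj hx z,
          ← mk_conj hy x, LR.brk_mk (lcs_comm hx hy) (h hz y), LR.brk_mk (lcs_comm hy hz) (h hx z),
          LR.brk_mk (lcs_comm hz hx) (h hy x)]
        rw [show j + k + 1 + i = i + j + 1 + k by omega] at h2 ⊢
        rw [show k + i + 1 + j = i + j + 1 + k by omega] at h3 ⊢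
        rw [← mk_mul h1 h2, ← mk_mul (mul_mem h1 h2) h3]
        refine mk_zero ?_
        convert (lcs G _).one_mem
        group

noncomputable instance instLieRingLR : LieRing (LR G) where
  bracket a b := LR.brk a b
  add_lie a b c := by simp
  lie_add a b c := by simp
  lie_self a := by
    induction a using LR.ind with
    | h0 => simp
    | h1 i x hx => rw [LR.brk_mk hx hx, commutatorElement_self]; exact mk_zero (one_mem _)
    | h2 a b ha hb => simp [ha, hb, LR.brk_skew a b]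
  leibniz_lie a b c := by
    have := LR.jacobi a b c
    rw [LR.brk_skew (LR.brk b c) a, LR.brk_skew (LR.brk c a) b, LR.brk_skew c a] at this
    linear_combination (norm := (simp; abel)) -this

theorem lie_mk {i j : ℕ} {x y : G} (hx : x ∈ lcs G i) (hy : y ∈ lcs G j) :
    ⁅mk i x, mk j y⁆ = mk (i + j + 1) ⁅x, y⁆ := LR.brk_mk hx hy

theorem mk_mem_itr (i : ℕ) : ∀ x ∈ lcs G i, mk i x ∈ itr (⊤ : AddSubgroup (LR G)) ⊤ i := by
  induction i with
  | zero => exact fun _ _ => trivial
  | succ i ih =>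
    intro x hx
    induction hx using closure_induction with
    | mem x hx =>
      obtain ⟨a, ha, b, -, rfl⟩ := hx
      exact lie_mk (j := 0) ha (mem_top b) ▸ mem_br (ih a ha) trivial
    | one => rw [mk_zero (one_mem _)]; exact zero_mem _
    | mul a b ha hb h h' => rw [mk_mul ha hb]; exact add_mem h h'
    | inv a ha h => rw [mk_inv ha]; exact neg_mem h

/-- Projection to a homogeneous component. -/
def LR.pr (i : ℕ) : LR G →+ LR G := (LR.of i).comp (DFinsupp.evalAddMonoidHom i)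

theorem LR.pr_mk (i j : ℕ) (x : G) : LR.pr i (mk j x) = if j = i then mk j x else 0 := by
  by_cases hx : x ∈ lcs G j
  · rw [mk_def ⟨x, hx⟩]
    split_ifs with h
    · subst h; exact congrArg (LR.of j) (DirectSum.of_eq_same _ _)
    · exact (congrArg (LR.of i) (DirectSum.of_eq_of_ne (β := fun i => Additive (Sec G i)) _ _ _
        (Ne.symm h))).trans (map_zero _)
  · simp [mk, hx]

theorem pow_mem_lcs {p c : ℕ} [Fact p.Prime] (hc : Bound.{u} p c) (α : MulAut G) (h1 : α ^ p = 1)
    (e : ℕ) (he : ∀ i, ∀ x ∈ lcs G i, x⁻¹ * α x ∈ lcs G (i + 1) → x ^ e ∈ lcs G (i + 1)) {i : ℕ}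
    (hi : c ≤ i) {x : G} (hx : x ∈ lcs G i) : x ^ (e * p ^ c) ∈ lcs G (i + 1) := by
  have h2 : ∀ (α : MulAut G) {i} {x : G}, x ∈ lcs G i → α x ∈ lcs G i := fun α i x hx =>
    (characteristic_iff_le_comap.mp inferInstance α) hx
  let β : LR G →+ LR G := LR.lift (fun i x => mk i (α x))
    (fun i x y => by rw [coe_mul, map_mul, mk_mul (h2 α x.2) (h2 α y.2)]) fun i x hx => mk_zero (h2 α hx)
  have hβ : ∀ {i} {x : G}, x ∈ lcs G i → β (mk i x) = mk i (α x) := fun hx => LR.lift_mk _ _ hx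
  have h3 := lie_aut hc β.toIntLinearMap (fun a b => ?_) ?_ e fun z hz => ?_
  · rw [← mk_eq_zero (pow_mem hx _), mk_pow hx]
    refine h3 _ ?_
    obtain ⟨d, rfl⟩ := Nat.exists_eq_add_of_le' hi
    exact itr_mono le_top _ _ ((itr_add ⊤ ⊤ d c).le (mk_mem_itr _ x hx))
  · have : LR.brk.compr₂ β = (LR.brk.compl₂ β).comp β := LR.ext fun i x hx => LR.ext fun j y hy => by
      simp [LR.brk_mk, hβ, hx, hy, h2, hβ (lcs_comm hx hy), map_commutatorElement]
    exact DFunLike.congr_fun (DFunLike.congr_fun this a) b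
  · have : ∀ (n : ℕ) {i} {x : G}, x ∈ lcs G i → (β.toIntLinearMap ^ n) (mk i x) = mk i ((α ^ n) x) :=
      fun n i x hx => by
        induction n with
        | zero => rfl
        | succ n ih => rw [pow_succ', pow_succ', Module.End.mul_apply, ih]; exact hβ (h2 _ hx)
    exact LinearMap.toAddMonoidHom_injective (LR.ext fun i x hx => (this p hx).trans (by rw [h1]; rfl))
  · refine DFinsupp.ext fun i => DirectSum.of_injective (β := fun i => Additive (Sec G i)) i ?_
    change LR.pr i (e • z) = LR.pr i 0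
    have h4 : (LR.pr i).comp β = β.comp (LR.pr i) := LR.ext fun j x hx => by
      simp only [AddMonoidHom.comp_apply, hβ hx, LR.pr_mk]
      split_ifs <;> simp [hβ hx]
    obtain ⟨y, hy⟩ := QuotientGroup.mk_surjective 
      (show Sec G i from DFinsupp.evalAddMonoidHom (β := fun i => Additive (Sec G i)) i z)
    have h5 : LR.pr i z = mk i y.1 := by rw [mk_def, hy]; rfl
    have h6 := DFunLike.congr_fun h4 z
    rw [AddMonoidHom.comp_apply, AddMonoidHom.comp_apply, show β z = z from hz, h5, hβ y.2] at h6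
    rw [map_nsmul, map_zero, h5, ← mk_pow y.2]
    refine mk_zero (he i _ y.2 ((mk_eq_zero (mul_mem (inv_mem y.2) (h2 α y.2))).mp ?_))
    rw [mk_mul (inv_mem y.2) (h2 α y.2), mk_inv y.2, ← h6, neg_add_cancel]

end Cfsg.Agent.H1.Lie
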