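import Cfsg.Agent.H24.SPE
import Cfsg.Agent.S0658
import Cfsg.Agent.S3815
import Cfsg.Agent.H4.Burnside
import Cfsg.Agent.H10.Dich1
import Cfsg.Agent.H10.Sig2
import Cfsg.Agent.H9.Stab

/-! Minimal simple groups are generated by two elements: preliminary lemmas. -/

namespace Cfsg.Agent.H1.Two

open Subgroup H24
open H10 (OqOf OpOf PPOf PPOf_le le_normalizer_PPOf PPOf_le_sup mem_PPOf_of_centralizes PLayOf_eq_bot_of_solvable
  OqOf_coprime OqOf_le le_normalizer_OqOf)
open scoped commutatorElement Pointwise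

variable {G : Type*} [Group G] [Finite G] {p : ℕ} [hp : Fact p.Prime]

theorem toH1 {T H : Subgroup G} (h : SylIn p T H) : H1.IsSylowIn p T H := ⟨h.le, h.pgrp, h.not_dvd_relIndex⟩

/-- Solvable groups with a strongly embedded subgroup. -/
theorem struct {M H : Subgroup G} (hs : Group.IsSolvable H) (h : SE p M H) {x : G} (hxH : x ∈ H) (hxM : x ∈ M)
    (hx : orderOf x = p) :
    (∀ a ∈ H, a ^ p = 1 → a * x = x * a → a ∈ zpowers x) ∧ H ≤ OqOf p H ⊔ (H ⊓ 𝐍[zpowers x]) := by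
  have hxp : IsPGroup p (zpowers x) := isPGroup_zpowers (k := 1) (by rw [pow_one, ← hx, pow_orderOf_eq_one])
  obtain ⟨T', hT', hT'M, -⟩ := h.exists_sylIn
  obtain ⟨g, hg, hgT⟩ := hT'.exists_cj_le hxp (zpowers_le.2 hxH)
  have hgM : g ∈ M := h.mem x hxH hxM hx g hg (hT'M (hgT (conj_mem_cj (mem_zpowers x) g)))
  have hT : SylIn p (cj T' g⁻¹) H := hT'.cj_of_mem (H.inv_mem hg)
  have hTM : cj T' g⁻¹ ≤ M := cj_le_of_mem hT'M (M.inv_mem hgM)
  have hxT : x ∈ cj T' g⁻¹ := cj_le_iff.1 hgT (mem_zpowers x)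
  generalize cj T' g⁻¹ = T at hT hTM hxT
  have hQ : SylIn p (T ⊓ PPOf p H) (PPOf p H) := hT.inf_normal PPOf_le le_normalizer_PPOf
  set Q := T ⊓ PPOf p H with hQdef
  have hD := PPOf_le_sup (toH1 hQ)
  have hfr : H ≤ OqOf p H ⊔ (H ⊓ 𝐍[Q]) := by
    refine (hQ.frattini_sup PPOf_le le_normalizer_PPOf).ge.trans (sup_le (hD.trans (sup_le ?_ le_sup_left)) le_sup_right)
    exact le_sup_of_le_right (le_inf (inf_le_left.trans hT.le) le_normalizer)
  have hQ0 : Q ≠ ⊥ := by
    intro e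
    have := hD (mem_PPOf_of_centralizes (PLayOf_eq_bot_of_solvable hs) (toH1 hQ) hxH (by rw [e]; simp))
    rw [e, bot_sup_eq] at this
    exact (hp.out.coprime_iff_not_dvd.1 OqOf_coprime.symm) (dvd_card_of_orderOf this hx)
  have hNQ : H ⊓ 𝐍[Q] ≤ M := h.normalizer_le' (inf_le_left.trans hT.le) (inf_le_left.trans hTM) hQ.pgrp hQ0
  have h1 : ∀ a ∈ H, a ^ p = 1 → a * x = x * a → a ∈ zpowers x := by
    intro a ha hap hc
    by_contra hn
    have hap' : IsPGroup p (zpowers a) := isPGroup_zpowers (k := 1) (by rwa [pow_one])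
    have hcc : zpowers a ≤ 𝐂[zpowers x] := by
      rw [centralizer_zpowers, zpowers_le]; exact mem_centralizer_singleton_iff.2 hc
    have hAH : zpowers a ⊔ zpowers x ≤ H := sup_le (zpowers_le.2 ha) (zpowers_le.2 hxH)
    refine h.not_le (hfr.trans (sup_le (h.le_of_not_isCyclic hAH
      (sup_le (zpowers_le.2 (h.mem_of_commute hxH hxM hx ha hc)) (zpowers_le.2 hxM))
      (isPGroup_sup_of_le_normalizer_right hap' hxp (le_normalizer_of_le_centralizer hcc))
      (isMulCommutative_sup inferInstance inferInstance hcc) (fun hcy => hn ?_) OqOf_le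
      (le_normalizer_OqOf (hAH.trans le_normalizer)) OqOf_coprime) hNQ))
    obtain ⟨n, hn⟩ := uniq_of_isCyclic (p := p) (X := ↥(zpowers a ⊔ zpowers x))
      ⟨x, mem_sup_right (mem_zpowers x)⟩ ⟨a, mem_sup_left (mem_zpowers a)⟩ (by rw [← hx, orderOf_mk])
      (Subtype.ext (by simpa using hap))
    exact ⟨n, by simpa using congrArg Subtype.val hn⟩
  refine ⟨h1, hfr.trans (sup_le_sup_left ?_ _)⟩
  have hz : Q ⊓ 𝐂[T] ≠ ⊥ := inf_centralizer_ne_bot hQ.pgrp hT.pgrp
    (le_normalizer_inf le_normalizer (hT.le.trans le_normalizer_PPOf)) hQ0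
  obtain ⟨z, hz, hzo⟩ := exists_orderOf_eq_prime (p := p) (dvd_card_of_ne_bot (hQ.pgrp.to_le inf_le_left) hz)
  have hzx : z ∈ zpowers x := h1 z (hT.le hz.1.1) (hzo ▸ pow_orderOf_eq_one z) (hz.2 x hxT).symm
  have e : zpowers z = zpowers x := H24.eq_of_le_of_card_le (zpowers_le.2 hzx) (by
    rw [Nat.card_zpowers, Nat.card_zpowers, hx, hzo])
  have hx2 : x ∈ Q ⊓ 𝐂[T] := zpowers_le.2 hz (e ▸ mem_zpowers x)
  refine fun n hn => ⟨hn.1, mem_normalizer_of_cj_le ?_⟩
  have hm := conj_mem_of_mem_normalizer hn.2 hx2.1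
  rw [cj_zpowers, zpowers_le]
  exact h1 _ (hT.le hm.1) (by rw [conj_pow, ← hx, pow_orderOf_eq_one]; simp) (hx2.2 _ hm.1)

/-- The key trick: a conjugating element inside the join of two conjugates. -/
theorem exists_d {M H : Subgroup G} (hs : Group.IsSolvable H) (h : SE p M H) {x y : G} (hxH : x ∈ H) (hxM : x ∈ M)
    (hx : orderOf x = p) (hy : y ∈ H) :
    ∃ d ∈ zpowers x ⊔ cj (zpowers x) y, cj (zpowers x) d = cj (zpowers x) y := by
  have hxp : IsPGroup p (zpowers x) := isPGroup_zpowers (k := 1) (by rw [pow_one, ← hx, pow_orderOf_eq_one])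
  have hK : H ≤ 𝐍[OqOf p H] := le_normalizer_OqOf le_normalizer
  obtain ⟨k, hk, n, hn, e⟩ := (H24.mem_sup_of_le_normalizer_left (inf_le_left.trans hK)).1
    ((struct hs h hxH hxM hx).2 hy)
  have e1 : cj (zpowers x) y = cj (zpowers x) k := by rw [e, ← cj_cj, cj_eq_of_mem_normalizer hn.2]
  have hP : zpowers x ≤ 𝐍[OqOf p H] := (zpowers_le.2 hxH).trans hK
  have s1 : SylIn p (zpowers x) (zpowers x ⊔ OqOf p H) := sylIn_of_not_dvd le_sup_left hxp (fun hd => by
    have h1 := H24.card_sup_dvd hP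
    rw [← card_mul_relIndex (le_sup_left : zpowers x ≤ _)] at h1
    exact (hp.out.coprime_iff_not_dvd.1 OqOf_coprime.symm)
      (hd.trans (Nat.dvd_of_mul_dvd_mul_left Nat.card_pos h1)))
  have s2 := s1.cj_of_mem (mem_sup_right hk)
  rw [← e1] at s2
  exact (s1.of_le le_sup_left (sup_le le_sup_left s2.le)).exists_cj_eq
    (s2.of_le le_sup_right (sup_le le_sup_left s2.le))

omit [Finite G] hp in
theorem pow_comm_mul {V : Type*} [CommGroup V] (φ : G →* MulAut V) (ι : V →* G)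
    (hφ : ∀ g v, ι (φ g v) = g * ι v * g⁻¹) (w : V) (ε : G) (n : ℕ) :
    (ι w * ε) ^ n = ι (∏ i ∈ Finset.range n, φ (ε ^ i) w) * ε ^ n := by
  induction n with
  | zero => simp
  | succ n ih => rw [Finset.prod_range_succ, map_mul, hφ, pow_succ, ih]; group

theorem norm_ne {V : Type*} [CommGroup V] (φ : G →* MulAut V) {x ε : G} (hx : orderOf x = p) {e : ℕ} (he : 0 < e)
    (hε : ε ∈ 𝐍[zpowers x]) (hfree : ∀ i, 0 < i → i < e → ε ^ i * x ≠ x * ε ^ i)
    (hfix : ∀ w, φ x w = w → w = 1) (hN : ∀ w, ∏ i ∈ Finset.range e, φ (ε ^ i) w = 1) (w : V) : w ^ p = 1 := by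
  classical
  let P := zpowers x
  haveI : Fintype P := Fintype.ofFinite _
  have hP : Nat.card P = p := by rw [Nat.card_zpowers, hx]
  have tr : ∀ u, ∏ s : P, φ s u = 1 := fun u => hfix _ (by
    rw [map_prod]
    exact Fintype.prod_equiv (Equiv.mulLeft (⟨x, mem_zpowers x⟩ : P)) _ _ fun s => by
      rw [← MulAut.mul_apply, ← map_mul]; rfl)
  have h1 : ∏ s : P, ∏ i ∈ Finset.range e, φ (s * ε ^ i * (s : G)⁻¹) w = 1 := by
    refine Finset.prod_eq_one fun s _ => ?_
    have := congrArg (φ s) (hN (φ (s : G)⁻¹ w))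
    rw [map_prod, map_one] at this
    simpa using this
  rw [Finset.prod_comm, ← Finset.mul_prod_erase _ _ (Finset.mem_range.2 he),
    Finset.prod_eq_one (s := (Finset.range e).erase 0)] at h1
  · simpa [← Nat.card_eq_fintype_card, hP] using h1
  intro i hi
  have i0 := Nat.pos_of_ne_zero (Finset.ne_of_mem_erase hi)
  have ie := Finset.mem_range.1 (Finset.mem_of_mem_erase hi)
  let f : P → P := fun s => ⟨s * (ε ^ i * (s : G)⁻¹ * (ε ^ i)⁻¹),
    mul_mem s.2 (conj_mem_of_mem_normalizer (pow_mem hε i) (inv_mem s.2))⟩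
  have hf : Function.Injective f := by
    intro s t hst
    by_contra hne
    have h2 : zpowers (t⁻¹ * s) = ⊤ := zpowers_eq_top_of_prime_card hP (fun h => hne (inv_mul_eq_one.1 h).symm)
    have h3 : (s : G) * (ε ^ i * (s : G)⁻¹ * (ε ^ i)⁻¹) = t * (ε ^ i * (t : G)⁻¹ * (ε ^ i)⁻¹) :=
      congrArg Subtype.val hst
    have h4 : ((t⁻¹ * s : P) : G) ∈ centralizer {ε ^ i} := by
      rw [mem_centralizer_singleton_iff, coe_mul, coe_inv]
      calc (t : G)⁻¹ * s * ε ^ i = (t : G)⁻¹ * (s * (ε ^ i * (s : G)⁻¹ * (ε ^ i)⁻¹)) * ε ^ i * s := by group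
        _ = _ := by rw [h3]; group
    obtain ⟨n, hn⟩ : (⟨x, mem_zpowers x⟩ : P) ∈ zpowers (t⁻¹ * s) := h2 ▸ mem_top _
    have h5 : x = ((t⁻¹ * s : P) : G) ^ n := (congrArg Subtype.val hn).symm
    exact hfree i i0 ie (mem_centralizer_singleton_iff.1 (h5 ▸ zpow_mem h4 n)).symm
  rw [← tr (φ (ε ^ i) w)]
  refine Fintype.prod_equiv (Equiv.ofBijective f (Finite.injective_iff_bijective.1 hf)) _ _ fun s => ?_
  rw [← MulAut.mul_apply, ← map_mul]
  congr 2
  simp [f, mul_assoc]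

/-- A conjugacy class is not invariant under a nontrivial right translation in a simple group. -/
theorem no_translate [IsSimpleGroup G] {x u : G} (hx : x ≠ 1) (hu : u ≠ 1)
    (h : ∀ g, IsConj x (x * (g * u * g⁻¹))) : False := by
  let N : Submonoid G :=
    { carrier := {a | ∀ g, IsConj x (x * (g * a * g⁻¹))}
      one_mem' := fun g => by simpa using ⟨1, by simp⟩
      mul_mem' := fun {a b} ha hb g => by
        obtain ⟨c, hc⟩ := isConj_iff.1 (ha g)
        have := hb (c⁻¹ * g)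
        refine this.trans (isConj_iff.2 ⟨c, ?_⟩)
        calc c * (x * (c⁻¹ * g * b * (c⁻¹ * g)⁻¹)) * c⁻¹ = (c * x * c⁻¹) * (g * b * g⁻¹) := by group
          _ = _ := by rw [hc]; group }
  let N' : Subgroup G :=
    { toSubmonoid := N
      inv_mem' := fun {a} ha => by
        have : a⁻¹ = a ^ (orderOf a - 1) := by
          rw [inv_eq_iff_mul_eq_one, ← pow_succ', Nat.sub_add_cancel (orderOf_pos a), pow_orderOf_eq_one]
        rw [this]; exact N.pow_mem ha _ }
  have hn : N'.Normal := ⟨fun a ha c g => by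
    have := ha (g * c)
    rwa [show g * c * a * (g * c)⁻¹ = g * (c * a * c⁻¹) * g⁻¹ by group] at this⟩
  rcases hn.eq_bot_or_eq_top with e | e
  · exact hu (mem_bot.1 (e ▸ h : u ∈ (⊥ : Subgroup G)))
  · have : x⁻¹ ∈ N' := e ▸ mem_top _
    have := this 1
    simp only [one_mul, inv_one, mul_one, mul_inv_cancel, isConj_one_left] at this
    exact hx this

omit hp in
theorem isConj_mul_of_fpf {K : Subgroup G} {x u : G} (hn : x ∈ 𝐍[K]) (hu : u ∈ K)
    (h : ∀ k ∈ K, k * x = x * k → k = 1) : IsConj x (x * u) := by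
  let f : K → K := fun k => ⟨x⁻¹ * k * x * (k : G)⁻¹, mul_mem (conj_mem_of_mem_normalizer' hn k.2) (inv_mem k.2)⟩
  have hf : Function.Injective f := by
    intro a b hab
    have h1 : x⁻¹ * a * x * (a : G)⁻¹ = x⁻¹ * b * x * (b : G)⁻¹ := congrArg Subtype.val hab
    have := h _ (b⁻¹ * a).2 (by
      rw [coe_mul, coe_inv]
      calc (b : G)⁻¹ * a * x = (b : G)⁻¹ * x * (x⁻¹ * a * x * (a : G)⁻¹) * a := by group
        _ = _ := by rw [h1]; group)
    exact (inv_mul_eq_one.1 (Subtype.ext this)).symm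
  obtain ⟨k, hk⟩ := Finite.injective_iff_surjective.1 hf ⟨u, hu⟩
  refine isConj_iff.2 ⟨k, ?_⟩
  rw [← show x⁻¹ * k * x * (k : G)⁻¹ = u from congrArg Subtype.val hk]; group

end Cfsg.Agent.H1.Two
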