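import Cfsg.Agent.H1.Two1

/-! Minimal simple groups are generated by two elements. -/

namespace Cfsg.Agent.H1.Two

open Subgroup H24
open H10 (OqOf OpOf PPOf PPOf_le le_normalizer_PPOf PPOf_le_sup mem_PPOf_of_centralizes PLayOf_eq_bot_of_solvable
  OqOf_coprime OqOf_le le_normalizer_OqOf)
open scoped commutatorElement Pointwise

variable {G : Type*} [Group G] [Finite G] {p : ℕ} [hp : Fact p.Prime]

/-- A non-solvable simple group all of whose two-generated subgroups are proper and all of whose proper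
subgroups are solvable. -/
structure MS (G : Type*) [Group G] : Prop where
  simple : IsSimpleGroup G
  ns : ¬ Group.IsSolvable G
  solv : ∀ H : Subgroup G, H ≠ ⊤ → Group.IsSolvable H
  two : ∀ a b : G, closure {a, b} ≠ ⊤

omit [Finite G] hp in
theorem left_mem (a b : G) : a ∈ closure ({a, b} : Set G) := subset_closure (by simp)

omit [Finite G] hp in
theorem right_mem (a b : G) : b ∈ closure ({a, b} : Set G) := subset_closure (by simp)

theorem coprime_mul {H : Subgroup G} {d y : G} (hd : d ∈ OqOf p H) (hy : y ∈ H) (hc : (orderOf y).Coprime p) :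
    (Nat.card ↥(zpowers y ⊔ OqOf p H)).Coprime p :=
  Nat.Coprime.coprime_dvd_left (H24.card_sup_dvd ((zpowers_le.2 hy).trans (le_normalizer_OqOf le_normalizer)))
    (Nat.Coprime.mul_left (by rwa [Nat.card_zpowers]) OqOf_coprime)

namespace MS

omit [Finite G] hp in
theorem cent_ne (h : MS G) {x : G} (hx : x ≠ 1) : centralizer {x} ≠ ⊤ := by
  intro e
  haveI := h.simple
  have hz : x ∈ center G := mem_center_iff.2 fun g => mem_centralizer_singleton_iff.1 (e ▸ mem_top g)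
  rcases (inferInstance : (center G).Normal).eq_bot_or_eq_top with e | e
  · exact hx (mem_bot.1 (e ▸ hz))
  · exact h.ns (isSolvable_of_comm fun a b => mem_center_iff.1 (e ▸ mem_top b) a)

theorem norm_ne_top (h : MS G) {Q : Subgroup G} (hQ : IsPGroup p Q) (h0 : Q ≠ ⊥) : 𝐍[Q] ≠ ⊤ := by
  intro e
  haveI := h.simple
  have e' := ((top_le_normalizer_iff.1 e.ge).eq_bot_or_eq_top).resolve_left h0
  subst e'
  haveI := (hQ.of_equiv topEquiv).isNilpotent
  exact h.ns inferInstance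

theorem core_c (h : MS G) {x : G} (hx : x ≠ 1) {k : ℕ} (hk : x ^ p ^ k = 1) : OqOf p (centralizer {x}) = ⊥ := by
  haveI := h.simple
  rw [eq_bot_iff]
  intro d hd
  have hdo : (orderOf d).Coprime p := Nat.Coprime.coprime_dvd_left (orderOf_dvd_natCard _ hd) OqOf_coprime
  have hc : Commute d x := mem_centralizer_singleton_iff.1 (OqOf_le hd)
  have h1 := Cfsg.Agent.S3815.result d hdo fun y hy => by
    set H := closure {d * x, y} with hH
    have hxH : x ∈ H := H10.mem_of_pow_mem_of_coprime (hdo.pow_right k) (by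
      have := H.pow_mem (left_mem _ _) (orderOf d)
      rwa [hc.mul_pow, pow_orderOf_eq_one, one_mul] at this) (hk ▸ H.one_mem)
    have hdH : d ∈ H := (H.mul_mem_cancel_right hxH).1 (left_mem _ _)
    have h2 := H10.OqOf_inf_centralizer_le_of_solvable (isPGroup_zpowers hk)
      ((zpowers_le.2 hxH).trans le_normalizer) (h.solv H (h.two _ _))
    rw [centralizer_zpowers] at h2
    have h3 := h2 (H10.inf_OqOf_le (inf_le_right : H ⊓ centralizer {x} ≤ _) ⟨⟨hdH, OqOf_le hd⟩, hd⟩)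
    exact Nat.Coprime.coprime_dvd_left (orderOf_dvd_natCard _ (mul_mem (mem_sup_right h3)
      (mem_sup_left (mem_zpowers y)))) (coprime_mul h3 (right_mem _ _) hy)
  rcases (inferInstance : (pPrimeCore p G).Normal).eq_bot_or_eq_top with e | e
  · exact e ▸ h1
  · exfalso
    have h2 := H10.pPrimeCore_coprime p G
    rw [e, card_top] at h2
    exact hx (orderOf_eq_one_iff.1 (Nat.eq_one_of_dvd_coprimes (h2.pow_right k) (orderOf_dvd_natCard x)
      (orderOf_dvd_of_pow_eq_one hk)))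

theorem core_n (h : MS G) {Q : Subgroup G} (hQ : IsPGroup p Q) (h0 : Q ≠ ⊥) : OqOf p 𝐍[Q] = ⊥ := by
  obtain ⟨⟨x, hx⟩, hx1⟩ := ne_bot_iff_exists_ne_one.1 (center_ne_bot hQ h0)
  have hx1' : x ≠ 1 := fun e => hx1 (Subtype.ext e)
  obtain ⟨k, hk⟩ := isPGroup_iff.1 hQ x hx.1
  have hQx : Q ≤ centralizer {x} := fun a ha => mem_centralizer_singleton_iff.2 (hx.2 a ha)
  have h2 := H10.OqOf_inf_centralizer_le_of_solvable hQ (hQx.trans le_normalizer) (h.solv _ (h.cent_ne hx1'))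
  rw [h.core_c hx1' hk, inf_eq_right.2 (fun a ha => mem_centralizer_singleton_iff.2 (ha x hx.1).symm)] at h2
  rw [H10.OqOf_normalizer hQ, eq_bot_iff]
  exact h2

theorem exists_se (h : MS G) (h5 : 5 ≤ p) (hd : p ∣ Nat.card G) : ∃ M : Subgroup G, SE p M ⊤ := by
  obtain ⟨S⟩ : Nonempty (Sylow p G) := inferInstance
  have hS : (S : Subgroup G) ≠ ⊥ := (sylIn_top S).ne_bot (by rwa [card_top])
  have h2 : p ≠ 2 := by omega
  refine ⟨_, se_top_of_normalizer_le (sylIn_top S) hS ?_ fun A hA hA0 =>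
    Cfsg.Agent.S0658.result h2 (fun Q hQ hQ0 => ?_) S A hA hA0⟩
  · rw [H9.centerThompsonAOf_eq]
    exact h.norm_ne_top (S.isPGroup'.to_le (H9.centerThompsonOf_le 0 _))
      (H9.centerThompsonOf_ne_bot (dvd_zero p) S.isPGroup' hS)
  · have h0 := (H10.OqOf_eq_bot_iff _).1 (h.core_n hQ hQ0)
    have hs := H9.isPSolvable_of_isSolvable (p := p) (h.solv _ (h.norm_ne_top hQ hQ0))
    refine ⟨h0, H9.isPConstrained_of_isPSolvable hs, H9.isPStable_iff.2 ⟨hp.out.odd_of_ne_two h2, ?_,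
      (H9.stabCore_iff_of_pPrimeCore_eq_bot h0).2 fun P _ hP =>
        H9.isPStableOn_of_isPSolvable h2 hs (fun e => by omega) P hP⟩⟩
    rw [Ne, ← pCoreOf_eq_bot_iff]
    exact fun e => hQ0 (le_bot_iff.1 (e ▸ le_pCoreOf_normalizer hQ))

omit [Finite G] in
theorem se_sub {M H : Subgroup G} (hM : SE p M ⊤) {x : G} (hxH : x ∈ H) (hxM : x ∈ M) (hx : orderOf x = p)
    (hn : ¬ H ≤ M) : SE p M H := hM.of_le le_top hn (dvd_card_of_orderOf ⟨hxH, hxM⟩ hx)

/-- Every element normalizing `⟨x⟩` lies with `x` in a solvable subgroup not inside `M`. -/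
theorem exists_over (h : MS G) {M : Subgroup G} (hM : SE p M ⊤) {x : G} (hxM : x ∈ M) (hx : orderOf x = p)
    {c : G} (hc : c ∈ 𝐍[zpowers x]) : ∃ H : Subgroup G, Group.IsSolvable H ∧ x ∈ H ∧ c ∈ H ∧ ¬ H ≤ M := by
  obtain ⟨y, -, hy⟩ := SetLike.not_le_iff_exists.1 hM.not_le
  obtain ⟨d, hd, e⟩ := exists_d (h.solv _ (h.two x y))
    (se_sub hM (left_mem x y) hxM hx fun e => hy (e (right_mem x y))) (left_mem x y) hxM hx (right_mem x y)
  have h1 : cj (zpowers x) y ≤ closure {x, d * c} := by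
    rw [← e, ← cj_eq_of_mem_normalizer hc, cj_cj]
    exact cj_le_of_mem (zpowers_le.2 (left_mem _ _)) (right_mem _ _)
  have h2 : d ∈ closure {x, d * c} := sup_le (zpowers_le.2 (left_mem _ _)) h1 hd
  exact ⟨_, h.solv _ (h.two x (d * c)), left_mem _ _, (mul_mem_cancel_left h2).1 (right_mem _ _),
    fun e => hy (hM.mem x trivial hxM hx y trivial (e (h1 (conj_mem_cj (mem_zpowers x) y))))⟩

theorem uniq (h : MS G) (h5 : 5 ≤ p) {x : G} (hx : orderOf x = p) {a : G} (ha : a ^ p = 1) (hc : a * x = x * a) :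
    a ∈ zpowers x := by
  obtain ⟨M, hM⟩ := h.exists_se h5 (hx ▸ orderOf_dvd_natCard x)
  obtain ⟨T, hT, hTM, -⟩ := hM.exists_sylIn
  obtain ⟨g, -, hg⟩ := hT.exists_le_cj (isPGroup_zpowers (x := x) (k := 1)
    (by rw [pow_one, ← hx, pow_orderOf_eq_one])) le_top
  have hM' := hM.cj g
  rw [cj_top] at hM'
  have hxM : x ∈ cj M g := cj_mono hTM g (hg (mem_zpowers x))
  obtain ⟨H, hs, hxH, haH, hn⟩ := h.exists_over hM' hxM hx (c := a) (centralizer_le_normalizer' _ (by
    rw [centralizer_zpowers]; exact mem_centralizer_singleton_iff.2 hc))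
  exact (struct hs (se_sub hM' hxH hxM hx hn) hxH hxM hx).1 a haH ha hc

theorem cent_p (h : MS G) (h5 : 5 ≤ p) {x : G} (hx : orderOf x = p) {z : G} (hz : (orderOf z).Coprime p)
    (hc : z * x = x * z) : z = 1 := by
  have hx1 : x ≠ 1 := by rintro rfl; rw [orderOf_one] at hx; omega
  have hzC : z ∈ centralizer {x} := mem_centralizer_singleton_iff.2 hc
  obtain ⟨Q, hQ⟩ := exists_sylIn p (PPOf p (centralizer {x}))
  have h1 := PPOf_le_sup (toH1 hQ)
  rw [h.core_c hx1 (k := 1) (by rw [pow_one, ← hx, pow_orderOf_eq_one]), sup_bot_eq] at h1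
  have e : Q = PPOf p (centralizer {x}) := le_antisymm hQ.le h1
  have h2 := H10.le_centralizer_of_pxq_omega (p := p) (A := ⊥) (Q := zpowers z) (P := Q) (by omega) IsPGroup.of_bot
    (by rwa [Nat.card_zpowers]) bot_le hQ.pgrp bot_le (e ▸ (zpowers_le.2 hzC).trans le_normalizer_PPOf)
    fun a ha hap => by
      obtain ⟨n, rfl⟩ := h.uniq h5 hx hap (mem_centralizer_singleton_iff.1 (PPOf_le (hQ.le ha.1)))
      rw [centralizer_zpowers]
      exact zpow_mem (mem_centralizer_singleton_iff.2 hc.symm) n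
  have h3 := h1 (mem_PPOf_of_centralizes (PLayOf_eq_bot_of_solvable (h.solv _ (h.cent_ne hx1))) (toH1 hQ) hzC
    (h2 (mem_zpowers z)))
  obtain ⟨k, hk⟩ := isPGroup_iff.1 hQ.pgrp z h3
  exact orderOf_eq_one_iff.1 (Nat.eq_one_of_dvd_coprimes (hz.pow_right k) dvd_rfl (orderOf_dvd_of_pow_eq_one hk))

theorem se_norm (h : MS G) (h5 : 5 ≤ p) {x : G} (hx : orderOf x = p) : SE p 𝐍[zpowers x] ⊤ := by
  have hxp : IsPGroup p (zpowers x) := isPGroup_zpowers (k := 1) (by rw [pow_one, ← hx, pow_orderOf_eq_one])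
  have hx1 : x ≠ 1 := by rintro rfl; rw [orderOf_one] at hx; omega
  have key : ∀ y ∈ 𝐍[zpowers x], orderOf y = p → zpowers y = zpowers x := by
    intro y hy hyo
    have hyp : IsPGroup p (zpowers y) := isPGroup_zpowers (k := 1) (by rw [pow_one, ← hyo, pow_orderOf_eq_one])
    obtain ⟨⟨z, hz⟩, hz1⟩ := ne_bot_iff_exists_ne_one.1
      (inf_centralizer_ne_bot hxp hyp (zpowers_le.2 hy) (zpowers_ne_bot.2 hx1))
    have hz1' : z ≠ 1 := fun e => hz1 (Subtype.ext e)
    have hzo : orderOf z = p := orderOf_eq_prime (by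
      rw [← hx, ← Nat.card_zpowers]; exact orderOf_dvd_iff_pow_eq_one.1 (orderOf_dvd_natCard _ hz.1)) hz1'
    have h1 := h.uniq h5 hzo (hyo ▸ pow_orderOf_eq_one y) (hz.2 y (mem_zpowers y))
    exact H24.eq_of_le_of_card_le (zpowers_le.2 (zpowers_le.2 hz.1 h1)) (by
      rw [Nat.card_zpowers, Nat.card_zpowers, hx, hyo])
  refine ⟨fun e => h.norm_ne_top hxp (zpowers_ne_bot.2 hx1) (top_le_iff.1 e),
    dvd_card_of_orderOf ⟨trivial, le_normalizer (mem_zpowers x)⟩ hx, fun y _ hy hyo g _ hg => ?_⟩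
  rw [← cj_eq_self_iff, ← key y hy hyo, cj_zpowers, key _ hg (by rw [orderOf_conj', hyo]), key y hy hyo]

end MS

end Cfsg.Agent.H1.Two
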