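import Cfsg.Agent.H1.Two2

/-! Minimal simple groups are generated by two elements: the end of the proof. -/

namespace Cfsg.Agent.H1.Two

open Subgroup H24
open H10 (OqOf OqOf_coprime OqOf_le le_normalizer_OqOf)
open scoped commutatorElement Pointwise

universe u

variable {G : Type*} [Group G] [Finite G] {p : ℕ} [hp : Fact p.Prime]

theorem exists_eps {x : G} (hx : orderOf x = p) :
    ∃ ε ∈ 𝐍[zpowers x], (orderOf ε).Coprime p ∧ ∀ n ∈ 𝐍[zpowers x], n ^ orderOf ε ∈ centralizer {x} := by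
  have hP : Nat.card (zpowers x) = p := by rw [Nat.card_zpowers, hx]
  haveI : IsCyclic (MulAut (zpowers x)) := by
    have e := IsCyclic.mulAutMulEquiv (zpowers x)
    rw [hP] at e
    exact isCyclic_of_surjective e.symm e.symm.surjective
  let ψ := (zpowers x).normalizerMonoidHom
  obtain ⟨⟨_, n₀, rfl⟩, hg⟩ := IsCyclic.exists_generator (α := ψ.range)
  obtain ⟨u, -, v, -, e, ⟨k, hk⟩, hv⟩ := exists_p_part (p := p) (isOfFinOrder_of_finite n₀)
  have hu : ψ u = 1 := by
    have h1 := orderOf_dvd_natCard (ψ u)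
    rw [IsCyclic.card_mulAut, hP, Nat.totient_prime hp.out] at h1
    refine orderOf_eq_one_iff.1 (Nat.eq_one_of_dvd_coprimes (Nat.Coprime.pow_right k ?_) h1
      (orderOf_dvd_of_pow_eq_one (by rw [← map_pow, hk, map_one])))
    exact (Nat.coprime_self_sub_left hp.out.one_le).2 (by simp)
  refine ⟨v, v.2, by rwa [orderOf_coe], fun n hn => ?_⟩
  obtain ⟨j, hj⟩ := hg ⟨ψ ⟨n, hn⟩, _, rfl⟩
  have h1 : ψ v ^ j = ψ ⟨n, hn⟩ := by
    have := congrArg Subtype.val hj
    simpa [e, hu] using this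
  have h2 : (⟨n, hn⟩ : 𝐍[zpowers x]) ^ orderOf v ∈ ψ.ker := by
    rw [MonoidHom.mem_ker, map_pow, ← h1, ← zpow_natCast, ← zpow_mul, mul_comm, zpow_mul, zpow_natCast, ← map_pow,
      pow_orderOf_eq_one, map_one, one_zpow]
  rw [normalizerMonoidHom_ker, mem_subgroupOf, centralizer_zpowers] at h2
  rwa [orderOf_coe]

theorem MS.pow_eq_one (h : MS G) (h5 : 5 ≤ p) {x : G} (hx : orderOf x = p) {e : ℕ}
    (he : ∀ n ∈ 𝐍[zpowers x], n ^ e ∈ centralizer {x}) {v : G} (hv : (orderOf v).Coprime p) : v ^ e = 1 := by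
  haveI := h.simple
  have hx1 : x ≠ 1 := by rintro rfl; rw [orderOf_one] at hx; omega
  by_contra hne
  refine no_translate hx1 hne fun g => ?_
  rw [← conj_pow]
  have hw : (orderOf (g * v * g⁻¹)).Coprime p := by rwa [orderOf_conj']
  have hne' : (g * v * g⁻¹) ^ e ≠ 1 := by rw [conj_pow]; simpa using hne
  generalize g * v * g⁻¹ = w at hw hne'
  have hwe : (orderOf (w ^ e)).Coprime p := Nat.Coprime.coprime_dvd_left (orderOf_pow_dvd e) hw
  have hxN : x ∈ 𝐍[zpowers x] := le_normalizer (mem_zpowers x)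
  set H := closure {x, w} with hH
  have hn : ¬ H ≤ 𝐍[zpowers x] := fun hle =>
    hne' (h.cent_p h5 hx hwe (mem_centralizer_singleton_iff.1 (he w (hle (right_mem x w)))))
  have hK : H ≤ 𝐍[OqOf p H] := le_normalizer_OqOf le_normalizer
  obtain ⟨k, hk, n, hn', e1⟩ := (H24.mem_sup_of_le_normalizer_left (inf_le_left.trans hK)).1
    ((struct (h.solv H (h.two x w)) (MS.se_sub (h.se_norm h5 hx) (left_mem x w) hxN hx hn) (left_mem x w)
      hxN hx).2 (right_mem x w))
  have aux : ∀ m : ℕ, (k * n) ^ m * (n ^ m)⁻¹ ∈ OqOf p H := fun m => by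
    induction m with
    | zero => simp
    | succ m ih =>
      rw [show (k * n) ^ (m + 1) * (n ^ (m + 1))⁻¹ = k * (n * ((k * n) ^ m * (n ^ m)⁻¹) * n⁻¹) by
        rw [pow_succ', pow_succ']; generalize (k * n) ^ m = A; generalize n ^ m = B; group]
      exact mul_mem hk (conj_mem_of_mem_normalizer (hK hn'.1) ih)
  have h1 : ∃ k' ∈ OqOf p H, w ^ e = k' * n ^ e := ⟨_, aux e, by rw [e1, inv_mul_cancel_right]⟩
  obtain ⟨k', hk', e2⟩ := h1
  have hc := mem_centralizer_singleton_iff.1 (he n hn'.2)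
  have hwH : w ^ e ∈ H := pow_mem (right_mem x w) e
  refine isConj_mul_of_fpf (K := zpowers (w ^ e) ⊔ OqOf p H) (mem_normalizer_of_cj_le ?_)
    (mem_sup_left (mem_zpowers _)) fun a ha hc => h.cent_p h5 hx
      (Nat.Coprime.coprime_dvd_left (orderOf_dvd_natCard _ ha) (coprime_mul (d := 1) (one_mem _) hwH hwe)) hc
  rw [cj_sup, cj_eq_of_mem_normalizer (hK (left_mem x w)), cj_zpowers]
  refine sup_le (zpowers_le.2 ?_) le_sup_right
  have : x * w ^ e * x⁻¹ = (x * k' * x⁻¹ * k'⁻¹) * w ^ e := by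
    rw [e2]
    generalize n ^ e = B at hc
    calc x * (k' * B) * x⁻¹ = x * k' * x⁻¹ * (x * B) * x⁻¹ := by group
      _ = _ := by rw [← hc]; group
  rw [this]
  exact mul_mem (mem_sup_right (mul_mem (conj_mem_of_mem_normalizer (hK (left_mem x w)) hk') (inv_mem hk')))
    (mem_sup_left (mem_zpowers _))

theorem MS.false_of_prime (h : MS G) (h5 : 5 ≤ p) (hd : p ∣ Nat.card G) : False := by
  obtain ⟨x, hx⟩ := exists_prime_orderOf_dvd_card' p hd
  obtain ⟨ε, hε, hεo, he⟩ := exists_eps hx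
  have hxN : x ∈ 𝐍[zpowers x] := le_normalizer (mem_zpowers x)
  obtain ⟨H, hs, hxH, hεH, hn⟩ := h.exists_over (h.se_norm h5 hx) hxN hx hε
  have h1 := (struct hs (MS.se_sub (h.se_norm h5 hx) hxH hxN hx hn) hxH hxN hx).2
  have h2 : pPrimeCore p H ≠ ⊥ := fun e => hn (by
    rw [(H10.OqOf_eq_bot_iff H).2 e, bot_sup_eq] at h1
    exact h1.trans inf_le_right)
  obtain ⟨V, hV, hVK⟩ := H2.exists_isMinNormal_le inferInstance h2
  haveI := hV.normal
  have hc := hV.isMulCommutative_of_isSolvable inferInstance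
  letI : CommGroup V := { (inferInstance : Group V) with mul_comm := fun a b => hc.is_comm.comm a b }
  have hVK' : ∀ w : V, ((w : H) : G) ∈ OqOf p H := fun w => ⟨w, hVK w.2, rfl⟩
  have hVo : ∀ w : V, (orderOf ((w : H) : G)).Coprime p := fun w =>
    Nat.Coprime.coprime_dvd_left (orderOf_dvd_natCard _ (hVK' w)) OqOf_coprime
  have key := norm_ne (G := H) (p := p) (V := V) MulAut.conjNormal (x := ⟨x, hxH⟩) (ε := ⟨ε, hεH⟩)
    (by rw [← hx, orderOf_mk]) (orderOf_pos ε) (mem_normalizer_of_conj_mem fun a ha => by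
      obtain ⟨n, rfl⟩ := ha
      obtain ⟨m, hm⟩ := conj_mem_of_mem_normalizer hε (zpow_mem_zpowers x n)
      exact ⟨m, Subtype.ext (by simpa using hm)⟩)
    (fun i i0 ie e => by
      have := h.cent_p h5 hx (z := ε ^ i) (Nat.Coprime.coprime_dvd_left (orderOf_pow_dvd i) hεo)
        (by simpa using congrArg Subtype.val e)
      exact pow_ne_one_of_lt_orderOf i0.ne' ie this)
    (fun w hw => by
      have e : x * ((w : H) : G) * x⁻¹ = w := congrArg (fun a : V => ((a : H) : G)) hw
      have := h.cent_p h5 hx (hVo w) (mul_inv_eq_iff_eq_mul.1 e).symm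
      exact Subtype.ext (Subtype.ext this))
    (fun w => by
      have e := pow_comm_mul (G := H) (V := V) MulAut.conjNormal V.subtype (fun _ _ => rfl) w ⟨ε, hεH⟩ (orderOf ε)
      have e1 := h.pow_eq_one h5 hx he (v := (w : H) * ε) (Nat.Coprime.coprime_dvd_left (orderOf_dvd_natCard _
        (mul_mem (mem_sup_right (hVK' w)) (mem_sup_left (mem_zpowers ε)))) (coprime_mul (hVK' w) hεH hεo))
      have e2 := congrArg Subtype.val e
      simp only [coe_pow, coe_mul, coe_subtype, pow_orderOf_eq_one, mul_one] at e2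
      rw [e1] at e2
      exact Subtype.ext (Subtype.ext e2.symm))
  refine hV.ne_bot (eq_bot_iff.2 fun w hw => Subtype.ext ?_)
  have e : (w : G) ^ p = 1 := congrArg (fun a : V => ((a : H) : G)) (key ⟨w, hw⟩)
  exact orderOf_eq_one_iff.1 (Nat.eq_one_of_dvd_coprimes (hVo ⟨w, hw⟩) dvd_rfl (orderOf_dvd_of_pow_eq_one e))

omit hp in
theorem MS.false (h : MS G) : False := by
  by_cases hex : ∃ q : ℕ, q.Prime ∧ 5 ≤ q ∧ q ∣ Nat.card G
  · obtain ⟨q, hq, h5, hd⟩ := hex
    haveI : Fact q.Prime := ⟨hq⟩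
    exact h.false_of_prime h5 hd
  push Not at hex
  have h0 : Nat.card G ≠ 0 := Nat.card_pos.ne'
  obtain ⟨a, m, hm, e1⟩ := Nat.exists_eq_pow_mul_and_not_dvd h0 2 (by norm_num)
  have hm0 : m ≠ 0 := by rintro rfl; simp at hm
  obtain ⟨b, n, hn, e2⟩ := Nat.exists_eq_pow_mul_and_not_dvd hm0 3 (by norm_num)
  have : n = 1 := by
    by_contra h1
    obtain ⟨q, hq, hqn⟩ := Nat.exists_prime_and_dvd h1
    have q2 : q ≠ 2 := by rintro rfl; exact hm (e2 ▸ hqn.mul_left _)
    have q3 : q ≠ 3 := by rintro rfl; exact hn hqn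
    have q4 : q ≠ 4 := by rintro rfl; exact absurd hq (by norm_num)
    have := hq.two_le
    exact hex q hq (by omega) (by rw [e1, e2]; exact (hqn.mul_left _).mul_left _)
  exact h.ns (H4.burnside_pq Nat.prime_two Nat.prime_three (by rw [e1, e2, this, mul_one]))

omit hp in
/-- A non-solvable simple group whose proper subgroups are solvable is generated by two elements. -/
theorem two_gen [hs : IsSimpleGroup G] (ns : ¬ Group.IsSolvable G) (h : ∀ H : Subgroup G, H ≠ ⊤ → Group.IsSolvable H) :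
    ∃ a b : G, closure {a, b} = ⊤ := by
  by_contra hc
  push Not at hc
  exact MS.false ⟨hs, ns, h, hc⟩

theorem main (G : Type u) [Group G] [Finite G] :
    (∀ a b : G, Group.IsSolvable (closure ({a, b} : Set G))) → Group.IsSolvable G := by
  refine H2.card_induction (P := fun G _ _ => (∀ a b : G, Group.IsSolvable (closure ({a, b} : Set G))) →
    Group.IsSolvable G) (fun G _ _ ih h => ?_) G
  by_contra ns
  have hsub : ∀ H : Subgroup G, H ≠ ⊤ → Group.IsSolvable H := fun H hH =>
    ih H (H10.card_lt_card_of_ne_top hH) fun a b => by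
      haveI := h a b
      refine solvable_of_solvable_injective (f := (H.subtype.comp (closure {a, b}).subtype).codRestrict (closure {(a : G), (b : G)})
        fun c => ?_) fun c d e => Subtype.ext (Subtype.ext (by have := congrArg Subtype.val e; exact this))
      have := mem_map_of_mem H.subtype c.2
      rwa [MonoidHom.map_closure, Set.image_pair] at this
  haveI : Nontrivial G := by
    by_contra h1
    rw [not_nontrivial_iff_subsingleton] at h1
    exact ns inferInstance
  haveI : IsSimpleGroup G := ⟨fun N hN => by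
    by_contra hc
    push Not at hc
    haveI := hsub N hc.2
    haveI := ih (G ⧸ N) (H10.card_quotient_lt_of_ne_bot hc.1) fun a b => by
      obtain ⟨a, rfl⟩ := QuotientGroup.mk'_surjective N a
      obtain ⟨b, rfl⟩ := QuotientGroup.mk'_surjective N b
      haveI := h a b
      rw [← Set.image_pair, ← MonoidHom.map_closure]
      exact solvable_of_surjective ((QuotientGroup.mk' N).subgroupMap_surjective _)
    exact ns (solvable_of_ker_le_range N.subtype (QuotientGroup.mk' N) (by simp))⟩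
  obtain ⟨a, b, e⟩ := two_gen ns hsub
  have := h a b
  rw [e] at this
  exact ns (solvable_of_surjective (f := (⊤ : Subgroup G).subtype) fun g => ⟨⟨g, trivial⟩, rfl⟩)

end Cfsg.Agent.H1.Two
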