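import Cfsg.Agent.H1.Two3
import Cfsg.Agent.H4.Frobenius

/-! A finite group is solvable when all its solvabilizers are subgroups. -/

namespace Cfsg.Agent.H1.Two

open Subgroup

universe u

/-- `x` and `y` generate a solvable subgroup. -/
def Sol {G : Type*} [Group G] (x y : G) : Prop := Group.IsSolvable (closure ({x, y} : Set G))

variable {G : Type*} [Group G]

theorem Sol.symm {x y : G} (h : Sol x y) : Sol y x := by
  unfold Sol at *; rwa [Set.pair_comm]

theorem sol_sub {H : Subgroup G} (a b : H) : Sol a b ↔ Sol (a : G) b := by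
  have e := (closure ({a, b} : Set H)).equivMapOfInjective H.subtype H.subtype_injective
  rw [MonoidHom.map_closure, Set.image_pair] at e
  exact ⟨fun h => by haveI : Group.IsSolvable _ := h; exact Group.isSolvable_of_surjective (f := e.toMonoidHom) e.surjective,
    fun h => by
      haveI : Group.IsSolvable (closure {H.subtype a, H.subtype b}) := h
      exact Group.isSolvable_of_surjective (f := e.symm.toMonoidHom) e.symm.surjective⟩

theorem sol_quot {N : Subgroup G} [N.Normal] (hN : Group.IsSolvable N) (a b : G) :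
    Sol (QuotientGroup.mk' N a) (QuotientGroup.mk' N b) ↔ Sol a b := by
  unfold Sol
  rw [← Set.image_pair, ← MonoidHom.map_closure]
  refine ⟨fun h => ?_, fun h => Group.isSolvable_of_surjective ((QuotientGroup.mk' N).subgroupMap_surjective _)⟩
  set C := closure ({a, b} : Set G)
  haveI : Group.IsSolvable (N.subgroupOf C) :=
    solvable_of_solvable_injective (f := (C.subtype.comp (N.subgroupOf C).subtype).codRestrict N fun c => c.2)
      fun c d e => Subtype.ext (Subtype.ext (by have := congrArg Subtype.val e; exact this))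
  refine solvable_of_ker_le_range (N.subgroupOf C).subtype ((QuotientGroup.mk' N).subgroupMap C) fun c hc => ?_
  have : (c : G) ∈ N := (QuotientGroup.eq_one_iff _).1 (congrArg Subtype.val hc)
  exact ⟨⟨c, this⟩, rfl⟩

theorem sol_conj {x y : G} (g : G) (h : Sol x y) : Sol (g * x * g⁻¹) (g * y * g⁻¹) := by
  unfold Sol at *
  have e := (closure ({x, y} : Set G)).equivMapOfInjective (MulAut.conj g).toMonoidHom (MulAut.conj g).injective
  rw [MonoidHom.map_closure, Set.image_pair] at e
  exact Group.isSolvable_of_surjective (f := e.toMonoidHom) e.surjective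

theorem main_sol (G : Type u) [Group G] [Finite G] :
    (∀ x : G, ∃ H : Subgroup G, ∀ y, y ∈ H ↔ Sol x y) → Group.IsSolvable G := by
  refine H2.card_induction (P := fun G _ _ => (∀ x : G, ∃ H : Subgroup G, ∀ y, y ∈ H ↔ Sol x y) →
    Group.IsSolvable G) (fun G _ _ ih h => ?_) G
  by_contra ns
  choose S hS using h
  have hsub : ∀ H : Subgroup G, H ≠ ⊤ → Group.IsSolvable H := fun H hH =>
    ih H (H10.card_lt_card_of_ne_top hH) fun x => ⟨(S x).subgroupOf H, fun y => by
      rw [mem_subgroupOf, hS, sol_sub]⟩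
  haveI : Nontrivial G := by
    by_contra h1
    rw [not_nontrivial_iff_subsingleton] at h1
    exact ns inferInstance
  haveI hs : IsSimpleGroup G := ⟨fun N hN => by
    by_contra hc
    push Not at hc
    have hN' := hsub N hc.2
    haveI := ih (G ⧸ N) (H10.card_quotient_lt_of_ne_bot hc.1) fun a => by
      obtain ⟨a, rfl⟩ := QuotientGroup.mk'_surjective N a
      refine ⟨(S a).map (QuotientGroup.mk' N), fun b => ⟨?_, fun hb => ?_⟩⟩
      · rintro ⟨b, hb, rfl⟩
        exact (sol_quot hN' a b).2 ((hS a b).1 hb)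
      · obtain ⟨b, rfl⟩ := QuotientGroup.mk'_surjective N b
        exact ⟨b, (hS a b).2 ((sol_quot hN' a b).1 hb), rfl⟩
    exact ns (solvable_of_ker_le_range N.subtype (QuotientGroup.mk' N) (by simp))⟩
  have htop : ¬ Group.IsSolvable (⊤ : Subgroup G) := fun this =>
    ns (Group.isSolvable_of_surjective (f := (⊤ : Subgroup G).subtype) fun g => ⟨⟨g, trivial⟩, rfl⟩)
  have hle : ∀ x : G, ∀ H : Subgroup G, H ≠ ⊤ → x ∈ H → H ≤ S x := fun x H hH hx y hy =>
    (hS x y).2 (hsub _ fun e => hH (top_le_iff.1 (e ▸ (closure_le H).2 (Set.pair_subset hx hy))))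
  have hR : (⨅ y, S y).Normal := ⟨fun x hx g => mem_iInf.2 fun y => (hS _ _).2 (by
    have := sol_conj g ((hS _ _).1 (mem_iInf.1 hx (g⁻¹ * y * g)))
    simpa [mul_assoc] using this)⟩
  obtain ⟨a, b, hab⟩ := two_gen ns hsub
  have hR1 : (⨅ y, S y) = ⊥ := (hs.eq_bot_or_eq_top_of_normal _ hR).resolve_right fun e => by
    have : Sol a b := (hS a b).1 (mem_iInf.1 (e ▸ mem_top b) a)
    unfold Sol at this
    rw [hab] at this
    exact htop this
  have hne : ∀ x : G, x ≠ 1 → S x ≠ ⊤ := fun x hx e => hx (by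
    rw [← mem_bot, ← hR1]
    exact mem_iInf.2 fun y => (hS _ _).2 ((hS x y).1 (e ▸ mem_top y)).symm)
  have hself : ∀ x : G, x ∈ S x := fun x => by
    by_cases hx : zpowers x = ⊤
    · haveI : IsCyclic G := ⟨⟨x, fun y => by have : y ∈ zpowers x := hx ▸ mem_top y; exact this⟩⟩
      exact absurd (Group.isSolvable_of_comm fun c d => IsCyclic.isMulCommutative.is_comm.comm c d) ns
    · exact hle x _ hx (mem_zpowers x) (mem_zpowers x)
  obtain ⟨x, hx⟩ := exists_ne (1 : G)
  have hM : ∀ y ∈ S x, y ≠ 1 → S y = S x := fun y hy hy1 =>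
    le_antisymm (hle x _ (hne y hy1) ((hS _ _).2 ((hS _ _).1 hy).symm)) (hle y _ (hne x hx) hy)
  obtain ⟨N, hN, hc, -⟩ := H4.frobenius_kernel (S x) fun g hg y hy hgy => by
    by_contra hy1
    refine hg (hle x (normalizer (S x : Set G)) (fun e => ?_) (le_normalizer (hself x)) ?_)
    · rcases hs.eq_bot_or_eq_top_of_normal (S x) (normalizer_eq_top_iff.1 e) with e1 | e1
      · exact hx (mem_bot.1 (e1 ▸ hself x))
      · exact hne x hx e1
    · refine H24.mem_normalizer_of_conj_mem fun c hc => ?_
      rw [← hM _ hgy (by simpa using hy1), hS]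
      exact sol_conj g ((hS _ _).1 (hM y hy hy1 ▸ hc))
  rcases hs.eq_bot_or_eq_top_of_normal N hN with e | e
  · rw [e] at hc
    exact hne x hx (isComplement'_bot_left.1 hc)
  · rw [e] at hc
    exact hx (mem_bot.1 (isComplement'_top_left.1 hc ▸ hself x))

end Cfsg.Agent.H1.Two
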